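import Mathlib
import Cfsg.Agent.Lib.Helper31.BG134Defs2
import Cfsg.Agent.Lib.Helper55.SylowIn
import Cfsg.Agent.Lib.Helper71.BG10Hall
import Cfsg.Agent.Lib.Helper71.BG11a
import Cfsg.Agent.Lib.Helper91.BG125e
import Cfsg.Agent.S1424

/-!
# BG Lemma 13.4 (S1428), keystone 142823 (K-S1428-A1): CASE A, step A1
`P` centralizes a full Sylow `q`-subgroup of `G`.
-/

set_option autoImplicit false

namespace Cfsg.Agent.Lib.Helper96.BG134

open Cfsg Cfsg.Agent.Lib.Helper55 Cfsg.Agent.Lib.Helper31.BG134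

variable {G : Type*} [Group G] [Finite G]

/-- a `q`-subgroup `T` of `H` with `q ∤ |H : T|` is a Sylow `q`-subgroup of `H` -/
theorem isSylowIn_of_not_dvd_relIndex {q : ℕ} [Fact q.Prime] {H T : Subgroup G} (hTH : T ≤ H)
    (hT : IsPGroup q T) (hnd : ¬ q ∣ T.relIndex H) : IsSylowIn q H T := by
  refine ⟨hTH, hT, ?_⟩
  intro T' hT'H hT'q hle
  -- `|T' : T|` is a power of `q` dividing `|H : T|`
  have h1 : T.relIndex T' ∣ T.relIndex H :=
    Dvd.intro _ (Subgroup.relIndex_mul_relIndex T T' H hle hT'H)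
  have h2 : ∃ n : ℕ, T.relIndex T' = q ^ n := by
    have h3 : IsPGroup q T' := hT'q
    have h4 : T.relIndex T' ∣ Nat.card T' := by
      rw [Subgroup.relIndex]
      exact Subgroup.index_dvd_card _
    obtain ⟨m, hm⟩ := h3.exists_card_eq
    rw [hm] at h4
    obtain ⟨n, _, hn⟩ := (Nat.dvd_prime_pow (Fact.out : q.Prime)).mp h4
    exact ⟨n, hn⟩
  obtain ⟨n, hn⟩ := h2
  have h5 : n = 0 := by
    by_contra hne
    apply hnd
    have : q ∣ T.relIndex T' := by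
      rw [hn]; exact dvd_pow_self q hne
    exact this.trans h1
  rw [h5, pow_zero] at hn
  have h6 : T' ≤ T := Subgroup.relIndex_eq_one.mp hn
  exact le_antisymm h6 hle

/-- KEYSTONE 142823  K-S1428-A1  (CASE A, step A1: `P` centralizes a full Sylow `q`-subgroup of `G`). -/
theorem Ctx.caseA_sylow {M P R H : Subgroup G} {p r : ℕ} (c : Ctx M P R H p r)
    (hnc : ∀ g : G, cj g M ≠ H) (hC : sigmaCore M ⊓ H = CP M P)
    {q : ℕ} [Fact q.Prime] (hqH : q ∈ sigma H) {Q : Subgroup G} (hQC : Q ≤ CP M P)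
    (hQq : IsPGroup q Q) (hQ1 : Q ≠ ⊥) (hNQ : Subgroup.normalizer (Q : Set G) ≤ H) :
    ∃ Sq : Subgroup G, IsSylowIn q ⊤ Sq ∧ Sq ≤ CP M P ∧
      Subgroup.normalizer (Sq : Set G) ≤ M ⊓ H := by
  have hG := c.hG
  have hM := c.hM
  have hH := c.hH
  have hqp : q.Prime := Fact.out
  -- `Q ≤ M_σ`, `Q ≤ M`, `Q ≤ H`
  have hQσ : Q ≤ sigmaCore M := hQC.trans inf_le_left
  have hσM : sigmaCore M ≤ M := by
    unfold sigmaCore
    exact Subgroup.map_subtype_le _
  have hQM : Q ≤ M := hQσ.trans hσM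
  have hQH : Q ≤ H := by
    have : Q ≤ sigmaCore M ⊓ H := by rw [hC]; exact hQC
    exact this.trans inf_le_right
  -- `q ∈ σ(M)`
  have hqQ : q ∣ Nat.card Q := by
    obtain ⟨n, hn⟩ := hQq.exists_card_eq
    have hn0 : n ≠ 0 := by
      rintro rfl
      rw [pow_zero] at hn
      exact hQ1 (Subgroup.card_eq_one.mp hn)
    rw [hn]; exact dvd_pow_self q hn0
  have hqσM : q ∈ sigma M :=
    Cfsg.Agent.Lib.Helper71.BG11.sigmaCore_pi hG hM hqp
      (hqQ.trans (Subgroup.card_dvd_of_le hQσ))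
  -- the Sylow subgroup `T` of `M ∩ H` over `Q`
  obtain ⟨T, hT, hQT⟩ := exists_isSylowIn_ge (p := q) (le_inf hQM hQH) hQq
  have hHM : H ≠ M := fun h => hnc 1 (by rw [cj_one]; exact h.symm)
  have h24 := Cfsg.Agent.S1424.result hG M hM q hqσM Q hQq hQ1 hQM H hH hHM hNQ hT.toSylow
    (by rw [hT.map_toSylow]; exact hQT)
  rw [hT.map_toSylow] at h24
  obtain ⟨_, hNTM, hndT⟩ := h24
  have hTM : T ≤ M := hT.1.trans inf_le_left
  have hTH : T ≤ H := hT.1.trans inf_le_right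
  -- `T` is a Sylow `q`-subgroup of `H`
  have hTsylH : IsSylowIn q H T := isSylowIn_of_not_dvd_relIndex hTH hT.2.1 hndT
  have hNTH : Subgroup.normalizer (T : Set G) ≤ H :=
    Cfsg.Agent.Lib.Helper71.BG10.sigma_normalizer_le hqH hTsylH
  have hTidx : ¬ q ∣ T.index := Cfsg.Agent.Lib.Helper71.BG10.sigma_not_dvd_index hqH hTsylH
  -- `T` is a Sylow `q`-subgroup of `G`
  have hTsylG : IsSylowIn q ⊤ T := by
    apply isSylowIn_of_not_dvd_relIndex le_top hT.2.1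
    rwa [Subgroup.relIndex_top_right]
  refine ⟨T, hTsylG, ?_, le_inf hNTM hNTH⟩
  have hTσ : T ≤ sigmaCore M :=
    Cfsg.Agent.Lib.Helper91.BG125.le_sigmaCore_of_mem_sigma hG hM hqσM hT.2.1 hTM
  rw [← hC]
  exact le_inf hTσ hTH

end Cfsg.Agent.Lib.Helper96.BG134
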