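import Mathlib
import Cfsg.Agent.Lib.Helper32.CoprimeDecomp

/-!
# BG Lemma 13.4 (S1428), keystone 142826 (K-S1428-A4): pure preliminaries
* the subgroups of a cyclic group `zpowers g` of given order,
* coprime action of a family of commuting subgroups on an abelian `q`-group.
-/

set_option autoImplicit false
set_option linter.unusedSectionVars false
set_option linter.style.haveILetI false

namespace Cfsg.Agent.Lib.Helper96.BG134

variable {G : Type*} [Group G] [Finite G]

/-- the subgroup of order `u` of `zpowers g` -/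
theorem card_zpowers_pow_div (g : G) {u : ℕ} (hu : u ∣ orderOf g) :
    Nat.card (Subgroup.zpowers (g ^ (orderOf g / u))) = u := by
  have hn : 0 < orderOf g := orderOf_pos g
  have hu0 : 0 < u := Nat.pos_of_dvd_of_pos hu hn
  rw [Nat.card_zpowers]
  have hd : orderOf g / u ∣ orderOf g := Nat.div_dvd_of_dvd hu
  have hne : orderOf g / u ≠ 0 := (Nat.div_pos (Nat.le_of_dvd hn hu) hu0).ne'
  rw [orderOf_pow_of_dvd hne hd, Nat.div_div_self hu hn.ne']

theorem zpowers_pow_le (g : G) (k : ℕ) : Subgroup.zpowers (g ^ k) ≤ Subgroup.zpowers g := by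
  rw [Subgroup.zpowers_le]
  exact Subgroup.pow_mem _ (Subgroup.mem_zpowers g) k

/-- an element of `zpowers g` killed by `u ∣ orderOf g` lies in the subgroup of order `u` -/
theorem mem_zpowers_pow_div (g : G) {u : ℕ} (hu : u ∣ orderOf g) {x : G}
    (hx : x ∈ Subgroup.zpowers g) (hxu : x ^ u = 1) :
    x ∈ Subgroup.zpowers (g ^ (orderOf g / u)) := by
  have hn : 0 < orderOf g := orderOf_pos g
  have hu0 : 0 < u := Nat.pos_of_dvd_of_pos hu hn
  rw [← mem_powers_iff_mem_zpowers] at hx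
  obtain ⟨k, rfl⟩ := hx
  rw [← pow_mul] at hxu
  have h1 : orderOf g ∣ k * u := orderOf_dvd_of_pow_eq_one hxu
  obtain ⟨m, hm⟩ := hu
  have hdiv : orderOf g / u = m := by
    rw [hm, Nat.mul_div_cancel_left m hu0]
  rw [hdiv]
  have h2 : m ∣ k := by
    rw [hm, mul_comm u m] at h1
    exact Nat.dvd_of_mul_dvd_mul_right hu0 h1
  obtain ⟨j, rfl⟩ := h2
  show g ^ (m * j) ∈ Subgroup.zpowers (g ^ m)
  rw [pow_mul]
  exact Subgroup.pow_mem _ (Subgroup.mem_zpowers _) j

/-- normalizer membership from one-sided conjugation stability -/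
theorem le_normalizer_of_conj_mem {K L : Subgroup G}
    (h : ∀ g ∈ K, ∀ x ∈ L, g * x * g⁻¹ ∈ L) : K ≤ Subgroup.normalizer (L : Set G) := by
  intro g hg
  rw [Subgroup.mem_normalizer_iff]
  intro x
  constructor
  · exact fun hx => h g hg x hx
  · intro hx
    have := h g⁻¹ (K.inv_mem hg) _ hx
    simpa [mul_assoc] using this

/-- Coprime action of a family of subgroups `U u ≤ E₁` (`E₁` abelian, normalizing the `q`-group
`V`, `q ∤ |E₁|`): `V = ∏ [V, U u] · C_V(all U u)`. -/
theorem le_biSup_commutator_sup_fix {q : ℕ} [Fact q.Prime] (V E₁ : Subgroup G)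
    (hV : IsPGroup q V) (hE₁V : E₁ ≤ Subgroup.normalizer (V : Set G))
    (hE₁ab : ∀ a ∈ E₁, ∀ b ∈ E₁, a * b = b * a) (hqE₁ : ¬ q ∣ Nat.card E₁)
    (U : ℕ → Subgroup G) (hU : ∀ u, U u ≤ E₁) (s : Finset ℕ) :
    V ≤ (⨆ u ∈ s, ⁅V, U u⁆) ⊔ (V ⊓ ⨅ u ∈ s, Subgroup.centralizer (U u : Set G)) := by
  classical
  induction s using Finset.induction_on with
  | empty => simp
  | insert a s ha ih =>
    set Vs : Subgroup G := V ⊓ ⨅ u ∈ s, Subgroup.centralizer (U u : Set G) with hVs
    have hVsV : Vs ≤ V := inf_le_left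
    have hVsq : IsPGroup q Vs := hV.to_le hVsV
    -- `U a` normalizes `Vs`
    have hnorm : U a ≤ Subgroup.normalizer (Vs : Set G) := by
      apply le_normalizer_of_conj_mem
      intro g hg x hx
      have hgE : g ∈ E₁ := hU a hg
      obtain ⟨hxV, hxC⟩ := Subgroup.mem_inf.mp hx
      refine Subgroup.mem_inf.mpr ⟨?_, ?_⟩
      · exact (Subgroup.mem_normalizer_iff.mp (hE₁V hgE) x).mp hxV
      · simp only [Subgroup.mem_iInf] at hxC ⊢
        intro u hu
        have hxu := hxC u hu
        rw [Subgroup.mem_centralizer_iff] at hxu ⊢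
        intro y hy
        have hyE : y ∈ E₁ := hU u hy
        have hgy : g * y = y * g := hE₁ab g hgE y hyE
        have hgy' : g⁻¹ * y = y * g⁻¹ := by
          have := hE₁ab g⁻¹ (E₁.inv_mem hgE) y hyE
          exact this
        have hyx : y * x = x * y := hxu y hy
        calc y * (g * x * g⁻¹) = (y * g) * x * g⁻¹ := by group
          _ = (g * y) * x * g⁻¹ := by rw [hgy]
          _ = g * (y * x) * g⁻¹ := by group
          _ = g * (x * y) * g⁻¹ := by rw [hyx]
          _ = g * x * (y * g⁻¹) := by group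
          _ = g * x * (g⁻¹ * y) := by rw [hgy']
          _ = g * x * g⁻¹ * y := by group
    -- coprimality
    have hqp : q.Prime := Fact.out
    have hcop : (Nat.card Vs).Coprime (Nat.card (U a)) := by
      obtain ⟨k, hk⟩ := IsPGroup.iff_card.mp hVsq
      rw [hk]
      apply Nat.Coprime.pow_left
      rw [Nat.Prime.coprime_iff_not_dvd hqp]
      intro hd
      exact hqE₁ (hd.trans (Subgroup.card_dvd_of_le (hU a)))
    have hsolv : Group.IsSolvable Vs := by
      haveI : Group.IsNilpotent Vs := hVsq.isNilpotent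
      infer_instance
    have hdec := Cfsg.Agent.Lib.Helper32.le_centralizer_sup_commutator hnorm hcop (Or.inl hsolv)
    -- assemble
    have h1 : (⨆ u ∈ s, ⁅V, U u⁆) ≤ ⨆ u ∈ insert a s, ⁅V, U u⁆ := by
      rw [Finset.iSup_insert]
      exact le_sup_right
    have h2 : ⁅V, U a⁆ ≤ ⨆ u ∈ insert a s, ⁅V, U u⁆ := by
      rw [Finset.iSup_insert]
      exact le_sup_left
    have h3 : Vs ⊓ Subgroup.centralizer (U a : Set G) ≤
        V ⊓ ⨅ u ∈ insert a s, Subgroup.centralizer (U u : Set G) := by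
      rw [Finset.iInf_insert, hVs]
      intro x hx
      obtain ⟨hx1, hx2⟩ := Subgroup.mem_inf.mp hx
      obtain ⟨hx3, hx4⟩ := Subgroup.mem_inf.mp hx1
      exact Subgroup.mem_inf.mpr ⟨hx3, Subgroup.mem_inf.mpr ⟨hx2, hx4⟩⟩
    have h4 : ⁅Vs, U a⁆ ≤ ⁅V, U a⁆ := Subgroup.commutator_mono hVsV le_rfl
    calc V ≤ (⨆ u ∈ s, ⁅V, U u⁆) ⊔ Vs := ih
      _ ≤ (⨆ u ∈ insert a s, ⁅V, U u⁆) ⊔
          (V ⊓ ⨅ u ∈ insert a s, Subgroup.centralizer (U u : Set G)) := by
        apply sup_le
        · exact h1.trans le_sup_left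
        · refine hdec.trans (sup_le ?_ ?_)
          · exact h3.trans le_sup_right
          · exact (h4.trans h2).trans le_sup_left

end Cfsg.Agent.Lib.Helper96.BG134
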