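import Mathlib
import Cfsg.Agent.Lib.Helper31.BG134Defs2
import Cfsg.Agent.Lib.Helper31.BG12a
import Cfsg.Agent.Lib.Helper55.SylowIn
import Cfsg.Agent.Lib.Helper55.Uniq3
import Cfsg.Agent.Lib.Helper71.BG11a
import Cfsg.Agent.Lib.Helper71.BG10Sub
import Cfsg.Agent.Lib.Helper71.BG10Hall
import Cfsg.Agent.Lib.Helper13.BG12A
import Cfsg.Agent.Lib.Helper74.BGFrobF
import Cfsg.Agent.Lib.Helper41.BG134Z
import Cfsg.Agent.Lib.Helper11.BG134AB
import Cfsg.Agent.Lib.Helper26.BG134B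
import Cfsg.Agent.Lib.Helper96.BG134A1
import Cfsg.Agent.Lib.Helper96.BG134A4a
import Cfsg.Agent.S1405

/-!
# BG Lemma 13.4 (S1428), keystone 142826 (K-S1428-A4): CASE A, steps A4-A5 (Lemma F)
-/

set_option autoImplicit false
set_option linter.unusedSectionVars false
set_option linter.unusedVariables false
set_option linter.style.haveILetI false

namespace Cfsg.Agent.Lib.Helper96.BG134

open Cfsg Cfsg.Agent.Lib.Helper55 Cfsg.Agent.Lib.Helper31 Cfsg.Agent.Lib.Helper31.BG134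
  Cfsg.Agent.Lib.Helper31.BG12 Cfsg.Agent.Lib.Helper71.BG10 Cfsg.Agent.Lib.Helper71.BG11

variable {G : Type*} [Group G] [Finite G]

/-- H1427 transported to a prime-order subgroup `zpowers y ≤ E₁` of a cyclic Hall `τ₁(M)`-subgroup
`E₁` of a complement `E`: an element of `M_σ` centralizing `y` centralizes a Sylow `u`-subgroup
of `E₁`. -/
theorem exists_sylow_centralized (hG : IsMinSimpleOddOrder G) (h27 : H1427 G) {M E E₁ : Subgroup G}
    (hM : IsCoatom M) (hE : IsComplIn E (sigmaCore M) M) (hE₁ : IsPiHallOf (tau1 M) E₁ E)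
    (hE₁c : IsCyclic E₁) {u : ℕ} [Fact u.Prime] {y : G} (hy : y ∈ E₁) (hyu : orderOf y = u)
    {x : G} (hxσ : x ∈ sigmaCore M) (hxy : x * y = y * x) :
    ∃ R₀ : Subgroup G, IsSylowIn u E₁ R₀ ∧ x ∈ Subgroup.centralizer (R₀ : Set G) := by
  have hu : u.Prime := Fact.out
  have hYle : Subgroup.zpowers y ≤ E₁ := by rw [Subgroup.zpowers_le]; exact hy
  have hYc : Nat.card (Subgroup.zpowers y) = u := by rw [Nat.card_zpowers, hyu]
  have hYu : IsPGroup u (Subgroup.zpowers y) := IsPGroup.of_card (n := 1) (by rw [hYc, pow_one])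
  obtain ⟨R₀, hR₀, hYR₀⟩ := exists_isSylowIn_ge (p := u) hYle hYu
  refine ⟨R₀, hR₀, ?_⟩
  have hyR₀ : y ∈ R₀ := hYR₀ (Subgroup.mem_zpowers y)
  -- `u ∈ τ₁(M)`
  have hu1 : u ∈ tau1 M := by
    apply hE₁.2.1 u hu
    rw [← hYc]
    exact Subgroup.card_dvd_of_le hYle
  -- `R₀` is a Sylow `u`-subgroup of `E`
  have hR₀E : IsSylowIn u E R₀ := by
    apply isSylowIn_of_not_dvd_relIndex (hR₀.1.trans hE₁.1) hR₀.2.1
    rw [← Subgroup.relIndex_mul_relIndex R₀ E₁ E hR₀.1 hE₁.1]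
    intro hd
    rcases (Nat.Prime.dvd_mul hu).mp hd with h | h
    · exact sylow_not_dvd_relIndex hR₀ h
    · exact hE₁.2.2 u hu hu1 h
  have hne : ((hR₀E.toSylow : Sylow u E) : Subgroup E) ≠ ⊥ := by
    intro hbot
    have h1 := hR₀E.map_toSylow
    rw [hbot, Subgroup.map_bot] at h1
    rw [← h1, Subgroup.mem_bot] at hyR₀
    rw [hyR₀, orderOf_one] at hyu
    exact hu.one_lt.ne hyu
  have hR₀cyc : IsCyclic R₀ :=
    isCyclic_of_injective (Subgroup.inclusion hR₀.1) (Subgroup.inclusion_injective hR₀.1)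
  have hcyc : IsCyclic ((hR₀E.toSylow : Sylow u E) : Subgroup E) := by
    rw [hR₀E.coe_toSylow]
    exact isCyclic_of_surjective (Subgroup.subgroupOfEquivOfLe hR₀E.1).symm
      (Subgroup.subgroupOfEquivOfLe hR₀E.1).symm.surjective
  have hy1 : y ≠ 1 := by
    rintro rfl
    rw [orderOf_one] at hyu
    exact hu.one_lt.ne hyu
  have key := h27 M hM E hE u hR₀E.toSylow hne hcyc y
    (by rw [hR₀E.map_toSylow]; exact hyR₀) hy1
  rw [hR₀E.map_toSylow] at key
  have hx1 : x ∈ sigmaCore M ⊓ Subgroup.centralizer ({y} : Set G) := by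
    refine Subgroup.mem_inf.mpr ⟨hxσ, ?_⟩
    rw [Subgroup.mem_centralizer_iff]
    intro z hz
    rw [Set.mem_singleton_iff] at hz
    rw [hz]; exact hxy.symm
  rw [key] at hx1
  exact (Subgroup.mem_inf.mp hx1).2

/-- an element of `M_σ` centralizing all subgroups of prime order of the cyclic Hall
`τ₁(M)`-subgroup `E₁ = zpowers g` of `E` centralizes `E₁` (H1427). -/
theorem mem_centralizer_of_forall_prime (hG : IsMinSimpleOddOrder G) (h27 : H1427 G)
    {M E E₁ : Subgroup G} (hM : IsCoatom M) (hE : IsComplIn E (sigmaCore M) M)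
    (hE₁ : IsPiHallOf (tau1 M) E₁ E) (hE₁c : IsCyclic E₁) {g : G}
    (hg : E₁ = Subgroup.zpowers g) {x : G} (hxσ : x ∈ sigmaCore M)
    (hx : ∀ u ∈ (orderOf g).primeFactors,
      x ∈ Subgroup.centralizer ((Subgroup.zpowers (g ^ (orderOf g / u)) : Subgroup G) : Set G)) :
    x ∈ Subgroup.centralizer (E₁ : Set G) := by
  have hn : 0 < orderOf g := orderOf_pos g
  have hcardE₁ : Nat.card E₁ = orderOf g := by rw [hg, Nat.card_zpowers]
  set K : Subgroup G := E₁ ⊓ Subgroup.centralizer ({x} : Set G) with hK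
  have hKE₁ : K ≤ E₁ := inf_le_left
  have hdvd : orderOf g ∣ Nat.card K := by
    rw [Nat.dvd_iff_prime_pow_dvd_dvd]
    intro u k hu huk
    rcases Nat.eq_zero_or_pos k with rfl | hk
    · simp
    have hun : u ∣ orderOf g := (dvd_pow_self u hk.ne').trans huk
    have humem : u ∈ (orderOf g).primeFactors := Nat.mem_primeFactors.mpr ⟨hu, hun, hn.ne'⟩
    haveI : Fact u.Prime := ⟨hu⟩
    set y : G := g ^ (orderOf g / u) with hy
    have hyE₁ : y ∈ E₁ := by
      rw [hg]; exact Subgroup.pow_mem _ (Subgroup.mem_zpowers g) _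
    have hyu : orderOf y = u := by
      have := card_zpowers_pow_div g hun
      rwa [Nat.card_zpowers] at this
    have hxy : x * y = y * x := by
      have h1 := hx u humem
      rw [Subgroup.mem_centralizer_iff] at h1
      exact (h1 y (Subgroup.mem_zpowers y)).symm
    obtain ⟨R₀, hR₀, hxR₀⟩ := exists_sylow_centralized hG h27 hM hE hE₁ hE₁c hyE₁ hyu hxσ hxy
    have hcardR₀ : Nat.card R₀ = u ^ (orderOf g).factorization u := by
      have h1 := hR₀.toSylow.card_eq_multiplicity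
      rw [hR₀.coe_toSylow, hcardE₁] at h1
      rw [← h1]
      exact (Nat.card_congr (Subgroup.subgroupOfEquivOfLe hR₀.1).toEquiv).symm
    have hkle : k ≤ (orderOf g).factorization u :=
      (Nat.Prime.pow_dvd_iff_le_factorization hu hn.ne').mp huk
    have hR₀K : R₀ ≤ K := by
      refine le_inf hR₀.1 ?_
      intro r hr
      rw [Subgroup.mem_centralizer_iff]
      intro z hz
      rw [Set.mem_singleton_iff] at hz
      rw [hz]
      rw [Subgroup.mem_centralizer_iff] at hxR₀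
      exact (hxR₀ r hr).symm
    calc u ^ k ∣ u ^ (orderOf g).factorization u := pow_dvd_pow u hkle
      _ = Nat.card R₀ := hcardR₀.symm
      _ ∣ Nat.card K := Subgroup.card_dvd_of_le hR₀K
  have hKeq : K = E₁ := by
    apply Subgroup.eq_of_le_of_card_ge hKE₁
    rw [hcardE₁]
    exact Nat.le_of_dvd Nat.card_pos hdvd
  rw [Subgroup.mem_centralizer_iff]
  intro e he
  have he' : e ∈ K := by rw [hKeq]; exact he
  have h2 := (Subgroup.mem_inf.mp he').2
  rw [Subgroup.mem_centralizer_iff] at h2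
  exact (h2 x (Set.mem_singleton x)).symm

/-- **KEYSTONE 142826  K-S1428-A4** (CASE A, steps A4-A5: Lemma F). -/
theorem Ctx.caseA_final {M P R H : Subgroup G} {p r : ℕ} (c : Ctx M P R H p r)
    (hnc : ∀ g : G, cj g M ≠ H) (h27 : H1427 G) (h131 : T131 G) (hpα : p ∈ alpha H)
    {q : ℕ} [Fact q.Prime] {Sq : Subgroup G} (hSq : IsSylowIn q ⊤ Sq)
    (hSqab : ∀ a ∈ Sq, ∀ b ∈ Sq, a * b = b * a) (hSqC : Sq ≤ CP M P)
    (hN : Subgroup.normalizer (Sq : Set G) ≤ M ⊓ H) {E : Subgroup G}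
    (hE : IsComplIn E (sigmaCore M) M) {E₁ : Subgroup G} (hE₁ : IsPiHallOf (tau1 M) E₁ E)
    (hE₁c : IsCyclic E₁) (hPE₁ : P ≤ E₁) (hE₁Sq : E₁ ≤ Subgroup.normalizer (Sq : Set G))
    (hfix : Sq ⊓ Subgroup.centralizer (E₁ : Set G) = ⊥) : False := by
  classical
  have hG := c.hG
  have hM := c.hM
  have hH := c.hH
  have hp : p.Prime := c.hp.1
  haveI : Fact p.Prime := ⟨hp⟩
  have hq : q.Prime := Fact.out
  -- containments
  have hCN : Subgroup.centralizer (P : Set G) ≤ Subgroup.normalizer (P : Set G) :=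
    Subgroup.centralizer_le_normalizer _
  have hPH : P ≤ H := Subgroup.le_normalizer.trans c.hNH
  have hSqσ : Sq ≤ sigmaCore M := hSqC.trans inf_le_left
  have hSqcP : Sq ≤ Subgroup.centralizer (P : Set G) := hSqC.trans inf_le_right
  have hSqM : Sq ≤ M := (Subgroup.le_normalizer.trans hN).trans inf_le_left
  have hSqH : Sq ≤ H := (Subgroup.le_normalizer.trans hN).trans inf_le_right
  have hE₁M : E₁ ≤ M := (hE₁Sq.trans hN).trans inf_le_left
  have hE₁H : E₁ ≤ H := (hE₁Sq.trans hN).trans inf_le_right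
  have hSqq : IsPGroup q Sq := hSq.2.1
  -- `Sq ≠ 1`
  have hSq1 : Sq ≠ ⊥ := by
    rintro rfl
    apply hM.1
    rw [eq_top_iff]
    intro g _
    refine (hN ?_).1
    rw [Subgroup.mem_normalizer_iff]
    intro h
    simp [Subgroup.mem_bot]
  -- `q ∈ σ(M)`, `q ∉ α(H)`, `q ≠ p`
  obtain ⟨nq, hnq⟩ := (IsPGroup.iff_card).1 hSqq
  have hqSq : q ∣ Nat.card Sq := by
    rcases Nat.eq_zero_or_pos nq with rfl | hpos
    · exfalso
      apply hSq1
      rw [pow_zero] at hnq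
      exact Subgroup.card_eq_one.mp hnq
    · rw [hnq]; exact dvd_pow_self q hpos.ne'
  have hqσ : q ∈ sigma M := sigmaCore_pi hG hM hq (hqSq.trans (Subgroup.card_dvd_of_le hSqσ))
  have hnc' : ∀ g : G, cj g H ≠ M := by
    intro g hg
    apply hnc g⁻¹
    rw [← hg, cj_inv_cj]
  have hqα : q ∉ alpha H := fun h => alpha_sigma_disjoint hG hH hM hnc' h hqσ
  have hpσ : p ∉ sigma M := c.hp.2.1
  have hqp : q ≠ p := by rintro rfl; exact hpσ hqσ
  have hp2 : p ≠ 2 := by
    rintro rfl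
    have hodd := ms_odd hG P
    rw [c.hPc] at hodd
    exact absurd hodd (by decide)
  have hP1 : P ≠ ⊥ := by
    rintro rfl
    have h1 := c.hPc
    rw [Subgroup.card_bot] at h1
    exact hp.one_lt.ne' h1.symm
  have hPp : IsPGroup p P := IsPGroup.of_card (n := 1) (by rw [c.hPc, pow_one])
  -- the generator of `E₁`
  obtain ⟨g₀, hg₀⟩ := hE₁c.exists_generator
  set g : G := (g₀ : G) with hgdef
  have hgE₁ : g ∈ E₁ := g₀.2
  have hE₁g : E₁ = Subgroup.zpowers g := by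
    apply le_antisymm
    · intro x hx
      have h1 := hg₀ ⟨x, hx⟩
      rw [Subgroup.mem_zpowers_iff] at h1 ⊢
      obtain ⟨k, hk⟩ := h1
      refine ⟨k, ?_⟩
      have := congrArg Subtype.val hk
      simpa using this
    · rw [Subgroup.zpowers_le]; exact hgE₁
  set n : ℕ := orderOf g with hn
  have hn0 : 0 < n := orderOf_pos g
  have hcardE₁ : Nat.card E₁ = n := by rw [hE₁g, Nat.card_zpowers]
  have hE₁ab : ∀ a ∈ E₁, ∀ b ∈ E₁, a * b = b * a := by
    intro a ha b hb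
    rw [hE₁g] at ha hb
    rw [Subgroup.mem_zpowers_iff] at ha hb
    obtain ⟨i, rfl⟩ := ha
    obtain ⟨j, rfl⟩ := hb
    exact (Commute.zpow_zpow_self g i j).eq
  -- primes of `E₁`
  have hτ : ∀ u : ℕ, u.Prime → u ∣ n → u ∈ tau1 M := by
    intro u hu hun
    apply hE₁.2.1 u hu
    rw [hcardE₁]; exact hun
  have hqn : ¬ q ∣ n := fun h => (hτ q hq h).2.1 hqσ
  have hqE₁ : ¬ q ∣ Nat.card E₁ := by rw [hcardE₁]; exact hqn
  -- the subgroups of prime order
  set U : ℕ → Subgroup G := fun u => Subgroup.zpowers (g ^ (n / u)) with hU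
  have hUE₁ : ∀ u, U u ≤ E₁ := by
    intro u
    rw [hE₁g]
    exact zpowers_pow_le g _
  have hUcard : ∀ u, u ∣ n → Nat.card (U u) = u := fun u hu => card_zpowers_pow_div g hu
  have hUSq : ∀ u, U u ≤ Subgroup.normalizer (Sq : Set G) := fun u => (hUE₁ u).trans hE₁Sq
  -- `U p = P`
  have hpn : p ∣ n := by
    rw [← hcardE₁, ← c.hPc]
    exact Subgroup.card_dvd_of_le hPE₁
  have hUp : P = U p := by
    apply Subgroup.eq_of_le_of_card_ge
    · intro x hx
      have hxE : x ∈ Subgroup.zpowers g := by rw [← hE₁g]; exact hPE₁ hx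
      apply mem_zpowers_pow_div g hpn hxE
      have h1 : (⟨x, hx⟩ : P) ^ Nat.card P = 1 := pow_card_eq_one'
      rw [c.hPc] at h1
      have := congrArg Subtype.val h1
      simpa using this
    · rw [hUcard p hpn, c.hPc]
  -- the index set
  set ιF : Finset ℕ := n.primeFactors.filter
    (fun u => u ≠ p ∧ ¬ Sq ≤ Subgroup.centralizer (U u : Set G)) with hιF
  have hιmem : ∀ u, u ∈ ιF ↔ (u.Prime ∧ u ∣ n) ∧ u ≠ p ∧
      ¬ Sq ≤ Subgroup.centralizer (U u : Set G) := by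
    intro u
    rw [hιF, Finset.mem_filter, Nat.mem_primeFactors]
    constructor
    · rintro ⟨⟨h1, h2, _⟩, h3⟩; exact ⟨⟨h1, h2⟩, h3⟩
    · rintro ⟨⟨h1, h2⟩, h3⟩; exact ⟨⟨h1, h2, hn0.ne'⟩, h3⟩
  -- AB for each `u`
  have hAB : ∀ u, u.Prime → u ∣ n →
      ⁅Sq, U u⁆ ≤ Sq ∧ U u ≤ Subgroup.normalizer ((⁅Sq, U u⁆ : Subgroup G) : Set G) ∧
      ⁅Sq, U u⁆ ⊓ Subgroup.centralizer (U u : Set G) = ⊥ := by
    intro u hu hun
    have h1 := Cfsg.Agent.Lib.Helper11.BG134.commutator_fix_eq_bot Sq (U u) hSqq hSqab (hUSq u)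
      (by
        rw [hUcard u hun]
        intro hd
        have : q = u := (Nat.prime_dvd_prime_iff_eq hq hu).1 hd
        exact hqn (this ▸ hun))
    exact ⟨h1.1, h1.2.1, h1.2.2.1⟩
  -- `⨆ Q = Sq`
  have hsup : (⨆ i : {u // u ∈ ιF}, ⁅Sq, U i.1⁆) = Sq := by
    apply le_antisymm
    · apply iSup_le
      intro i
      have hi := (hιmem i.1).mp i.2
      exact (hAB i.1 hi.1.1 hi.1.2).1
    · have h1 := le_biSup_commutator_sup_fix Sq E₁ hSqq hE₁Sq hE₁ab hqE₁ U hUE₁ n.primeFactors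
      have h2 : Sq ⊓ ⨅ u ∈ n.primeFactors, Subgroup.centralizer (U u : Set G) = ⊥ := by
        rw [eq_bot_iff]
        intro x hx
        obtain ⟨hx1, hx2⟩ := Subgroup.mem_inf.mp hx
        simp only [Subgroup.mem_iInf] at hx2
        rw [← hfix]
        refine Subgroup.mem_inf.mpr ⟨hx1, ?_⟩
        exact mem_centralizer_of_forall_prime hG h27 hM hE hE₁ hE₁c hE₁g (hSqσ hx1) hx2
      rw [h2, sup_bot_eq] at h1
      refine h1.trans ?_
      apply iSup₂_le
      intro u hu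
      by_cases hmem : u ∈ ιF
      · exact le_iSup (fun i : {u // u ∈ ιF} => ⁅Sq, U i.1⁆) ⟨u, hmem⟩
      · have hu' := Nat.mem_primeFactors.mp hu
        have hcent : Sq ≤ Subgroup.centralizer (U u : Set G) := by
          by_contra hnot
          by_cases hup : u = p
          · apply hnot
            rw [hup, ← hUp]
            exact hSqcP
          · exact hmem ((hιmem u).mpr ⟨⟨hu'.1, hu'.2.1⟩, hup, hnot⟩)
        rw [Subgroup.commutator_eq_bot_iff_le_centralizer.mpr hcent]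
        exact bot_le
  -- `u ∈ τ₁(H)` for `u ∈ ι`
  have hτH : ∀ u ∈ ιF, u ∈ tau1 H := by
    intro u hu
    have hu' := (hιmem u).mp hu
    by_contra hnot
    haveI : Fact u.Prime := ⟨hu'.1.1⟩
    have huσ : u ∉ sigma M := (hτ u hu'.1.1 hu'.1.2).2.1
    have hUp' : IsPGroup u (U u) := IsPGroup.of_card (n := 1) (by rw [hUcard u hu'.1.2, pow_one])
    have h1 := h131 M H hM hH hnc u huσ (U u) hUp' ((hUE₁ u).trans hE₁M) ((hUE₁ u).trans hE₁H) hnot
    apply hu'.2.2
    intro x hx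
    rw [Subgroup.mem_centralizer_iff]
    intro y hy
    have h2 := h1 hy
    rw [Subgroup.mem_centralizer_iff] at h2
    exact (h2 x (Subgroup.mem_inf.mpr ⟨hSqσ hx, hSqH hx⟩)).symm
  -- `B`: the subgroup of `E₁` of order `m = ∏ ι`
  set m : ℕ := ∏ u ∈ ιF, u with hm
  have hmn : m ∣ n := by
    apply Finset.prod_primes_dvd
    · intro u hu; exact ((hιmem u).mp hu).1.1.prime
    · intro u hu; exact ((hιmem u).mp hu).1.2
  set B : Subgroup G := Subgroup.zpowers (g ^ (n / m)) with hB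
  have hBcard : Nat.card B = m := card_zpowers_pow_div g hmn
  have hBE₁ : B ≤ E₁ := by rw [hE₁g]; exact zpowers_pow_le g _
  have hUB : ∀ u ∈ ιF, U u ≤ B := by
    intro u hu
    have hum : u ∣ m := Finset.dvd_prod_of_mem (fun u => u) hu
    have hu' := (hιmem u).mp hu
    rw [hU, hB]
    show Subgroup.zpowers (g ^ (n / u)) ≤ Subgroup.zpowers (g ^ (n / m))
    rw [Subgroup.zpowers_le]
    have h1 : n / u = (n / m) * (m / u) := by
      obtain ⟨a, ha⟩ := hmn
      obtain ⟨b, hb⟩ := hum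
      have hu0 : 0 < u := hu'.1.1.pos
      have hm0 : 0 < m := Nat.pos_of_dvd_of_pos ⟨a, ha⟩ hn0
      rw [ha, Nat.mul_div_cancel_left a hm0]
      rw [hb, Nat.mul_div_cancel_left b hu0, mul_assoc, Nat.mul_div_cancel_left (b * a) hu0]
      ring
    rw [h1, pow_mul]
    exact Subgroup.pow_mem _ (Subgroup.mem_zpowers _) _
  -- `Γ = Sq B`
  set Γ : Subgroup G := Sq ⊔ B with hΓ
  have hBSq : B ≤ Subgroup.normalizer (Sq : Set G) := hBE₁.trans hE₁Sq
  have hΓH : Γ ≤ H := sup_le hSqH (hBE₁.trans hE₁H)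
  have hΓtop : Γ ≠ ⊤ := by
    intro h
    exact hH.1 (top_le_iff.mp (h ▸ hΓH))
  have hsolv : Group.IsSolvable Γ := ms_solvable hG hΓtop
  have hΓK : Γ ≤ Subgroup.normalizer (alphaCore H : Set G) :=
    hΓH.trans (le_normalizer_piCoreOf (alpha H) H)
  have hcop : (Nat.card Γ).Coprime (Nat.card (alphaCore H)) := by
    apply Nat.coprime_of_dvd
    intro k hk hkΓ hkα
    have hkα' : k ∈ alpha H := alphaCore_pi hk hkα
    haveI : Fact k.Prime := ⟨hk⟩
    have hkq : k ≠ q := by rintro rfl; exact hqα hkα'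
    have hkSq : ¬ k ∣ Nat.card Sq := by
      rw [hnq]
      intro hd
      exact hkq ((Nat.prime_dvd_prime_iff_eq hk hq).1 (hk.dvd_of_dvd_pow hd))
    have hkB : ¬ k ∣ Nat.card B := by
      rw [hBcard, hm]
      intro hd
      obtain ⟨u, hu, hku⟩ := (Prime.dvd_finsetProd_iff hk.prime (fun u => u)).mp hd
      have hu' := (hιmem u).mp hu
      have hkueq : k = u := (Nat.prime_dvd_prime_iff_eq hk hu'.1.1).1 hku
      have hk1 : k ∈ tau1 H := hkueq ▸ hτH u hu
      apply hkα'.2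
      intro A hA hAk
      have h1 := hk1.2.2.2.2 A hA hAk
      calc Nat.card A ≤ k ^ 1 := h1
        _ ≤ k ^ 2 := Nat.pow_le_pow_right hk.pos (by norm_num)
    exact Cfsg.Agent.Lib.Helper74.BGFrobF.not_dvd_card_sup Sq B hBSq hkSq hkB hkΓ
  have hHall := Cfsg.Agent.S1405.result hG H hH
  have hKidx : ¬ p ∣ (alphaCore H).index := hHall.2.1.2 p hp hpα
  have hPα : P ≤ alphaCore H := by
    refine le_of_isPiHallOf_normal hHall.1 (le_normalizer_piCoreOf (alpha H) H) hPH ?_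
    intro s hs hsd
    rw [c.hPc] at hsd
    have := (Nat.prime_dvd_prime_iff_eq hs hp).1 hsd
    rw [this]; exact hpα
  have hE₁cP : E₁ ≤ Subgroup.centralizer (P : Set G) := by
    intro e he
    rw [Subgroup.mem_centralizer_iff]
    intro x hx
    exact hE₁ab x (hPE₁ hx) e he
  have hΓcP : Γ ≤ Subgroup.centralizer (P : Set G) := sup_le hSqcP (hBE₁.trans hE₁cP)
  have hΓP : Γ ≤ Subgroup.normalizer (P : Set G) := hΓcP.trans hCN
  obtain ⟨S, hPS, hSα, hΓS, hSsyl, -⟩ :=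
    exists_inv_sylow_ge hsolv hΓK hcop hKidx hPα hPp hΓP
  -- `S` is not cyclic
  have hSnc : ¬ IsCyclic S := by
    intro hcyc
    obtain ⟨A, hAH, hAc, hAp, hA3⟩ := not_pRankLE_sub_iff.mp hpα.2
    obtain ⟨k, -, hk⟩ := hSsyl.exists_conj_le (le_top : A ≤ ⊤) (isPGroup_of_pow_eq_one hAp)
    have h1 := Cfsg.Agent.Lib.Helper26.BG134.card_le_of_le_cyclic hp hk hcyc (exp_cj k hAp)
    rw [card_cj] at h1
    have h2 : p < p ^ 2 := by
      have := hp.one_lt
      nlinarith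
    omega
  -- Lemma F
  have hCQ : IsCyclic ↥(S ⊓ Subgroup.centralizer (Sq : Set G)) := by
    apply Cfsg.Agent.Lib.Helper13.BG12.isCyclic_of_pRankLE_one hp2 c.hp.2.2.2.2
      (Q := S ⊓ Subgroup.centralizer (Sq : Set G))
    · exact (inf_le_right.trans (Subgroup.centralizer_le_normalizer _)).trans
        (hN.trans inf_le_left)
    · exact hSsyl.2.1.to_le inf_le_left
  apply hSnc
  refine Cfsg.Agent.Lib.Helper74.BGFrobF.isCyclic_of_frobenius_family (ι := {u // u ∈ ιF}) S P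
    (fun i => ⁅Sq, U i.1⁆) (fun i => U i.1) hSsyl.2.1 ?_ ?_ ?_ ?_ ?_ ?_ ?_ ?_ ?_ ?_ hP1 hPS ?_ ?_
  · -- hQab
    intro i a ha b hb
    have hi := (hιmem i.1).mp i.2
    have hle := (hAB i.1 hi.1.1 hi.1.2).1
    exact hSqab a (hle ha) b (hle hb)
  · -- hQp
    intro i hd
    have hi := (hιmem i.1).mp i.2
    have hle := (hAB i.1 hi.1.1 hi.1.2).1
    have h1 : p ∣ Nat.card Sq := hd.trans (Subgroup.card_dvd_of_le hle)
    rw [hnq] at h1
    exact hqp ((Nat.prime_dvd_prime_iff_eq hp hq).1 (hp.dvd_of_dvd_pow h1)).symm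
  · -- hRc
    intro i
    have hi := (hιmem i.1).mp i.2
    rw [hUcard i.1 hi.1.2]
    exact ⟨hi.1.1, hi.2.1⟩
  · -- hRQ
    intro i
    have hi := (hιmem i.1).mp i.2
    exact (hAB i.1 hi.1.1 hi.1.2).2.1
  · -- hfix
    intro i
    have hi := (hιmem i.1).mp i.2
    exact (hAB i.1 hi.1.1 hi.1.2).2.2
  · -- hQS
    intro i
    have hi := (hιmem i.1).mp i.2
    exact ((hAB i.1 hi.1.1 hi.1.2).1.trans le_sup_left).trans hΓS
  · -- hRS
    intro i
    exact ((hUB i.1 i.2).trans le_sup_right).trans hΓS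
  · -- hRQs
    intro i
    rw [hsup]
    exact hUSq i.1
  · -- hCR
    intro i
    have hi := (hιmem i.1).mp i.2
    exact Cfsg.Agent.Lib.Helper41.BG134.isCyclic_inf_centralizer_of_tau1 hG hH (hτH i.1 i.2)
      ((hUE₁ i.1).trans hE₁H) (hUcard i.1 hi.1.2) hSα hSsyl.2.1
  · -- hCQ
    rw [hsup]
    exact hCQ
  · -- hP₀Q
    intro i
    have hi := (hιmem i.1).mp i.2
    exact (hAB i.1 hi.1.1 hi.1.2).1.trans hSqcP
  · -- hP₀R
    intro i
    exact (hUE₁ i.1).trans hE₁cP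

end Cfsg.Agent.Lib.Helper96.BG134
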