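import Mathlib
import Cfsg.Agent.Lib.Helper71.BG1310Defs
import Cfsg.Agent.Lib.Helper31.BG134Glue
import Cfsg.Agent.Lib.Helper13.BG135
import Cfsg.Agent.Lib.Helper41.BG134Z
import Cfsg.Agent.S1415
import Cfsg.Agent.S1428

/-!
# Keystone 131009 (K-BG1310-I), core argument with LEAF A / LEAF B as hypotheses
-/

set_option autoImplicit false

namespace Cfsg.Agent.Lib.Helper96.BG1310

open Cfsg Cfsg.Agent.Lib.Helper55 Cfsg.Agent.Lib.Helper31.BG134 Cfsg.Agent.Lib.Helper71.BG1310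

variable {G : Type*} [Group G] [Finite G]

/-- `E` normalizes every subgroup of the cyclic normal Hall `τ₃(M)`-subgroup `E₃` of `E`. -/
theorem NR.le_normalizer_of_le {M E E₁ E₃ : Subgroup G} (c : NR M E E₁ E₃) {S₀ : Subgroup G}
    (hS₀ : S₀ ≤ E₃) : E ≤ Subgroup.normalizer (S₀ : Set G) := by
  obtain ⟨hcyc, -, hnorm⟩ := (Cfsg.Agent.S1415.result c.hG M c.hM E c.hE).2.2 E₃ c.hE₃
  intro e he
  have hcjE : cj e E₃ = E₃ := cj_eq_self_iff.mpr (hnorm he)
  have h1 : cj e S₀ ≤ E₃ := by rw [← hcjE]; exact cj_mono hS₀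
  have h2 : Nat.card (cj e S₀) = Nat.card S₀ :=
    Subgroup.card_map_of_injective (MulAut.conj e).injective
  exact cj_eq_self_iff.mp (Cfsg.Agent.Lib.Helper41.BG134.z_eq_of_le_cyclic hcyc h1 hS₀ h2)

/-- (D1) step 2 with the outputs of LEAF A and LEAF B as hypotheses. -/
theorem NR.sub_tau1_of_reg_aux {M E E₁ E₃ : Subgroup G} (c : NR M E E₁ E₃) (hreg : CP M E₁ = ⊥)
    {S₀ H : Subgroup G} (hS₀ : S₀ ≤ E₃)
    (hH : IsCoatom H) (hNH : Subgroup.normalizer (S₀ : Set G) ≤ H)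
    (hnc : ∀ g : G, cj g M ≠ H) (hMH : sigmaCore M ⊓ H = CP M E₃) :
    ∀ u : ℕ, u.Prime → u ∣ Nat.card E₁ → u ∈ tau1 H := by
  intro u hu hdvd
  by_contra hnot
  have : Fact u.Prime := ⟨hu⟩
  have huτ : u ∈ tau1 M := c.hE₁.2.1 u hu hdvd
  obtain ⟨x, hx⟩ := exists_prime_orderOf_dvd_card' (G := ↥E₁) u hdvd
  have hxu : orderOf (x : G) = u := by rw [Subgroup.orderOf_coe]; exact hx
  have hXE₁ : Subgroup.zpowers (x : G) ≤ E₁ := Subgroup.zpowers_le.mpr x.2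
  have hXc : Nat.card (Subgroup.zpowers (x : G)) = u := by rw [Nat.card_zpowers, hxu]
  have hXp : IsPGroup u (Subgroup.zpowers (x : G)) :=
    IsPGroup.of_card (n := 1) (by rw [hXc, pow_one])
  have hX1 : Subgroup.zpowers (x : G) ≠ ⊥ := by
    intro h
    rw [h, Subgroup.card_bot] at hXc
    exact hu.ne_one hXc.symm
  have hEN : E ≤ Subgroup.normalizer (S₀ : Set G) := NR.le_normalizer_of_le c hS₀
  have hXE : Subgroup.zpowers (x : G) ≤ E := hXE₁.trans c.hE₁.1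
  have hXM : Subgroup.zpowers (x : G) ≤ M := hXE.trans c.hE.1
  have hXH : Subgroup.zpowers (x : G) ≤ H := (hXE.trans hEN).trans hNH
  have hT := lemmaT c.hG c.hM hH hnc huτ.2.1 hnot hXp hXM hXH
  have hE₁c : IsCyclic E₁ := (Cfsg.Agent.S1415.result c.hG M c.hM E c.hE).2.1 E₁ c.hE₁
  have h28 : Cfsg.Agent.Lib.Helper13.BG135.H1428 G :=
    fun M hM E hE p hp P hPE hP R hRE hR =>
      Cfsg.Agent.S1428.result c.hG M hM E hE p hp P hPE hP R hRE hR
  have hpa := Cfsg.Agent.Lib.Helper13.BG135.prime_action_subgroup c.hG h28 c.hM c.hE c.hE₁ hE₁c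
    hXE₁ hX1
  have hle : CP M E₃ ≤ CP M (Subgroup.zpowers (x : G)) := by
    rw [← hMH]
    intro y hy
    refine Subgroup.mem_inf.mpr ⟨hy.1, ?_⟩
    rw [Subgroup.mem_centralizer_iff]
    intro z hz
    have := (Subgroup.mem_centralizer_iff.mp (hT hz)) y hy
    exact this.symm
  have : CP M E₃ = ⊥ := by
    apply le_bot_iff.mp
    calc CP M E₃ ≤ CP M (Subgroup.zpowers (x : G)) := hle
      _ = CP M E₁ := hpa
      _ = ⊥ := hreg
  exact c.hC3 this

end Cfsg.Agent.Lib.Helper96.BG1310
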