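import Mathlib
import Cfsg.Agent.Lib.Helper15.BG142Defs
import Cfsg.Agent.Lib.Helper01.BG134CJ
import Cfsg.Agent.Lib.Helper16.BG134Asm

/-!
# Keystone 143001 (K-TX-1): `Bad.basic`
-/

set_option autoImplicit false

namespace Cfsg.Agent.Lib.Helper96.BG142

open Cfsg Cfsg.Agent.Lib.Helper55 Cfsg.Agent.Lib.Helper31.BG134 Cfsg.Agent.Lib.Helper15.BG139
  Cfsg.Agent.Lib.Helper15.BG142

variable {G : Type*} [Group G] [Finite G]

theorem Bad.basic {M P H : Subgroup G} {p : ℕ} (b : Bad M P H p) (hSP : HSP G) (hT : T131 G) :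
    (∀ g : G, cj g M ≠ H) ∧ (∀ q : ℕ, q ∈ sigma H → q ∉ sigma M) ∧
      sigmaCore M ⊓ H = CP M P := by
  have hpp : p.Prime := b.hp2.1
  have : Fact p.Prime := ⟨hpp⟩
  have hr1 : PRankLE p 1 ↥M := by
    rcases b.hp13 with h | h
    · exact h.2.2.2.2
    · exact h.2.2.2
  have hpσ : p ∉ sigma M := by
    rcases b.hp13 with h | h
    · exact h.2.1
    · exact h.2.1
  have hnc : ∀ g : G, cj g M ≠ H := by
    intro g hg
    have h1 : p ∈ tau2 (cj g⁻¹ H) := Cfsg.Agent.Lib.Helper01.BG134.mem_tau2_cj b.hp2 g⁻¹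
    rw [← hg, cj_inv_cj] at h1
    exact h1.2.2.2 hr1
  refine ⟨hnc, ?_, ?_⟩
  · intro q hq
    exact hSP H M b.hH b.hM (Cfsg.Agent.Lib.Helper16.BG134.not_conj_symm hnc) q hq
  · have hPH : P ≤ H := Subgroup.le_normalizer.trans b.hNH
    have hPp : IsPGroup p P := IsPGroup.of_card (n := 1) (by rw [b.hPc, pow_one])
    have hnτ1 : p ∉ tau1 H := fun h => b.hp2.2.2.2 h.2.2.2.2
    have hcent := hT M H b.hM b.hH hnc p hpσ P hPp b.hPM hPH hnτ1
    apply le_antisymm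
    · intro y hy
      refine Subgroup.mem_inf.mpr ⟨hy.1, ?_⟩
      rw [Subgroup.mem_centralizer_iff]
      intro z hz
      exact ((Subgroup.mem_centralizer_iff.mp (hcent hz)) y hy).symm
    · intro y hy
      refine Subgroup.mem_inf.mpr ⟨hy.1, ?_⟩
      exact b.hNH (Subgroup.centralizer_le_normalizer (P : Set G) (Subgroup.mem_inf.mp hy).2)

end Cfsg.Agent.Lib.Helper96.BG142
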