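import Mathlib
import Cfsg.Agent.Lib.Helper15.BG142Defs2
import Cfsg.Agent.Lib.Helper03.FrobThompson
import Cfsg.Agent.Lib.Helper13.BG12B
import Cfsg.Agent.S1420
import Cfsg.Agent.S1350

/-!
# Keystone 143022 (K-R2): `abelian_of_fpf`
-/

set_option autoImplicit false

namespace Cfsg.Agent.Lib.Helper96.BG142

open Cfsg Cfsg.Agent.Lib.Helper55 Cfsg.Agent.Lib.Helper31.BG134 Cfsg.Agent.Lib.Helper15.BG139
  Cfsg.Agent.Lib.Helper15.BG142

variable {G : Type*} [Group G] [Finite G]

theorem abelian_of_fpf (hG : IsMinSimpleOddOrder G) {M E U K : Subgroup G} (hM : IsCoatom M)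
    (hE : IsComplIn E (sigmaCore M) M) (hUE : U ≤ E) (hK1 : K ≠ ⊥)
    (hKU : K ≤ Subgroup.normalizer (U : Set G))
    (hfpf : ∀ k ∈ K, k ≠ 1 → U ⊓ Subgroup.centralizer ({k} : Set G) = ⊥) :
    IsMulCommutative U := by
  have hnil : Group.IsNilpotent U := by
    apply Cfsg.Agent.Lib.Helper03.FrobThompson.isNilpotent_of_fpf U K hK1
    · intro e he u hu
      exact (Subgroup.mem_normalizer_iff.mp (hKU he) u).mp hu
    · intro e he he1 u hu hcomm
      have : u ∈ U ⊓ Subgroup.centralizer ({e} : Set G) := by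
        refine Subgroup.mem_inf.mpr ⟨hu, ?_⟩
        rw [Subgroup.mem_centralizer_iff]
        intro z hz
        rw [Set.mem_singleton_iff] at hz
        rw [hz]; exact hcomm
      rw [hfpf e he he1, Subgroup.mem_bot] at this
      exact this
  have hHall := (Cfsg.Agent.S1350.result hG M hM).1
  have hprime : ∀ p : ℕ, p.Prime → p ∣ Nat.card U → p ∉ sigma M := by
    intro p hp hpd
    exact Cfsg.Agent.Lib.Helper13.BG12.complIn_prime_not_mem_sigma hHall hE p hp
      (hpd.trans (Subgroup.card_dvd_of_le hUE))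
  exact (Cfsg.Agent.S1420.result hG M hM E hE).1 U (hUE.trans hE.1) hnil hprime

end Cfsg.Agent.Lib.Helper96.BG142
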