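import Mathlib
import Cfsg.Agent.Lib.Helper31.BG137Defs
import Cfsg.Agent.Lib.Helper66.ConjFixed
import Cfsg.Agent.S1418

/-!
# Keystone 137702 (K-137N-A2): `P` does not centralize `A`, and `p ∣ q - 1`
-/

set_option autoImplicit false

namespace Cfsg.Agent.Lib.Helper96.BG137

open Cfsg Cfsg.Agent.Lib.Helper55 Cfsg.Agent.Lib.Helper31.BG137 Cfsg.Agent.Lib.Helper15.BG139

variable {G : Type*} [Group G] [Finite G]

theorem Cfg.dvd_sub_one {M E P A : Subgroup G} {p q : ℕ} (c : Cfg M E P A p q)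
    (hR : Nat.card ↥(A ⊓ Subgroup.centralizer (P : Set G)) = q) :
    ¬ A ≤ Subgroup.centralizer (P : Set G) ∧ p ∣ q - 1 := by
  have hpp : p.Prime := c.hp.1
  have hqp : q.Prime := c.hq.1
  have : Fact p.Prime := ⟨hpp⟩
  have : Fact q.Prime := ⟨hqp⟩
  refine ⟨?_, ?_⟩
  · intro hle
    have h1 : A ⊓ Subgroup.centralizer (P : Set G) = A := inf_eq_left.mpr hle
    rw [h1, c.hAc] at hR
    have h2 : 2 ≤ q := hqp.two_le
    nlinarith
  · have hPp : IsPGroup p P := IsPGroup.of_card (n := 1) (by rw [c.hP, pow_one])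
    have hEN : E ≤ Subgroup.normalizer (A : Set G) :=
      (Cfsg.Agent.S1418.result c.hG M c.hM E c.hE q c.hq A ⟨c.hAE, c.hAe, c.hAc⟩).1.1
    have hmod := Cfsg.Agent.Lib.Helper66.card_modEq_card_inf_centralizer P A hPp
      (c.hPE.trans hEN)
    rw [c.hAc, hR] at hmod
    -- `q ^ 2 ≡ q [MOD p]`
    have hne : p ≠ q := by
      intro h
      exact c.hq.2.2.2 (h ▸ c.hp.2.2.2.2)
    have hq1 : 1 ≤ q := hqp.one_lt.le
    have hdvd : p ∣ q * (q - 1) := by
      have h3 : q * (q - 1) = q ^ 2 - q := by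
        rw [Nat.mul_sub, mul_one, sq]
      rw [h3]
      exact (Nat.modEq_iff_dvd' (by nlinarith)).mp hmod.symm
    rcases (Nat.Prime.dvd_mul hpp).mp hdvd with h | h
    · exact absurd ((Nat.prime_dvd_prime_iff_eq hpp hqp).mp h) hne
    · exact h

end Cfsg.Agent.Lib.Helper96.BG137
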