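import Mathlib
import Cfsg.Agent.Lib.Helper15.BG139Defs
import Cfsg.Agent.Lib.Helper31.BG12a
import Cfsg.Agent.Lib.Helper13.BG12A
import Cfsg.Agent.Lib.Helper13.BG12B
import Cfsg.Agent.Lib.Helper41.BG134Z
import Cfsg.Agent.Lib.Helper96.BG134A1
import Cfsg.Agent.S1424
import Cfsg.Agent.S1378
import Cfsg.Agent.S1420
import Cfsg.Agent.S1418
import Cfsg.Agent.S1417
import Cfsg.Agent.S1350

/-!
# Keystone 135303 (K-S1353-Q): consequence (Q) of the sigma-partition

`t ∈ σ(M)`, `Y ≠ 1` a `t`-subgroup of `M` with `N_G(Y) ≤ M* ≠ M`: then `M ⊓ M*` is a complement of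
`M*σ` in `M*` and `t ∈ τ₂(M*)`.
-/

set_option autoImplicit false

namespace Cfsg.Agent.Lib.Helper96.BG14

open Cfsg Cfsg.Agent.Lib.Helper55 Cfsg.Agent.Lib.Helper31.BG134 Cfsg.Agent.Lib.Helper15.BG139

variable {G : Type*} [Group G] [Finite G]

theorem complIn_inf_of_normalizer_le (hG : IsMinSimpleOddOrder G) {M Mstar Y : Subgroup G}
    (hM : IsCoatom M) (hMs : IsCoatom Mstar) (hne : Mstar ≠ M) {t : ℕ} [Fact t.Prime]
    (ht : t ∈ sigma M) (hYt : IsPGroup t Y) (hY1 : Y ≠ ⊥) (hYM : Y ≤ M)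
    (hNY : Subgroup.normalizer (Y : Set G) ≤ Mstar) :
    IsComplIn (M ⊓ Mstar) (sigmaCore Mstar) Mstar ∧ t ∈ tau2 Mstar := by
  classical
  have htp : t.Prime := Fact.out
  have hYMs : Y ≤ Mstar := Subgroup.le_normalizer.trans hNY
  have hYI : Y ≤ M ⊓ Mstar := le_inf hYM hYMs
  obtain ⟨S, hS⟩ :=
    (hYt.comap_subtype : IsPGroup t (Y.subgroupOf (M ⊓ Mstar))).exists_le_sylow
  have hYS : Y ≤ (S : Subgroup ↥(M ⊓ Mstar)).map (M ⊓ Mstar).subtype := by
    intro y hy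
    exact ⟨⟨y, hYI hy⟩, hS (Subgroup.mem_subgroupOf.mpr hy), rfl⟩
  obtain ⟨hnc, hNS, hidx⟩ :=
    Cfsg.Agent.S1424.result hG M hM t ht Y hYt hY1 hYM Mstar hMs hne hNY S hYS
  generalize hS'def : (S : Subgroup ↥(M ⊓ Mstar)).map (M ⊓ Mstar).subtype = S' at hYS hNS hidx
  have hS'I : S' ≤ M ⊓ Mstar := by rw [← hS'def]; exact Subgroup.map_subtype_le _
  have hS'p : IsPGroup t S' := by rw [← hS'def]; exact S.isPGroup'.map _
  have hS'M : S' ≤ M := hS'I.trans inf_le_left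
  have hS'Ms : S' ≤ Mstar := hS'I.trans inf_le_right
  -- `t ∉ σ(M*)`
  have htMs : t ∉ sigma Mstar := by
    intro h
    obtain ⟨g, hg⟩ := (Cfsg.Agent.S1378.result hG).2 M Mstar hM hMs ⟨t, ht, h⟩
    exact hnc g hg
  have hSyl : IsSylowIn t Mstar S' :=
    Cfsg.Agent.Lib.Helper96.BG134.isSylowIn_of_not_dvd_relIndex hS'Ms hS'p hidx
  have hS'1 : S' ≠ ⊥ := fun h => hY1 (le_bot_iff.mp (h ▸ hYS))
  have htdvd : t ∣ Nat.card Mstar := by
    have h1 : Nat.card S' ∣ Nat.card Mstar := Subgroup.card_dvd_of_le hS'Ms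
    obtain ⟨n, hn⟩ := IsPGroup.iff_card.mp hS'p
    have hn0 : n ≠ 0 := by
      intro h0
      rw [h0, pow_zero] at hn
      exact hS'1 (Subgroup.card_eq_one.mp hn)
    exact (Dvd.intro_left (t ^ (n - 1)) (by rw [← pow_succ, Nat.sub_add_cancel (Nat.pos_of_ne_zero hn0), hn])).trans h1
  -- `S'` is not cyclic
  have hS'nc : ¬ IsCyclic S' := by
    intro hc
    have hNN : Subgroup.normalizer (S' : Set G) ≤ Subgroup.normalizer (Y : Set G) := by
      intro g hg
      have hcjS : cj g S' = S' := cj_eq_self_iff.mpr hg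
      have h1 : cj g Y ≤ S' := by rw [← hcjS]; exact cj_mono hYS
      have h2 : Nat.card (cj g Y) = Nat.card Y :=
        Subgroup.card_map_of_injective (MulAut.conj g).injective
      have h3 : cj g Y = Y := Cfsg.Agent.Lib.Helper41.BG134.z_eq_of_le_cyclic hc h1 hYS h2
      exact cj_eq_self_iff.mp h3
    apply htMs
    refine ⟨htp, htdvd, hSyl.toSylow, ?_⟩
    rw [hSyl.map_toSylow]
    exact hNN.trans hNY
  have ht2 : t ≠ 2 := by
    intro h
    have h1 : t ∣ Nat.card G := htdvd.trans (Subgroup.card_subgroup_dvd_card Mstar)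
    rw [h] at h1
    exact (Nat.not_even_iff_odd.mpr hG.1) (even_iff_two_dvd.mpr h1)
  have hr1 : ¬ PRankLE t 1 ↥Mstar := fun hr =>
    hS'nc (Cfsg.Agent.Lib.Helper13.BG12.isCyclic_of_pRankLE_one ht2 hr hS'Ms hS'p)
  have hr2 : PRankLE t 2 ↥Mstar := by
    by_contra hr
    exact htMs (Cfsg.Agent.Lib.Helper13.BG12.mem_sigma_of_not_pRankLE_two hG hMs htp hr)
  have htau2 : t ∈ tau2 Mstar := ⟨htp, htMs, hr2, hr1⟩
  refine ⟨?_, htau2⟩
  -- an elementary abelian `B ≤ S'` of order `t ^ 2`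
  obtain ⟨A, hAMs, hAel, hAc⟩ := Cfsg.Agent.Lib.Helper13.BG12.exists_elemAb_sq_of_tau2 htau2
  have hAp : IsPGroup t A := by
    intro a
    refine ⟨1, ?_⟩
    apply Subtype.ext
    simpa using hAel.2 a.1 a.2
  obtain ⟨k, hk, hkA⟩ := hSyl.exists_conj_le hAMs hAp
  have hBel : IsElementaryAbelian t (cj k A) :=
    Cfsg.Agent.Lib.Helper15.BG103.isElementaryAbelian_map _ A hAel
  have hBc : Nat.card (cj k A) = t ^ 2 := by
    rw [← hAc]; exact Subgroup.card_map_of_injective (MulAut.conj k).injective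
  generalize cj k A = B at hkA hBel hBc
  have hBM : B ≤ M := hkA.trans hS'M
  have hBMs : B ≤ Mstar := hkA.trans hS'Ms
  have hBp : IsPGroup t B := by
    intro a
    refine ⟨1, ?_⟩
    apply Subtype.ext
    simpa using hBel.2 a.1 a.2
  have hBnc : ¬ IsCyclic B := by
    intro hcyc
    obtain ⟨b, hb⟩ := hcyc.exists_generator
    have h1 : orderOf b = Nat.card B := orderOf_eq_card_of_forall_mem_zpowers hb
    have h2 : b ^ t = 1 := by
      apply Subtype.ext
      simpa using hBel.2 b.1 b.2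
    have h3 : orderOf b ∣ t := orderOf_dvd_of_pow_eq_one h2
    rw [h1, hBc] at h3
    have h4 : t ^ 2 ≤ t := Nat.le_of_dvd htp.pos h3
    have h5 : 2 ≤ t := htp.two_le
    nlinarith
  -- `N_G(B) ≤ M`
  have hHallM := (Cfsg.Agent.S1350.result hG M hM).1
  have hHallMs := (Cfsg.Agent.S1350.result hG Mstar hMs).1
  obtain ⟨E, hE, -⟩ := Cfsg.Agent.Lib.Helper13.BG12.exists_complIn_ge hG hM hHallM
    (K := (⊥ : Subgroup G)) bot_le (by
      intro p hp hpd
      rw [Subgroup.card_bot] at hpd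
      exact absurd (Nat.dvd_one.mp hpd) hp.ne_one)
  have hNB : Subgroup.normalizer (B : Set G) ≤ M :=
    (Cfsg.Agent.S1420.result hG M hM E hE).2.2.1 t B ht hBp hBM hBnc
  -- a complement `E*` of `M*σ` in `M*` containing `B`
  obtain ⟨Es, hEs, hBEs⟩ := Cfsg.Agent.Lib.Helper13.BG12.exists_complIn_ge hG hMs hHallMs hBMs
    (by
      intro p hp hpd
      rw [hBc] at hpd
      have : p = t := (Nat.prime_dvd_prime_iff_eq hp htp).mp (hp.dvd_of_dvd_pow hpd)
      rw [this]; exact htMs)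
  have hEsN : Es ≤ Subgroup.normalizer (B : Set G) :=
    (Cfsg.Agent.S1418.result hG Mstar hMs Es hEs t htau2 B ⟨hBEs, hBel, hBc⟩).1.1
  have hEsM : Es ≤ M := hEsN.trans hNB
  have hbot : sigmaCore Mstar ⊓ M = ⊥ :=
    (Cfsg.Agent.S1417.result hG Mstar hMs t htau2 B ⟨hBMs, hBel, hBc⟩).2.2.2.2.1 M hM hne.symm hBM
  have heq : M ⊓ Mstar = Es := by
    apply le_antisymm
    · intro x hx
      obtain ⟨e, he, a, ha, hxea⟩ := hEs.2.2.2 x hx.2
      have ha' : a ∈ sigmaCore Mstar ⊓ M := by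
        refine ⟨ha, ?_⟩
        have : a = e⁻¹ * x := by rw [hxea]; group
        rw [this]
        exact M.mul_mem (M.inv_mem (hEsM he)) hx.1
      rw [hbot, Subgroup.mem_bot] at ha'
      rw [hxea, ha', mul_one]
      exact he
    · exact le_inf hEsM hEs.1
  rw [heq]
  exact hEs

end Cfsg.Agent.Lib.Helper96.BG14
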