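import Mathlib
import Cfsg.Agent.Lib.Helper83.GSDefs

/-! K-GS leaf K2 (S4840): an involution acts by inversion. -/

set_option autoImplicit false

namespace Cfsg.Agent.Lib.Helper96.GS

open Cfsg.Agent.Lib.Helper83.GS (Good)

universe u

variable {Γ V : Type u} [Group Γ] [Finite Γ] [CommGroup V] [Finite V]

/-- K2 (EASY): an involution `z` of `Γ` acts on `V` (`p` odd) by inversion. -/
theorem involution_inverts (p : ℕ) [Fact p.Prime] (hp2 : p ≠ 2)
    (ρ : Γ →* MulAut V)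
    (hstab : ∀ (g : Γ) (v : V), v ≠ 1 → ρ g v = v → ∃ k : ℕ, g ^ (p ^ k) = 1)
    (z : Γ) (hz : z * z = 1) (hz1 : z ≠ 1) (v : V) : ρ z v = v⁻¹ := by
  have hp : p.Prime := Fact.out
  have hzz : ρ z (ρ z v) = v := by
    have h1 : ρ (z * z) v = v := by rw [hz, map_one]; rfl
    rwa [map_mul] at h1
  have hfix : ρ z (v * ρ z v) = v * ρ z v := by
    rw [map_mul, hzz, mul_comm]
  by_cases hw : v * ρ z v = 1
  · exact (eq_inv_of_mul_eq_one_right hw)
  · exfalso
    obtain ⟨k, hk⟩ := hstab z (v * ρ z v) hw hfix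
    have hodd : Odd (p ^ k) := (hp.odd_of_ne_two hp2).pow
    obtain ⟨m, hm⟩ := hodd
    have hz2 : z ^ 2 = 1 := by rw [pow_two]; exact hz
    rw [hm, pow_succ, pow_mul, hz2, one_pow, one_mul] at hk
    exact hz1 hk

end Cfsg.Agent.Lib.Helper96.GS
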