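import Cfsg.Agent.Lib.Helper98.Oh0
import Cfsg.Agent.Lib.Helper98.Sy6

/-!
# Keystone K-Oh-C0 (S5992/S5993 pack of helper98)

An invariant nondegenerate subspace of a symmetric bilinear space on which an isometry of odd
order has no nonzero fixed vector has even dimension.
-/

set_option autoImplicit false

namespace Cfsg.Agent.Lib.Helper96.Oh

open Module Cfsg.Agent.Lib.Helper98.Elus Cfsg.Agent.Lib.Helper98.Sy Cfsg.Agent.Lib.Helper98.Oh
open scoped Matrix

/-- a nondegenerate bilinear space with an isometry of odd order without nonzero fixed vectors has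
even dimension (no symmetry of the form is needed) -/
theorem even_finrank_of_isometry {K : Type*} [Field K] {W : Type*} [AddCommGroup W] [Module K W]
    [FiniteDimensional K W] (h2 : (2 : K) ≠ 0) (C : LinearMap.BilinForm K W)
    (hC : C.Nondegenerate) (r : ℕ) (hr : Odd r) (z : W →ₗ[K] W) (hz : z ^ r = 1)
    (hiso : ∀ u v, C (z u) (z v) = C u v) (hinj : ∀ v, z v = v → v = 0) :
    Even (finrank K W) := by
  classical
  let b := Module.finBasis K W
  obtain ⟨G, hGdef⟩ : ∃ G, G = LinearMap.BilinForm.toMatrix b C := ⟨_, rfl⟩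
  obtain ⟨Z, hZdef⟩ : ∃ Z, Z = LinearMap.toMatrix b b z := ⟨_, rfl⟩
  have hG : G.det ≠ 0 := by
    rw [hGdef]
    exact (LinearMap.BilinForm.nondegenerate_iff_det_ne_zero b).mp hC
  have hcomp : C.comp z z = C := by
    ext u v
    simp [hiso]
  have hZGZ : Zᵀ * G * Z = G := by
    rw [hGdef, hZdef, ← LinearMap.BilinForm.toMatrix_comp b b, hcomp]
  have hZr : Z ^ r = 1 := by
    rw [hZdef, LinearMap.toMatrix_pow, hz, LinearMap.toMatrix_one]
  have hdetZr : Z.det ^ r = 1 := by rw [← Matrix.det_pow, hZr, Matrix.det_one]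
  have hZ1 : (Z - 1).det ≠ 0 := by
    have e : Z - 1 = LinearMap.toMatrix b b (z - 1) := by
      rw [map_sub, LinearMap.toMatrix_one, hZdef]
    rw [e, LinearMap.det_toMatrix]
    intro h0
    have hlt := LinearMap.bot_lt_ker_of_det_eq_zero h0
    obtain ⟨v, hv, hv0⟩ := Submodule.exists_mem_ne_zero_of_ne_bot hlt.ne'
    apply hv0
    apply hinj
    have h3 := LinearMap.mem_ker.mp hv
    rw [LinearMap.sub_apply, Module.End.one_apply, sub_eq_zero] at h3
    exact h3
  have key : Zᵀ * G * (Z - 1) = (1 - Zᵀ) * G := by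
    rw [Matrix.mul_sub, hZGZ, Matrix.mul_one, Matrix.sub_mul, Matrix.one_mul]
  have hdet := congrArg Matrix.det key
  rw [Matrix.det_mul, Matrix.det_mul, Matrix.det_mul, Matrix.det_transpose] at hdet
  have h1 : (1 - Zᵀ).det = (-1) ^ (finrank K W) * (Z - 1).det := by
    have e : (1 - Zᵀ) = -((Z - 1)ᵀ) := by
      rw [Matrix.transpose_sub, Matrix.transpose_one, neg_sub]
    rw [e, Matrix.det_neg, Matrix.det_transpose, Fintype.card_fin]
  rw [h1] at hdet
  have hZdet : Z.det = (-1) ^ finrank K W := by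
    have h4 : Z.det * (G.det * (Z - 1).det) = (-1) ^ finrank K W * (G.det * (Z - 1).det) := by
      rw [← mul_assoc, hdet]
      ring
    exact mul_right_cancel₀ (mul_ne_zero hG hZ1) h4
  by_contra hodd
  rw [Nat.not_even_iff_odd] at hodd
  rw [hodd.neg_one_pow] at hZdet
  rw [hZdet, hr.neg_one_pow] at hdetZr
  apply h2
  have h5 : (2 : K) = 1 - (-1) := by ring
  rw [h5, hdetZr, sub_self]

universe u
variable {F : Type u} [Field F] {V : Type u} [AddCommGroup V] [Module F V]

/-- LEAF OhC0. -/
theorem even_finrank_of_le_V1 (h2 : (2 : F) ≠ 0) [FiniteDimensional F V]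
    (B : LinearMap.BilinForm F V) (hS : ∀ a b, B a b = B b a)
    (r : ℕ) [Fact r.Prime] (hr2 : r ≠ 2) (hrF : (r : F) ≠ 0) (y : V →ₗ[F] V)
    (hy : y ^ r = 1) (hiso : Iso B y) (M : Submodule F V) (hM1 : M ≤ V1 r y) (hM : Inv y M)
    (hMnd : NonDeg B M) : Even (finrank F M) := by
  have hrp : r.Prime := Fact.out
  have hrodd : Odd r := hrp.odd_of_ne_two hr2
  have hC : (B.restrict M).Nondegenerate := by
    constructor
    · intro x hx
      apply Subtype.ext
      apply hMnd x.1 x.2
      intro v hv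
      exact hx ⟨v, hv⟩
    · intro x hx
      apply Subtype.ext
      apply hMnd x.1 x.2
      intro v hv
      rw [hS]
      exact hx ⟨v, hv⟩
  have hz : (y.restrict hM) ^ r = 1 := by
    rw [Module.End.pow_restrict r hM]
    apply LinearMap.ext
    intro x
    apply Subtype.ext
    rw [LinearMap.coe_restrict_apply, hy]
    rfl
  apply even_finrank_of_isometry h2 (B.restrict M) hC r hrodd (y.restrict hM) hz
  · intro u v
    exact hiso u.1 v.1
  · intro v hv
    apply Subtype.ext
    have h0 : (v : V) ∈ V0 y := by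
      rw [mem_V0]
      exact congrArg Subtype.val hv
    have h1 : (v : V) ∈ V0 y ⊓ V1 r y := ⟨h0, hM1 v.2⟩
    rw [V0_inf_V1 r hrF y] at h1
    exact (Submodule.mem_bot F).mp h1

end Cfsg.Agent.Lib.Helper96.Oh
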