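import Mathlib

/-!
# Gaschütz-type complement construction

`K` abelian normal in `G`, `K ≤ U`, `A` a complement of `K` in `U`.  From a section
`s : G ⧸ U → G` we build a crossed homomorphism `gamma : G → K` with `gamma k = k ^ |G:U|`
on `K`; its kernel is a complement of `K` when `|K|` is prime to `|G:U|`.
-/

set_option autoImplicit false

namespace Cfsg.Agent.Lib.Helper96

open scoped IsMulCommutative

section Quo

variable {G : Type*} [Group G] (K A : Subgroup G)

open Classical in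
/-- `quo K A x y` is the element `k ∈ K` with `x ∈ k y A`, when it exists. -/
noncomputable def quo (x y : G) : K :=
  if h : ∃ k : K, y⁻¹ * (k : G)⁻¹ * x ∈ A then h.choose else 1

variable {K A}

lemma quo_spec {x y : G} (h : ∃ k : K, y⁻¹ * (k : G)⁻¹ * x ∈ A) :
    y⁻¹ * (quo K A x y : G)⁻¹ * x ∈ A := by
  unfold quo
  rw [dif_pos h]
  exact h.choose_spec

lemma quo_eq [K.Normal] (hAK : A ⊓ K = ⊥) {x y : G} (k : K)
    (h : y⁻¹ * (k : G)⁻¹ * x ∈ A) : quo K A x y = k := by
  have hex : ∃ k : K, y⁻¹ * (k : G)⁻¹ * x ∈ A := ⟨k, h⟩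
  have h' := quo_spec hex
  set k' := quo K A x y with hk'
  have h1 : y⁻¹ * ((k' : G)⁻¹ * k) * y ∈ A := by
    have := A.mul_mem h' (A.inv_mem h)
    convert this using 1
    group
  have h2 : y⁻¹ * ((k' : G)⁻¹ * k) * y ∈ K :=
    Subgroup.Normal.conj_mem' inferInstance _ (K.mul_mem (K.inv_mem k'.2) k.2) y
  have h3 : y⁻¹ * ((k' : G)⁻¹ * k) * y = 1 := by
    have : y⁻¹ * ((k' : G)⁻¹ * k) * y ∈ A ⊓ K := ⟨h1, h2⟩
    rw [hAK] at this
    exact this
  have h4 : (k' : G)⁻¹ * k = 1 := by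
    have : (k' : G)⁻¹ * k = y * (y⁻¹ * ((k' : G)⁻¹ * k) * y) * y⁻¹ := by group
    rw [this, h3]
    group
  ext
  rw [inv_mul_eq_one] at h4
  exact h4

/-- existence of the quotient element when `y⁻¹ x ∈ K ⊔ A` -/
lemma exists_quo [K.Normal] {x y : G} (h : y⁻¹ * x ∈ K ⊔ A) :
    ∃ k : K, y⁻¹ * (k : G)⁻¹ * x ∈ A := by
  have h' : y⁻¹ * x ∈ ((K ⊔ A : Subgroup G) : Set G) := h
  rw [Subgroup.normal_mul] at h'
  obtain ⟨k', hk', a, ha, hka⟩ := Set.mem_mul.1 h'
  refine ⟨⟨y * k' * y⁻¹, Subgroup.Normal.conj_mem inferInstance _ hk' y⟩, ?_⟩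
  have : y⁻¹ * (y * k' * y⁻¹)⁻¹ * x = a := by
    have hx : x = y * (k' * a) := by rw [hka]; group
    rw [hx]
    group
  simp only
  rw [this]
  exact ha

end Quo


section Gamma

variable {G : Type*} [Group G] {U : Subgroup G} (K A : Subgroup G) [K.Normal]

/-- the local cocycle attached to a section `s` of `G → G ⧸ U` -/
noncomputable def cfun (s : G ⧸ U → G) (g : G) (ω : G ⧸ U) : K :=
  quo K A (g * s (g⁻¹ • ω)) (s ω)

variable {K A}

lemma mk_mul_section {s : G ⧸ U → G} (hs : ∀ ω, (QuotientGroup.mk (s ω) : G ⧸ U) = ω)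
    (g : G) (ω : G ⧸ U) : (QuotientGroup.mk (g * s (g⁻¹ • ω)) : G ⧸ U) = ω := by
  have : (QuotientGroup.mk (g * s (g⁻¹ • ω)) : G ⧸ U) = g • (QuotientGroup.mk (s (g⁻¹ • ω))) :=
    rfl
  rw [this, hs, smul_inv_smul]

lemma cfun_spec (hKA : K ⊔ A = U) {s : G ⧸ U → G}
    (hs : ∀ ω, (QuotientGroup.mk (s ω) : G ⧸ U) = ω) (g : G) (ω : G ⧸ U) :
    (s ω)⁻¹ * (cfun K A s g ω : G)⁻¹ * (g * s (g⁻¹ • ω)) ∈ A := by
  apply quo_spec
  apply exists_quo
  rw [hKA, ← QuotientGroup.eq, hs, mk_mul_section hs]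

lemma cfun_mul (hAK : A ⊓ K = ⊥) (hKA : K ⊔ A = U) {s : G ⧸ U → G}
    (hs : ∀ ω, (QuotientGroup.mk (s ω) : G ⧸ U) = ω) (g h : G) (ω : G ⧸ U) :
    cfun K A s (g * h) ω = MulAut.conjNormal g (cfun K A s h (g⁻¹ • ω)) * cfun K A s g ω := by
  apply quo_eq hAK
  have h1 := cfun_spec hKA hs h (g⁻¹ • ω)
  have h2 := cfun_spec hKA hs g ω
  have h3 := A.mul_mem h2 h1
  convert h3 using 1
  rw [mul_inv_rev, mul_smul]
  simp only [Subgroup.coe_mul, MulAut.conjNormal_apply]
  group

lemma cfun_of_mem (hAK : A ⊓ K = ⊥) (hKU : K ≤ U) {s : G ⧸ U → G} (k : K) (ω : G ⧸ U) :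
    cfun K A s (k : G) ω = k := by
  apply quo_eq hAK
  have hω : (k : G)⁻¹ • ω = ω := by
    induction ω using QuotientGroup.induction_on with
    | H x =>
      change (QuotientGroup.mk ((k : G)⁻¹ * x) : G ⧸ U) = QuotientGroup.mk x
      rw [QuotientGroup.eq]
      apply hKU
      have := Subgroup.Normal.conj_mem' (inferInstance : K.Normal) _ k.2 x
      convert this using 1
      group
  rw [hω]
  have : (s ω)⁻¹ * (k : G)⁻¹ * ((k : G) * s ω) = 1 := by group
  rw [this]
  exact A.one_mem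

end Gamma


section GammaProd

variable {G : Type*} [Group G] {U : Subgroup G} [Fintype (G ⧸ U)] (K A : Subgroup G) [K.Normal]
  [IsMulCommutative K]

/-- the crossed homomorphism `G → K` attached to a section `s` -/
noncomputable def gamma (s : G ⧸ U → G) (g : G) : K := ∏ ω : G ⧸ U, cfun K A s g ω

variable {K A}

lemma gamma_mul (hAK : A ⊓ K = ⊥) (hKA : K ⊔ A = U) {s : G ⧸ U → G}
    (hs : ∀ ω, (QuotientGroup.mk (s ω) : G ⧸ U) = ω) (g h : G) :
    gamma K A s (g * h) = gamma K A s g * MulAut.conjNormal g (gamma K A s h) := by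
  unfold gamma
  simp_rw [cfun_mul hAK hKA hs]
  rw [Finset.prod_mul_distrib, mul_comm]
  congr 1
  rw [map_prod]
  exact Fintype.prod_equiv (MulAction.toPerm g⁻¹) _ _ (fun ω => rfl)

lemma gamma_of_mem (hAK : A ⊓ K = ⊥) (hKU : K ≤ U) {s : G ⧸ U → G} (k : K) :
    gamma K A s (k : G) = k ^ U.index := by
  unfold gamma
  simp_rw [cfun_of_mem hAK hKU]
  rw [Finset.prod_const, Finset.card_univ, Subgroup.index_eq_card, Nat.card_eq_fintype_card]

end GammaProd

section Crossed

variable {G : Type*} [Group G] {K : Subgroup G} [K.Normal] [IsMulCommutative K]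

/-- the kernel of a crossed homomorphism -/
def crossedKer (γ : G → K)
    (hmul : ∀ g h, γ (g * h) = γ g * MulAut.conjNormal g (γ h)) : Subgroup G where
  carrier := {g | γ g = 1}
  one_mem' := by
    have := hmul 1 1
    simp only [mul_one, map_one, MulAut.one_apply] at this
    exact (mul_eq_left.1 this.symm)
  mul_mem' := by
    intro a b ha hb
    simp only [Set.mem_setOf_eq] at *
    rw [hmul, ha, hb, map_one, mul_one]
  inv_mem' := by
    intro a ha
    simp only [Set.mem_setOf_eq] at *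
    have h1 : γ 1 = 1 := by
      have := hmul 1 1
      simp only [mul_one, map_one, MulAut.one_apply] at this
      exact (mul_eq_left.1 this.symm)
    have := hmul a a⁻¹
    rw [mul_inv_cancel, h1, ha, one_mul] at this
    exact (map_eq_one_iff _ (MulEquiv.injective _)).1 this.symm

lemma mem_crossedKer {γ : G → K}
    {hmul : ∀ g h, γ (g * h) = γ g * MulAut.conjNormal g (γ h)} {g : G} :
    g ∈ crossedKer γ hmul ↔ γ g = 1 := Iff.rfl

lemma conjNormal_of_mem (k x : K) : MulAut.conjNormal (k : G) x = x := by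
  ext
  rw [MulAut.conjNormal_apply]
  have := mul_comm' k x
  have h := congrArg Subtype.val this
  simp only [Subgroup.coe_mul] at h
  rw [h, mul_inv_cancel_right]

theorem isComplement'_crossedKer [Finite G] {n : ℕ} (hcop : (Nat.card K).Coprime n) (γ : G → K)
    (hmul : ∀ g h, γ (g * h) = γ g * MulAut.conjNormal g (γ h))
    (hK : ∀ k : K, γ (k : G) = k ^ n) :
    Subgroup.IsComplement' K (crossedKer γ hmul) := by
  apply Subgroup.isComplement'_of_disjoint_and_mul_eq_univ
  · rw [Subgroup.disjoint_def]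
    intro x hxK hx
    rw [mem_crossedKer] at hx
    have h1 := hK ⟨x, hxK⟩
    simp only at h1
    rw [hx] at h1
    have h2 : (powCoprime hcop) ⟨x, hxK⟩ = (powCoprime hcop) 1 := by
      simp only [powCoprime_apply, one_pow]
      exact h1.symm
    have h3 := (powCoprime hcop).injective h2
    exact congrArg Subtype.val h3
  · rw [Set.eq_univ_iff_forall]
    intro g
    obtain ⟨k, hk⟩ := (powCoprime hcop).surjective (γ g)⁻¹
    simp only [powCoprime_apply] at hk
    refine Set.mem_mul.2 ⟨(k : G)⁻¹, K.inv_mem k.2, (k : G) * g, ?_, by group⟩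
    change (k : G) * g ∈ crossedKer γ hmul
    rw [mem_crossedKer, hmul, hK, conjNormal_of_mem, hk, inv_mul_cancel]

end Crossed

end Cfsg.Agent.Lib.Helper96
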