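import Mathlib
import Cfsg.Agent.Lib.Helper94.THDefs
import Cfsg.Agent.Lib.Helper91.THA0
import Cfsg.Agent.Lib.Helper85.THB5a

/-!
# K-TH-C2 (keystone 163212): norm-summability of the terms of `thetaC`

The term of `thetaC B τ` at `x` is `ThTerm (B.map Int.cast) τ 0 x`; summability follows from
`isPD_of_hyp` (THA0, helper91) and `summable_ThTerm` (THB5a, helper85).
-/

set_option autoImplicit false

namespace Cfsg.Agent.Lib.Helper96.TH

open Matrix Complex ModularForm
open UpperHalfPlane hiding I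
open scoped Real MatrixGroups
open Cfsg.Agent.Lib.Helper94.TH

/-- the term of `thetaC` is the theta term with zero characteristic -/
theorem thetaC_term_eq_ThTerm (B : Matrix (Fin 24) (Fin 24) ℤ) (τ : ℂ) (x : Fin 24 → ℤ) :
    cexp (π * I * τ * (qf B x : ℂ)) =
      ThTerm (B.map (Int.cast : ℤ → ℝ)) τ (0 : Fin 24 → ℂ) x := by
  unfold ThTerm
  rw [Cfsg.Agent.Lib.Helper91.TH.rq_intCast]
  congr 1
  simp only [Pi.zero_apply, mul_zero, Finset.sum_const_zero, add_zero]
  unfold qf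
  push_cast
  ring

/-- THC2 -/
theorem summable_thetaC {B : Matrix (Fin 24) (Fin 24) ℤ} (h : Hyp B) {τ : ℂ} (hτ : 0 < τ.im) :
    Summable (fun x : Fin 24 → ℤ => ‖cexp (π * I * τ * (qf B x : ℂ))‖) := by
  have hs := Cfsg.Agent.Lib.Helper85.TH.summable_ThTerm
    (Cfsg.Agent.Lib.Helper91.TH.isPD_of_hyp h) hτ (0 : Fin 24 → ℂ)
  refine hs.congr (fun x => ?_)
  rw [thetaC_term_eq_ThTerm]

end Cfsg.Agent.Lib.Helper96.TH
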