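import Mathlib
import Cfsg.Agent.Lib.Helper06.PMinAlt.Defs

set_option autoImplicit false

/-! Keystone K-PMinAlt-C8 (S2930): subgroups of a finite 3-group of permutations above a point
stabilizer with prescribed orders. -/

namespace Cfsg.Agent.Lib.Helper96.PMinAlt

open Equiv Equiv.Perm
open Cfsg.Agent.Lib.Helper06.PMinAlt

/-- a subgroup of prescribed prime power order between `H` and `S` -/
theorem exists_between_card_pow {G : Type*} [Group G] (p : ℕ) [Fact p.Prime] (S H : Subgroup G)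
    [Finite S] (hHS : H ≤ S) {n m : ℕ} (hH : Nat.card ↥H = p ^ n) (hm : p ^ m ∣ Nat.card ↥S)
    (hnm : n ≤ m) : ∃ K : Subgroup G, H ≤ K ∧ K ≤ S ∧ Nat.card ↥K = p ^ m := by
  have hH' : Nat.card ↥(H.subgroupOf S) = p ^ n := by
    rw [← hH]
    exact Nat.card_congr (Subgroup.subgroupOfEquivOfLe hHS).toEquiv
  obtain ⟨K', hK'card, hK'le⟩ :=
    Sylow.exists_subgroup_card_pow_prime_le p hm (H.subgroupOf S) hH' hnm
  refine ⟨K'.map S.subtype, ?_, Subgroup.map_subtype_le K', ?_⟩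
  · intro h hh
    have : (⟨h, hHS hh⟩ : ↥S) ∈ H.subgroupOf S := by
      rw [Subgroup.mem_subgroupOf]
      exact hh
    exact ⟨⟨h, hHS hh⟩, hK'le this, rfl⟩
  · rw [← hK'card]
    exact (Nat.card_congr (K'.equivMapOfInjective S.subtype S.subtype_injective).toEquiv).symm

section Perm
variable {α : Type*} [Fintype α] [DecidableEq α]

/-- **K-PMinAlt-C8a.** -/
theorem exists_ladder_one (S : Subgroup (Perm α)) (hS : IsPGroup 3 S) (x : α) (hx : ∃ s ∈ S, s x ≠ x) :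
    ∃ L : Subgroup (Perm α), L ≤ S ∧ (∀ s ∈ S, s x = x → s ∈ L) ∧
      Nat.card ↥L = 3 * Nat.card ↥(S ⊓ MulAction.stabilizer (Perm α) x) := by
  haveI : Fact (Nat.Prime 3) := ⟨Nat.prime_three⟩
  obtain ⟨k, hk⟩ := IsPGroup.iff_card.mp hS
  have hHp : IsPGroup 3 ↥(S ⊓ MulAction.stabilizer (Perm α) x) := hS.to_le inf_le_left
  obtain ⟨n, hn⟩ := IsPGroup.iff_card.mp hHp
  have hle : Nat.card ↥(S ⊓ MulAction.stabilizer (Perm α) x) ≤ Nat.card ↥S :=
    Subgroup.card_le_of_le inf_le_left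
  have hne : Nat.card ↥(S ⊓ MulAction.stabilizer (Perm α) x) ≠ Nat.card ↥S := by
    intro h
    have heq : S ⊓ MulAction.stabilizer (Perm α) x = S :=
      Subgroup.eq_of_le_of_card_ge inf_le_left h.ge
    obtain ⟨s, hs, hsx⟩ := hx
    have : s ∈ S ⊓ MulAction.stabilizer (Perm α) x := by rw [heq]; exact hs
    exact hsx (MulAction.mem_stabilizer_iff.mp this.2)
  have hnk : n + 1 ≤ k := by
    have hlt : (3 : ℕ) ^ n < 3 ^ k := by
      rw [← hn, ← hk]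
      exact lt_of_le_of_ne hle hne
    have := (Nat.pow_lt_pow_iff_right (by norm_num : 1 < 3)).mp hlt
    omega
  obtain ⟨L, hHL, hLS, hL⟩ := exists_between_card_pow 3 S
    (S ⊓ MulAction.stabilizer (Perm α) x) inf_le_left hn
    (show 3 ^ (n + 1) ∣ Nat.card ↥S by rw [hk]; exact pow_dvd_pow 3 hnk) (Nat.le_succ n)
  refine ⟨L, hLS, fun s hs hsx => hHL ⟨hs, MulAction.mem_stabilizer_iff.mpr hsx⟩, ?_⟩
  rw [hL, hn, pow_succ, mul_comm]

/-- **K-PMinAlt-C8b.** -/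
theorem exists_ladder_two (S : Subgroup (Perm α)) (hS : IsPGroup 3 S) (x : α)
    (hx : 27 * Nat.card ↥(S ⊓ MulAction.stabilizer (Perm α) x) ≤ Nat.card ↥S) :
    ∃ L L' : Subgroup (Perm α), L ≤ L' ∧ L' ≤ S ∧ (∀ s ∈ S, s x = x → s ∈ L) ∧
      Nat.card ↥L = 3 * Nat.card ↥(S ⊓ MulAction.stabilizer (Perm α) x) ∧ 3 * Nat.card ↥L' = Nat.card ↥S := by
  haveI : Fact (Nat.Prime 3) := ⟨Nat.prime_three⟩
  obtain ⟨k, hk⟩ := IsPGroup.iff_card.mp hS
  have hHp : IsPGroup 3 ↥(S ⊓ MulAction.stabilizer (Perm α) x) := hS.to_le inf_le_left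
  obtain ⟨n, hn⟩ := IsPGroup.iff_card.mp hHp
  have hnk : n + 3 ≤ k := by
    rw [hn, hk] at hx
    have h27 : (27 : ℕ) = 3 ^ 3 := by norm_num
    rw [h27, ← pow_add] at hx
    have := (Nat.pow_le_pow_iff_right (by norm_num : 1 < 3)).mp hx
    omega
  obtain ⟨L, hHL, hLS, hL⟩ := exists_between_card_pow 3 S
    (S ⊓ MulAction.stabilizer (Perm α) x) inf_le_left hn
    (show 3 ^ (n + 1) ∣ Nat.card ↥S by rw [hk]; exact pow_dvd_pow 3 (by omega)) (Nat.le_succ n)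
  obtain ⟨L', hLL', hL'S, hL'⟩ := exists_between_card_pow 3 S L hLS hL
    (show 3 ^ (k - 1) ∣ Nat.card ↥S by rw [hk]; exact pow_dvd_pow 3 (by omega)) (by omega)
  refine ⟨L, L', hLL', hL'S, fun s hs hsx => hHL ⟨hs, MulAction.mem_stabilizer_iff.mpr hsx⟩, ?_, ?_⟩
  · rw [hL, hn, pow_succ, mul_comm]
  · rw [hL', hk, ← pow_succ']
    congr 1
    omega

end Perm

end Cfsg.Agent.Lib.Helper96.PMinAlt
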