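import Mathlib
import Cfsg.Agent.Lib.Helper06.PMinAlt.Defs

set_option autoImplicit false

/-! Keystone K-PMinAlt-C5b (S2930): three orbits give two disjoint invariant sets whose
complements have at least three points, the union leaving a point outside. -/

namespace Cfsg.Agent.Lib.Helper96.PMinAlt

open Equiv Equiv.Perm
open Cfsg.Agent.Lib.Helper06.PMinAlt

section Perm
variable {α : Type*}

theorem orbRel_refl' (S : Subgroup (Perm α)) (x : α) : orbRel S x x :=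
  ⟨1, S.one_mem, rfl⟩

theorem orbRel_symm' (S : Subgroup (Perm α)) {x y : α} (h : orbRel S x y) : orbRel S y x := by
  obtain ⟨s, hs, rfl⟩ := h
  exact ⟨s⁻¹, S.inv_mem hs, by simp⟩

theorem orbRel_trans' (S : Subgroup (Perm α)) {x y z : α} (h : orbRel S x y) (h' : orbRel S y z) :
    orbRel S x z := by
  obtain ⟨s, hs, rfl⟩ := h
  obtain ⟨s', hs', rfl⟩ := h'
  exact ⟨s' * s, S.mul_mem hs' hs, rfl⟩

theorem orbRel_invariant (S : Subgroup (Perm α)) (x : α) :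
    ∀ s ∈ S, ∀ w ∈ {w | orbRel S x w}, s w ∈ {w | orbRel S x w} := by
  intro s hs w hw
  exact orbRel_trans' S hw ⟨s, hs, rfl⟩

theorem orbRel_disjoint (S : Subgroup (Perm α)) {x y : α} (hxy : ¬ orbRel S x y) :
    Disjoint {w | orbRel S x w} {w | orbRel S y w} := by
  rw [Set.disjoint_left]
  intro w hw hw'
  exact hxy (orbRel_trans' S hw (orbRel_symm' S hw'))

variable [Fintype α]

/-- the two smaller orbits work -/
theorem exists_invariant_sets_aux (hα : 5 ≤ Fintype.card α) (S : Subgroup (Perm α)) (x y z : α)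
    (hxy : ¬ orbRel S x y) (hxz : ¬ orbRel S x z) (hyz : ¬ orbRel S y z)
    (h1 : {w | orbRel S x w}.ncard ≤ {w | orbRel S z w}.ncard)
    (h2 : {w | orbRel S y w}.ncard ≤ {w | orbRel S z w}.ncard) :
    ∃ Γ₁ Γ₂ : Set α, (∀ s ∈ S, ∀ x ∈ Γ₁, s x ∈ Γ₁) ∧ (∀ s ∈ S, ∀ x ∈ Γ₂, s x ∈ Γ₂) ∧ Γ₁.Nonempty ∧
      Γ₂.Nonempty ∧ Disjoint Γ₁ Γ₂ ∧ (Γ₁ ∪ Γ₂)ᶜ.Nonempty ∧ 3 ≤ Γ₁ᶜ.ncard ∧ 3 ≤ Γ₂ᶜ.ncard := by
  have hdxy := orbRel_disjoint S hxy
  have hdxz := orbRel_disjoint S hxz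
  have hdyz := orbRel_disjoint S hyz
  have hcard : Nat.card α = Fintype.card α := Nat.card_eq_fintype_card
  have hax : 1 ≤ {w | orbRel S x w}.ncard :=
    (Set.ncard_pos (Set.toFinite _)).mpr ⟨x, orbRel_refl' S x⟩
  have hay : 1 ≤ {w | orbRel S y w}.ncard :=
    (Set.ncard_pos (Set.toFinite _)).mpr ⟨y, orbRel_refl' S y⟩
  have hsum : {w | orbRel S x w}.ncard + {w | orbRel S y w}.ncard + {w | orbRel S z w}.ncard ≤
      Nat.card α := by
    have hd : Disjoint ({w | orbRel S x w} ∪ {w | orbRel S y w}) {w | orbRel S z w} :=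
      Set.disjoint_union_left.mpr ⟨hdxz, hdyz⟩
    rw [← Set.ncard_union_eq hdxy (Set.toFinite _) (Set.toFinite _),
      ← Set.ncard_union_eq hd (Set.toFinite _) (Set.toFinite _)]
    exact Set.ncard_le_card _
  have hcx := Set.ncard_add_ncard_compl {w | orbRel S x w}
  have hcy := Set.ncard_add_ncard_compl {w | orbRel S y w}
  refine ⟨{w | orbRel S x w}, {w | orbRel S y w}, orbRel_invariant S x, orbRel_invariant S y,
    ⟨x, orbRel_refl' S x⟩, ⟨y, orbRel_refl' S y⟩, hdxy, ⟨z, ?_⟩, ?_, ?_⟩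
  · rintro (h | h)
    · exact hxz h
    · exact hyz h
  · omega
  · omega

variable [DecidableEq α]

/-- **K-PMinAlt-C5b.** -/
theorem exists_invariant_sets_of_three_orbits (hα : 5 ≤ Fintype.card α) (S : Subgroup (Perm α)) (x y z : α)
    (hxy : ¬ orbRel S x y) (hxz : ¬ orbRel S x z) (hyz : ¬ orbRel S y z) :
    ∃ Γ₁ Γ₂ : Set α, (∀ s ∈ S, ∀ x ∈ Γ₁, s x ∈ Γ₁) ∧ (∀ s ∈ S, ∀ x ∈ Γ₂, s x ∈ Γ₂) ∧ Γ₁.Nonempty ∧ Γ₂.Nonempty ∧
      Disjoint Γ₁ Γ₂ ∧ (Γ₁ ∪ Γ₂)ᶜ.Nonempty ∧ 3 ≤ Γ₁ᶜ.ncard ∧ 3 ≤ Γ₂ᶜ.ncard := by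
  have hyx : ¬ orbRel S y x := fun h => hxy (orbRel_symm' S h)
  have hzx : ¬ orbRel S z x := fun h => hxz (orbRel_symm' S h)
  have hzy : ¬ orbRel S z y := fun h => hyz (orbRel_symm' S h)
  by_cases hA : {w | orbRel S x w}.ncard ≤ {w | orbRel S z w}.ncard ∧
      {w | orbRel S y w}.ncard ≤ {w | orbRel S z w}.ncard
  · exact exists_invariant_sets_aux hα S x y z hxy hxz hyz hA.1 hA.2
  · by_cases hB : {w | orbRel S x w}.ncard ≤ {w | orbRel S y w}.ncard ∧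
        {w | orbRel S z w}.ncard ≤ {w | orbRel S y w}.ncard
    · exact exists_invariant_sets_aux hα S x z y hxz hxy hzy hB.1 hB.2
    · refine exists_invariant_sets_aux hα S y z x hyz hyx hzx ?_ ?_
      · by_contra h
        apply hA
        constructor <;> [skip; skip] <;> by_contra h' <;> apply hB <;> constructor <;> omega
      · by_contra h
        apply hA
        constructor <;> [skip; skip] <;> by_contra h' <;> apply hB <;> constructor <;> omega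

end Perm

end Cfsg.Agent.Lib.Helper96.PMinAlt
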