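import Mathlib
import Cfsg.Agent.Lib.Helper16.BG1363Defs
import Cfsg.Agent.Lib.Helper55.Basic
import Cfsg.Agent.Lib.Helper71.BG11a
import Cfsg.Agent.Lib.Helper31.BG12a
import Cfsg.Agent.S1378

/-!
# K-1435-P12 (keystone 143517): `sigmaCore H ⊓ Ms = ⊥`

`W := H_σ ⊓ M*` is centralized by `K` because `[W, K] ≤ H_σ ⊓ M*_σ = ⊥`
(a common prime of `σ(H)` and `σ(M*)` would make `H` conjugate to `M*`, S1378, and then
`p = |K| ∈ σ(H)`), so `W ≤ H_σ ⊓ C(K) = ⊥`.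
-/

set_option autoImplicit false

namespace Cfsg.Agent.Lib.Helper96.BG1435

open Cfsg Subgroup Cfsg.Agent.Lib.Helper55 Cfsg.Agent.Lib.Helper11.BG14D Cfsg.Agent.Lib.Helper16.BG1363

variable {G : Type*} [Group G] [Finite G]

/-- `H_σ ⊓ M*_σ = ⊥` when `p = |K| ∉ σ(H)`. -/
theorem sigmaCore_inf_sigmaCore_eq_bot (hG : IsMinSimpleOddOrder G) {M K H Ms : Subgroup G}
    (hH : IsCoatom H) (pf : PF M K Ms) (hp : (Nat.card K).Prime)
    (hpH : Nat.card K ∉ sigma H) : sigmaCore H ⊓ sigmaCore Ms = ⊥ := by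
  by_contra hne
  have hcard : Nat.card (sigmaCore H ⊓ sigmaCore Ms : Subgroup G) ≠ 1 := by
    intro h1
    exact hne (Subgroup.card_eq_one.mp h1)
  obtain ⟨t, ht, htd⟩ := Nat.exists_prime_and_dvd hcard
  have h1 : t ∣ Nat.card (sigmaCore H) := htd.trans (Subgroup.card_dvd_of_le inf_le_left)
  have h2 : t ∣ Nat.card (sigmaCore Ms) := htd.trans (Subgroup.card_dvd_of_le inf_le_right)
  have hs1 : t ∈ sigma H := Cfsg.Agent.Lib.Helper71.BG11.sigmaCore_pi hG hH ht h1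
  have hs2 : t ∈ sigma Ms := Cfsg.Agent.Lib.Helper71.BG11.sigmaCore_pi hG pf.hMs ht h2
  obtain ⟨g, hg⟩ := (Cfsg.Agent.S1378.result hG).2 Ms H pf.hMs hH ⟨t, hs2, hs1⟩
  have hpK : Nat.card K ∣ Nat.card (sigmaCore Ms) := Subgroup.card_dvd_of_le pf.hKMs
  have hps : Nat.card K ∈ sigma Ms :=
    Cfsg.Agent.Lib.Helper71.BG11.sigmaCore_pi hG pf.hMs hp hpK
  have : Fact (Nat.card K).Prime := ⟨hp⟩
  have hmem := Cfsg.Agent.Lib.Helper31.BG12.mem_sigma_cj hps g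
  rw [hg] at hpH
  exact hpH hmem

/-- KEYSTONE 143517  K-1435-P12 -/
theorem sigma_inf_star (hG : IsMinSimpleOddOrder G) {M K H Ms : Subgroup G} (hH : IsCoatom H)
    (pf : PF M K Ms) (hp : (Nat.card K).Prime) (hKH : K ≤ H)
    (hpH : Nat.card K ∉ sigma H) (hfpf : sigmaCore H ⊓ centralizer (K : Set G) = ⊥) :
    sigmaCore H ⊓ Ms = ⊥ := by
  have hbot := sigmaCore_inf_sigmaCore_eq_bot hG hH pf hp hpH
  rw [eq_bot_iff]
  intro w hw
  rw [← hfpf]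
  refine ⟨hw.1, ?_⟩
  show w ∈ centralizer (K : Set G)
  rw [Subgroup.mem_centralizer_iff]
  intro k hk
  have hkH : k ∈ H := hKH hk
  have hkMs : k ∈ sigmaCore Ms := pf.hKMs hk
  have hwMs : w ∈ Ms := hw.2
  have hwH : w ∈ sigmaCore H := hw.1
  have hc1 : w * k * w⁻¹ * k⁻¹ ∈ sigmaCore H := by
    have hn := Cfsg.Agent.Lib.Helper71.BG11.le_normalizer_sigmaCore H hkH
    have h3 : k * w⁻¹ * k⁻¹ ∈ sigmaCore H :=
      (Subgroup.mem_normalizer_iff.mp hn w⁻¹).mp ((sigmaCore H).inv_mem hwH)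
    have h4 := (sigmaCore H).mul_mem hwH h3
    have e : w * k * w⁻¹ * k⁻¹ = w * (k * w⁻¹ * k⁻¹) := by group
    rw [e]; exact h4
  have hc2 : w * k * w⁻¹ * k⁻¹ ∈ sigmaCore Ms := by
    have hn := Cfsg.Agent.Lib.Helper71.BG11.le_normalizer_sigmaCore Ms hwMs
    have h3 : w * k * w⁻¹ ∈ sigmaCore Ms := (Subgroup.mem_normalizer_iff.mp hn k).mp hkMs
    exact (sigmaCore Ms).mul_mem h3 ((sigmaCore Ms).inv_mem hkMs)
  have hc : w * k * w⁻¹ * k⁻¹ ∈ (sigmaCore H ⊓ sigmaCore Ms : Subgroup G) := ⟨hc1, hc2⟩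
  rw [hbot, Subgroup.mem_bot] at hc
  have h5 : w * k * w⁻¹ = k := mul_inv_eq_one.mp hc
  have h6 : w * k = k * w := mul_inv_eq_iff_eq_mul.mp h5
  exact h6.symm

end Cfsg.Agent.Lib.Helper96.BG1435
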