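import Mathlib
import Cfsg.Prelude.Def_Transfer

/-! K-BQ leaf L4 (S3911): a minimal supplement of an odd normal subgroup is commutative. -/

set_option autoImplicit false
open Cfsg

namespace Cfsg.Agent.Lib.Helper96.BQ

/-- every maximal subgroup of a minimal supplement is normal. -/
theorem coatom_normal_of_min_supplement {G : Type*} [Group G] [Finite G] (M H A0 : Subgroup G)
    [M.Normal] (hsup : A0 ⊔ M = H) (hmin : ∀ X : Subgroup G, X ≤ A0 → X ⊔ M = H → X = A0)
    (hab : ∀ x ∈ H, ∀ y ∈ H, x * y * x⁻¹ * y⁻¹ ∈ M) (X : Subgroup ↥A0) (hX : IsCoatom X) :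
    X.Normal := by
  have hA0H : A0 ≤ H := hsup ▸ le_sup_left
  -- the intersection with M lies in X
  have hIM : (A0 ⊓ M).subgroupOf A0 ≤ X := by
    by_contra hnot
    have htop : X ⊔ (A0 ⊓ M).subgroupOf A0 = ⊤ := by
      by_contra hne
      have hlt : X < X ⊔ (A0 ⊓ M).subgroupOf A0 := by
        refine lt_of_le_of_ne le_sup_left ?_
        intro heq
        exact hnot (heq ▸ le_sup_right)
      exact hne (hX.2 _ hlt)
    have hmap : X.map A0.subtype ⊔ (A0 ⊓ M) = A0 := by
      have h1 := congrArg (Subgroup.map A0.subtype) htop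
      rw [Subgroup.map_sup, Subgroup.map_subgroupOf_eq_of_le inf_le_left,
        ← MonoidHom.range_eq_map, Subgroup.range_subtype] at h1
      exact h1
    have hXM : X.map A0.subtype ⊔ M = H := by
      apply le_antisymm
      · rw [← hsup]
        exact sup_le_sup_right (Subgroup.map_subtype_le X) M
      · rw [← hsup]
        refine sup_le ?_ le_sup_right
        calc A0 = X.map A0.subtype ⊔ (A0 ⊓ M) := hmap.symm
          _ ≤ X.map A0.subtype ⊔ M := sup_le_sup_left inf_le_right _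
    have hXA : X.map A0.subtype = A0 := hmin _ (Subgroup.map_subtype_le X) hXM
    have hXtop : X = ⊤ := by
      rw [eq_top_iff]
      intro a _
      have ha : (a : G) ∈ X.map A0.subtype := by rw [hXA]; exact a.2
      obtain ⟨b, hb, hba⟩ := ha
      have : b = a := Subtype.ext hba
      exact this ▸ hb
    exact hX.1 hXtop
  constructor
  intro x hx g
  have hc : g * x * g⁻¹ * x⁻¹ ∈ X := by
    apply hIM
    rw [Subgroup.mem_subgroupOf]
    refine ⟨(g * x * g⁻¹ * x⁻¹).2, ?_⟩
    have := hab g (hA0H g.2) x (hA0H x.2)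
    simpa using this
  have : g * x * g⁻¹ = (g * x * g⁻¹ * x⁻¹) * x := by group
  rw [this]
  exact X.mul_mem hc hx

/-- L3: a normal Sylow subgroup of a minimal supplement that lies in `M` is trivial. -/
theorem sylow_eq_bot_of_le' {G : Type*} [Group G] [Finite G] (M H A0 : Subgroup G)
    [M.Normal] (hsup : A0 ⊔ M = H) (hmin : ∀ X : Subgroup G, X ≤ A0 → X ⊔ M = H → X = A0)
    (p : ℕ) [Fact p.Prime] (Q : Sylow p ↥A0) (hn : (Q : Subgroup ↥A0).Normal)
    (hQ : (Q : Subgroup ↥A0).map A0.subtype ≤ M) : (Q : Subgroup ↥A0) = ⊥ := by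
  have := hn
  obtain ⟨K, hK⟩ := Subgroup.exists_right_complement'_of_coprime
    (N := (Q : Subgroup ↥A0)) (Sylow.card_coprime_index Q)
  have htop : (Q : Subgroup ↥A0) ⊔ K = ⊤ := hK.sup_eq_top
  have hmap : (Q : Subgroup ↥A0).map A0.subtype ⊔ K.map A0.subtype = A0 := by
    have h1 := congrArg (Subgroup.map A0.subtype) htop
    rw [Subgroup.map_sup, ← MonoidHom.range_eq_map, Subgroup.range_subtype] at h1
    exact h1
  have hKM : K.map A0.subtype ⊔ M = H := by
    apply le_antisymm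
    · rw [← hsup]
      exact sup_le_sup_right (Subgroup.map_subtype_le K) M
    · rw [← hsup]
      refine sup_le ?_ le_sup_right
      calc A0 = (Q : Subgroup ↥A0).map A0.subtype ⊔ K.map A0.subtype := hmap.symm
        _ ≤ K.map A0.subtype ⊔ M := sup_le (hQ.trans le_sup_right) le_sup_left
  have hKA : K.map A0.subtype = A0 := hmin _ (Subgroup.map_subtype_le K) hKM
  have hKtop : K = ⊤ := by
    rw [eq_top_iff]
    intro a _
    have ha : (a : G) ∈ K.map A0.subtype := by rw [hKA]; exact a.2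
    obtain ⟨b, hb, hba⟩ := ha
    have : b = a := Subtype.ext hba
    exact this ▸ hb
  have hcard := hK.card_mul_card
  rw [hKtop, Subgroup.card_top] at hcard
  have hpos : 0 < Nat.card ↥A0 := Nat.card_pos
  have h1 : Nat.card ↥(Q : Subgroup ↥A0) = 1 := by
    have : Nat.card ↥(Q : Subgroup ↥A0) * Nat.card ↥A0 = 1 * Nat.card ↥A0 := by
      rw [hcard, one_mul]
    exact Nat.eq_of_mul_eq_mul_right hpos this
  exact Subgroup.card_eq_one.mp h1

/-- LEAF L4. -/
theorem isMulCommutative_of_min_supplement {G : Type*} [Group G] [Finite G]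
    (s3908 : ∀ (p : ℕ) [Fact p.Prime], p ≠ 2 → ∀ P : Sylow p G,
      IsCyclic ↥(P : Subgroup G) ∨ ∀ x ∈ (P : Subgroup G), x ^ p = 1)
    (M H A0 : Subgroup G) [M.Normal]
    (s3909 : ∀ a : G, (∃ m ∈ M, orderOf m = orderOf a) → a ∈ M)
    (hM : Odd (Nat.card ↥M))
    (hsup : A0 ⊔ M = H) (hmin : ∀ X : Subgroup G, X ≤ A0 → X ⊔ M = H → X = A0)
    (hab : ∀ x ∈ H, ∀ y ∈ H, x * y * x⁻¹ * y⁻¹ ∈ M) : IsMulCommutative ↥A0 := by
  classical
  have hA0H : A0 ≤ H := hsup ▸ le_sup_left
  have hcoat : ∀ X : Subgroup ↥A0, IsCoatom X → X.Normal :=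
    coatom_normal_of_min_supplement M H A0 hsup hmin hab
  have hsyl : ∀ (p : ℕ) (_hp : Fact p.Prime) (P : Sylow p ↥A0), (↑P : Subgroup ↥A0).Normal :=
    (Group.isNilpotent_of_finite_tfae (G := ↥A0)).out 2 3 |>.mp hcoat
  obtain ⟨e⟩ : Nonempty ((∀ p : (Nat.card ↥A0).primeFactors, ∀ P : Sylow p ↥A0,
      (↑P : Subgroup ↥A0)) ≃* ↥A0) :=
    (Group.isNilpotent_of_finite_tfae (G := ↥A0)).out 2 4 |>.mp hcoat
  -- each Sylow subgroup is commutative
  have key : ∀ (p : ℕ) (_hp : Fact p.Prime) (Q : Sylow p ↥A0) (x y : ↥A0),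
      x ∈ (Q : Subgroup ↥A0) → y ∈ (Q : Subgroup ↥A0) → x * y = y * x := by
    intro p hp Q x y hx hy
    by_cases hpM : p ∣ Nat.card ↥M
    · -- p odd
      have hp2 : p ≠ 2 := by
        rintro rfl
        exact (Nat.not_even_iff_odd.mpr hM) (even_iff_two_dvd.mpr hpM)
      have hQp : IsPGroup p ↥((Q : Subgroup ↥A0).map A0.subtype) :=
        Q.2.map A0.subtype
      obtain ⟨P, hP⟩ := hQp.exists_le_sylow
      have hxP : (x : G) ∈ (P : Subgroup G) := hP ⟨x, hx, rfl⟩
      have hyP : (y : G) ∈ (P : Subgroup G) := hP ⟨y, hy, rfl⟩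
      rcases s3908 p hp2 P with hcyc | hexp
      · -- cyclic
        have := hcyc
        have hcomm : (⟨(x : G), hxP⟩ : ↥(P : Subgroup G)) * ⟨(y : G), hyP⟩
            = ⟨(y : G), hyP⟩ * ⟨(x : G), hxP⟩ := by
          let _ := IsCyclic.commGroup (α := ↥(P : Subgroup G))
          exact mul_comm _ _
        have h2 := congrArg (fun t : ↥(P : Subgroup G) => (t : G)) hcomm
        simp only [Subgroup.coe_mul] at h2
        exact Subtype.ext (by simpa using h2)
      · -- exponent p: P ≤ M, so Q = ⊥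
        obtain ⟨m, hm⟩ := exists_prime_orderOf_dvd_card' (G := ↥M) p hpM
        have hPM : (P : Subgroup G) ≤ M := by
          intro a ha
          by_cases ha1 : a = 1
          · rw [ha1]; exact M.one_mem
          · apply s3909 a
            refine ⟨(m : G), m.2, ?_⟩
            have hoa : orderOf a = p := orderOf_eq_prime (hexp a ha) ha1
            rw [hoa, Subgroup.orderOf_coe, hm]
        have hQM : (Q : Subgroup ↥A0).map A0.subtype ≤ M := hP.trans hPM
        have hbot := sylow_eq_bot_of_le' M H A0 hsup hmin p Q (hsyl p hp Q) hQM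
        rw [hbot, Subgroup.mem_bot] at hx hy
        rw [hx, hy]
    · -- p does not divide card M: commutator in Q ⊓ M = 1
      have hc : x * y * x⁻¹ * y⁻¹ = 1 := by
        have hcQ : x * y * x⁻¹ * y⁻¹ ∈ (Q : Subgroup ↥A0) :=
          Subgroup.mul_mem _ (Subgroup.mul_mem _ (Subgroup.mul_mem _ hx hy)
            (Subgroup.inv_mem _ hx)) (Subgroup.inv_mem _ hy)
        have hcM : ((x * y * x⁻¹ * y⁻¹ : ↥A0) : G) ∈ M := by
          have := hab x (hA0H x.2) y (hA0H y.2)
          simpa using this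
        obtain ⟨k, hk⟩ := (Q.2.map A0.subtype) ⟨((x * y * x⁻¹ * y⁻¹ : ↥A0) : G), ⟨_, hcQ, rfl⟩⟩
        have hk' : ((x * y * x⁻¹ * y⁻¹ : ↥A0) : G) ^ p ^ k = 1 := by
          have := congrArg (fun t : ↥((Q : Subgroup ↥A0).map A0.subtype) => (t : G)) hk
          simpa using this
        have hord1 : orderOf ((x * y * x⁻¹ * y⁻¹ : ↥A0) : G) ∣ p ^ k := orderOf_dvd_of_pow_eq_one hk'
        have hord2 : orderOf ((x * y * x⁻¹ * y⁻¹ : ↥A0) : G) ∣ Nat.card ↥M := by
          have := orderOf_dvd_natCard (⟨_, hcM⟩ : ↥M)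
          rwa [← Subgroup.orderOf_coe] at this
        have hcop : Nat.Coprime (p ^ k) (Nat.card ↥M) :=
          Nat.Coprime.pow_left k ((Nat.Prime.coprime_iff_not_dvd hp.out).mpr hpM)
        have hone : orderOf ((x * y * x⁻¹ * y⁻¹ : ↥A0) : G) = 1 :=
          Nat.eq_one_of_dvd_coprimes hcop hord1 hord2
        have : ((x * y * x⁻¹ * y⁻¹ : ↥A0) : G) = 1 := orderOf_eq_one_iff.mp hone
        exact Subtype.ext (by simpa using this)
      calc x * y = (x * y * x⁻¹ * y⁻¹) * (y * x) := by group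
        _ = y * x := by rw [hc, one_mul]
  refine ⟨⟨fun a b => ?_⟩⟩
  obtain ⟨f, rfl⟩ := e.surjective a
  obtain ⟨g, rfl⟩ := e.surjective b
  rw [← map_mul, ← map_mul]
  congr 1
  funext p P
  have := key p.1 ⟨Nat.prime_of_mem_primeFactors p.2⟩ P (f p P) (g p P) (f p P).2 (g p P).2
  exact Subtype.ext (by simpa using congrArg (fun t : ↥A0 => t) this)

end Cfsg.Agent.Lib.Helper96.BQ
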