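import Mathlib

/-!
# S4291 (Zassenhaus: structure of Frobenius complements) : basic definitions
-/

set_option autoImplicit false

namespace Cfsg.Agent.Lib.Helper96.FC91

universe u

/-- every `p`-subgroup, `p` odd, is cyclic -/
def OddCyc (G : Type u) [Group G] : Prop :=
  ∀ p : ℕ, p.Prime → p ≠ 2 → ∀ Q : Subgroup G, IsPGroup p Q → IsCyclic Q

/-- at most one involution -/
def OneInv (G : Type u) [Group G] : Prop :=
  ∀ s t : G, orderOf s = 2 → orderOf t = 2 → s = t

/-- all Sylow subgroups of `N` are cyclic, in the form used by the statement S4291 -/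
def SylCyc {G : Type u} [Group G] (N : Subgroup G) : Prop :=
  ∀ (p : ℕ) [Fact p.Prime] (P : Sylow p N), IsCyclic P

/-- the quotient by `N` is trivial, `V₄`, `A₄`, `S₄`, `A₅` or `S₅` -/
def QuotOK {G : Type u} [Group G] (N : Subgroup G) : Prop :=
  N = ⊤ ∨
  (∃ f : G →* DihedralGroup 2, Function.Surjective f ∧ f.ker = N) ∨
  (∃ f : G →* alternatingGroup (Fin 4), Function.Surjective f ∧ f.ker = N) ∨
  (∃ f : G →* Equiv.Perm (Fin 4), Function.Surjective f ∧ f.ker = N) ∨
  (∃ f : G →* alternatingGroup (Fin 5), Function.Surjective f ∧ f.ker = N) ∨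
  (∃ f : G →* Equiv.Perm (Fin 5), Function.Surjective f ∧ f.ker = N)

/-- the property of `N` in S4291 -/
def Good {G : Type u} [Group G] (N : Subgroup G) : Prop :=
  N.Normal ∧ SylCyc N ∧ QuotOK N

/-- `Q` has more than four elements and no nontrivial normal subgroup with cyclic Sylow `2`-subgroups -/
def Rigid (Q : Type) [Group Q] : Prop :=
  4 < Nat.card Q ∧ ∀ A : Subgroup Q, A.Normal → (∀ P : Sylow 2 A, IsCyclic P) → A = ⊥

theorem sylCyc_iff_isZGroup {G : Type u} [Group G] (N : Subgroup G) : SylCyc N ↔ IsZGroup N := by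
  constructor
  · intro h
    exact ⟨fun p hp P => by haveI := Fact.mk hp; exact h p P⟩
  · intro h p hp P
    exact h.isZGroup p hp.out P

end Cfsg.Agent.Lib.Helper96.FC91
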