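import Cfsg.Agent.Lib.Helper96.OhPFC1aux
import Cfsg.Agent.Lib.Helper28.OhPA
import Cfsg.Agent.Lib.Helper04.OhPC1
import Cfsg.Agent.Lib.Helper21.OhPC2
import Cfsg.Agent.Lib.Helper29.OhPS1

/-!
# Keystone 597410 (K-OhP-FC1): `good_of_fixed`
(core `good_of_fixed_aux` + LEAF A (helper28) + LEAF S1 (helper29's core with LEAVES A, C1 (helper4), C2 (helper21)))
-/

set_option autoImplicit false
set_option linter.unusedSectionVars false
set_option linter.unusedVariables false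

namespace Cfsg.Agent.Lib.Helper96.OhP

open Module Cfsg.Agent.Lib.Helper98.Elus Cfsg.Agent.Lib.Helper98.Sy Cfsg.Agent.Lib.Helper38.OhP

universe u
variable {F : Type u} [Field F] {V : Type u} [AddCommGroup V] [Module F V]

/-- LEAF S1 assembled from helper29's core and the leaves A, C1, C2 -/
theorem type_of_le_V1_q' [Fintype F] [FiniteDimensional F V] (Q : QuadraticForm F V)
    (hV : NonDeg (pB Q) ⊤) (p f : ℕ) [Fact p.Prime] (hF : Fintype.card F = p ^ f)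
    (r : ℕ) [Fact r.Prime] (hpr : p ≠ r) (hr2 : r ≠ 2) (hrF : (r : F) ≠ 0) (y : V →ₗ[F] V)
    (hy : y ^ r = 1) (hiso : QIso Q y)
    (U : Submodule F V) (hUV1 : U ≤ V1 r y) (hU : Inv y U) (hUnd : NonDeg (pB Q) U) :
    cOf (orderOf ((Fintype.card F : ℕ) : ZMod r)) ∣ finrank F U ∧
      (PlusQ Q U ↔ tPlus (orderOf ((Fintype.card F : ℕ) : ZMod r))
        (finrank F U / cOf (orderOf ((Fintype.card F : ℕ) : ZMod r)))) :=
  Cfsg.Agent.Lib.Helper29.OhP.type_of_le_V1_q_of Q p f hF r hpr y hy hiso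
    (fun W1 W2 h1 h2 hort he1 he2 =>
      Cfsg.Agent.Lib.Helper28.OhP.plusQ_sup_iff Q W1 W2 h1 h2 hort he1 he2)
    (fun U' hU'1 hU' hU'nd hU'ne =>
      Cfsg.Agent.Lib.Helper04.OhP.exists_min_nonDeg_q Q hV p f hF r hpr hr2 hrF y hy hiso U' hU'1 hU'
        hU'nd hU'ne)
    (fun W hW1 hW hWnd hWd =>
      Cfsg.Agent.Lib.Helper21.OhP.plusQ_iff_of_min Q hV p f hF r hpr hr2 hrF y hy hiso W hW1 hW hWnd
        hWd)
    U hUV1 hU hUnd

theorem good_of_fixed [Fintype F] [FiniteDimensional F V] (Q : QuadraticForm F V)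
    (hV : NonDeg (pB Q) ⊤) (hVp : PlusQ Q ⊤) (p f : ℕ) [Fact p.Prime] (hF : Fintype.card F = p ^ f)
    (r : ℕ) [Fact r.Prime] (hpr : p ≠ r) (hr2 : r ≠ 2) (hrF : (r : F) ≠ 0) (y : V →ₗ[F] V)
    (hy : y ^ r = 1) (hiso : QIso Q y)
    (i c : ℕ) (hi : i = orderOf ((Fintype.card F : ℕ) : ZMod r)) (hc : c = cOf i)
    (T k : ℕ) (hT : finrank F (V1 r y) = T * c) (hk : finrank F (V0 y) = k)
    (m : ℕ) (W : Submodule F V) (hW : Inv y W) (hWnd : NonDeg (pB Q) W) (hWd : finrank F W = m)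
    (hWp : PlusQ Q W) : ∃ j : ℕ, j ≤ T ∧ j * c ≤ m ∧ Good i c T k m j := by
  refine good_of_fixed_aux Q hV hVp p f hF r hpr hr2 hrF y hy hiso i c hi hc T k hT hk m W hW hWnd
    hWd hWp (fun W1 W2 h1 h2 hort he1 he2 =>
      Cfsg.Agent.Lib.Helper28.OhP.plusQ_sup_iff Q W1 W2 h1 h2 hort he1 he2) ?_
  intro U hUV1 hU hUnd
  have h := type_of_le_V1_q' Q hV p f hF r hpr hr2 hrF y hy hiso U hUV1 hU hUnd
  rw [← hi, ← hc] at h
  exact h

end Cfsg.Agent.Lib.Helper96.OhP
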