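import Mathlib
import Cfsg.Agent.Lib.Helper15.BG1379Defs
import Cfsg.Agent.Lib.Helper68.BG144G2

/-!
# K-1379 LEAF V10 (keystone 137910, architect helper15, S1379): `kap_conj`

The `κ`-configuration for `cj h M` at `g` gives the `κ`-configuration for `M` at `h⁻¹ g h`.
-/

set_option autoImplicit false

namespace Cfsg.Agent.Lib.Helper96.BG1379

open Cfsg Subgroup Cfsg.Agent.Lib.Helper11.BG14D Cfsg.Agent.Lib.Helper11.BG144
  Cfsg.Agent.Lib.Helper15.BG1379

variable {G : Type*} [Group G] [Finite G]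

/-- LEAF V10 (137910) -/
theorem kap_conj (hG : IsMinSimpleOddOrder G) {M : Subgroup G} (hM : IsCoatom M) (h : G) {g : G}
    (hk : KapCfg (M.map (MulAut.conj h).toMonoidHom) g)
    (hκ : ∀ q : ℕ, q ∈ kappa (M.map (MulAut.conj h).toMonoidHom) → q ∈ kappa M) :
    KapCfg M (h⁻¹ * g * h) := by
  obtain ⟨x, r, hg, hx, hx1, hr, hr1, hc, hq⟩ := hk
  have hσ : sigmaCore (M.map (MulAut.conj h).toMonoidHom) =
      (sigmaCore M).map (MulAut.conj h).toMonoidHom :=
    Cfsg.Agent.Lib.Helper68.BG144.sigmaCore_cj hG hM h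
  refine ⟨h⁻¹ * x * h, h⁻¹ * r * h, ?_, ?_, ?_, ?_, ?_, ?_, ?_⟩
  · rw [hg]; group
  · rw [hσ] at hx
    obtain ⟨y, hy, rfl⟩ := hx
    have : h⁻¹ * ((MulAut.conj h).toMonoidHom y) * h = y := by
      show h⁻¹ * (h * y * h⁻¹) * h = y
      group
    rw [this]; exact hy
  · intro e
    apply hx1
    have : x = h * (h⁻¹ * x * h) * h⁻¹ := by group
    rw [this, e]; group
  · obtain ⟨y, hy, rfl⟩ := hr
    have : h⁻¹ * ((MulAut.conj h).toMonoidHom y) * h = y := by
      show h⁻¹ * (h * y * h⁻¹) * h = y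
      group
    rw [this]; exact hy
  · intro e
    apply hr1
    have : r = h * (h⁻¹ * r * h) * h⁻¹ := by group
    rw [this, e]; group
  · calc (h⁻¹ * x * h) * (h⁻¹ * r * h) = h⁻¹ * (x * r) * h := by group
      _ = h⁻¹ * (r * x) * h := by rw [hc]
      _ = (h⁻¹ * r * h) * (h⁻¹ * x * h) := by group
  · intro q hqp hqd
    apply hκ
    apply hq q hqp
    have ho : orderOf (h⁻¹ * r * h) = orderOf r := by
      have := (MulAut.conj h⁻¹).orderOf_eq r
      rwa [MulAut.conj_apply, inv_inv] at this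
    rwa [ho] at hqd

end Cfsg.Agent.Lib.Helper96.BG1379
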