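import Cfsg.Agent.Lib.Helper50.ClsPlus

set_option autoImplicit false

/-! Keystone K-S2718-E: for `m` even, a similarity `t` of the hyperbolic form with `t² = λ`, `λ` a
nonsquare, preserves the two classes of maximal totally singular subspaces. -/

namespace Cfsg.Agent.Lib.Helper96.S2718K

open Module Matrix Cfsg.Agent.Lib.Helper43 Cfsg.Agent.Lib.Helper08 Cfsg.Agent.Lib.Helper50

universe u

/-- a space carrying an endomorphism whose square is a nonsquare scalar has even dimension -/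
theorem even_finrank_of_sq_nonsquare {K : Type*} [Field K] {V : Type*} [AddCommGroup V]
    [Module K V] [FiniteDimensional K V] (f : V →ₗ[K] V) (lam : K) (hlam : ¬ IsSquare lam)
    (hf : f ∘ₗ f = lam • LinearMap.id) : Even (finrank K V) := by
  by_contra hodd
  rw [Nat.not_even_iff_odd] at hodd
  have h1 : LinearMap.det f * LinearMap.det f = lam ^ finrank K V := by
    rw [← LinearMap.det_comp, hf, LinearMap.det_smul, LinearMap.det_id, mul_one]
  obtain ⟨k, hk⟩ := hodd
  have hlam0 : lam ≠ 0 := by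
    rintro rfl
    exact hlam ⟨0, by simp⟩
  apply hlam
  refine ⟨LinearMap.det f / lam ^ k, ?_⟩
  rw [hk] at h1
  have hk0 : lam ^ k ≠ 0 := pow_ne_zero _ hlam0
  field_simp
  rw [sq (LinearMap.det f), h1]
  ring

/-- an invariant subspace of an endomorphism whose square is a nonsquare scalar has even
dimension -/
theorem even_finrank_invariant {K : Type*} [Field K] {V : Type*} [AddCommGroup V]
    [Module K V] [FiniteDimensional K V] (f : V →ₗ[K] V) (lam : K) (hlam : ¬ IsSquare lam)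
    (hf : ∀ v, f (f v) = lam • v) (U : Submodule K V) (hU : ∀ x ∈ U, f x ∈ U) :
    Even (finrank K U) := by
  apply even_finrank_of_sq_nonsquare (f.restrict hU) lam hlam
  apply LinearMap.ext
  intro x
  apply Subtype.ext
  simp only [LinearMap.comp_apply, LinearMap.coe_restrict_apply, LinearMap.smul_apply,
    LinearMap.id_apply, Submodule.coe_smul]
  exact hf x

variable {F : Type u} [Field F] [Fintype F] {m : ℕ}

theorem mem_clsPlus_of_sq_nonsquare (hm : Even m) (t : ↥(Cfsg.Geo.quadSimilarityGroup (F := F) (Cfsg.quadFormPlus m F))) (lam : F)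
    (hlam : ¬ IsSquare lam)
    (ht : ((t : GL (Fin m ⊕ Fin m) F) : Matrix (Fin m ⊕ Fin m) (Fin m ⊕ Fin m) F) *
      ((t : GL (Fin m ⊕ Fin m) F) : Matrix (Fin m ⊕ Fin m) (Fin m ⊕ Fin m) F) = lam • 1) :
    t ∈ clsPlus m := by
  obtain ⟨μ, -, hμ⟩ := mult_of_mem m t
  change Cfsg.PreservesSingularClasses (⇑(QPlus m F))
    ((t : GL (Fin m ⊕ Fin m) F) : Matrix (Fin m ⊕ Fin m) (Fin m ⊕ Fin m) F)
  rw [psc_iff_even (QPlus m F) QPlus_nondegenerate m (card_plus_index m) (kerInr F m)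
    kerInr_singular finrank_kerInr t.1 μ hμ (kerInr F m) kerInr_singular finrank_kerInr]
  have hlam0 : lam ≠ 0 := by
    rintro rfl
    exact hlam ⟨0, by simp⟩
  have hTT : ∀ v : Fin m ⊕ Fin m → F,
      Matrix.mulVecLin ((t : GL (Fin m ⊕ Fin m) F) : Matrix (Fin m ⊕ Fin m) (Fin m ⊕ Fin m) F)
        (Matrix.mulVecLin ((t : GL (Fin m ⊕ Fin m) F) :
          Matrix (Fin m ⊕ Fin m) (Fin m ⊕ Fin m) F) v) = lam • v := by
    intro v
    rw [Matrix.mulVecLin_apply, Matrix.mulVecLin_apply, Matrix.mulVec_mulVec, ht,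
      Matrix.smul_mulVec, Matrix.one_mulVec]
  have hinv : ∀ x ∈ kerInr F m ⊓ gmap (t : GL (Fin m ⊕ Fin m) F) (kerInr F m),
      Matrix.mulVecLin ((t : GL (Fin m ⊕ Fin m) F) : Matrix (Fin m ⊕ Fin m) (Fin m ⊕ Fin m) F) x ∈
        kerInr F m ⊓ gmap (t : GL (Fin m ⊕ Fin m) F) (kerInr F m) := by
    rintro x ⟨hx1, hx2⟩
    refine ⟨?_, ?_⟩
    · obtain ⟨w, hw, rfl⟩ := hx2
      rw [SetLike.mem_coe, hTT]
      exact Submodule.smul_mem _ _ hw
    · exact Submodule.mem_map_of_mem hx1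
  have hev := even_finrank_invariant
    (Matrix.mulVecLin ((t : GL (Fin m ⊕ Fin m) F) : Matrix (Fin m ⊕ Fin m) (Fin m ⊕ Fin m) F))
    lam hlam hTT _ hinv
  have hle : finrank F ↥(kerInr F m ⊓ gmap (t : GL (Fin m ⊕ Fin m) F) (kerInr F m)) ≤ m := by
    have := Submodule.finrank_mono
      (inf_le_left : kerInr F m ⊓ gmap (t : GL (Fin m ⊕ Fin m) F) (kerInr F m) ≤ kerInr F m)
    rw [finrank_kerInr] at this
    exact this
  rw [Nat.even_iff] at hm hev ⊢
  omega

end Cfsg.Agent.Lib.Helper96.S2718K
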