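import Cfsg.Agent.Lib.Helper38.OhP.Defs
import Cfsg.Agent.Lib.Helper28.OhPA
import Cfsg.Agent.Lib.Helper86.OhPW1a
import Cfsg.Agent.Lib.Helper82.OsElO0

/-!
# K-OEl-E (keystone 598814, helper49's pack for S5988 + S5990): for `q` odd, an isometric involution `g` (with
even-dimensional eigenspaces) of a nondegenerate `2d`-space, `d ≥ 4`, fixes an ELLIPTIC `m`-space for every even
`2 ≤ m ≤ 2d - 2`.
-/

set_option autoImplicit false
set_option linter.unusedSectionVars false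
set_option linter.unusedVariables false

namespace Cfsg.Agent.Lib.Helper96.OEl

open Module Cfsg.Agent.Lib.Helper98.Elus Cfsg.Agent.Lib.Helper98.Sy Cfsg.Agent.Lib.Helper38.OhP

universe u
variable {F : Type u} [Field F] {V : Type u} [AddCommGroup V] [Module F V]

/-- core: two orthogonal nondegenerate even-dimensional subspaces `C₁`, `C₂` all of whose subspaces are
`g`-invariant; `m₁` "free" in `C₁`, `m₂ ∈ {0, dim C₂}` or free in `C₂`: an invariant elliptic subspace of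
dimension `m₁ + m₂`. -/
theorem exists_ell_of_parts [Fintype F] [FiniteDimensional F V] (Q : QuadraticForm F V)
    (g : V →ₗ[F] V) (C₁ C₂ : Submodule F V)
    (h1 : NonDeg (pB Q) C₁) (h2 : NonDeg (pB Q) C₂) (hort : Ort (pB Q) C₁ C₂)
    (he1 : Even (finrank F C₁)) (he2 : Even (finrank F C₂))
    (hi1 : ∀ W : Submodule F V, W ≤ C₁ → Inv g W) (hi2 : ∀ W : Submodule F V, W ≤ C₂ → Inv g W)
    (m₁ m₂ : ℕ) (hm1e : Even m₁) (hm1 : 2 ≤ m₁) (hm1' : m₁ + 2 ≤ finrank F C₁)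
    (hm2e : Even m₂) (hm2 : m₂ = 0 ∨ m₂ = finrank F C₂ ∨ (2 ≤ m₂ ∧ m₂ + 2 ≤ finrank F C₂)) :
    ∃ W : Submodule F V, Inv g W ∧ NonDeg (pB Q) W ∧ finrank F W = m₁ + m₂ ∧ ¬ PlusQ Q W := by
  have hR := Cfsg.Agent.Lib.Helper98.Os.isRefl_of_symm (pB_symm Q)
  have hA : ∀ W1 W2 : Submodule F V, NonDeg (pB Q) W1 → NonDeg (pB Q) W2 → Ort (pB Q) W1 W2 →
      Even (finrank F W1) → Even (finrank F W2) →
      (PlusQ Q (W1 ⊔ W2) ↔ (PlusQ Q W1 ↔ PlusQ Q W2)) :=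
    fun W1 W2 a b c e1 e2 => Cfsg.Agent.Lib.Helper28.OhP.plusQ_sup_iff Q W1 W2 a b c e1 e2
  -- the second part
  have hW2 : ∃ W₂ : Submodule F V, W₂ ≤ C₂ ∧ NonDeg (pB Q) W₂ ∧ finrank F W₂ = m₂ := by
    rcases hm2 with h | h | ⟨ha, hb⟩
    · exact ⟨⊥, bot_le, Cfsg.Agent.Lib.Helper98.Os.nonDeg_bot, by rw [finrank_bot, h]⟩
    · exact ⟨C₂, le_rfl, h2, h.symm⟩
    · obtain ⟨W, hWC, hWn, hWd, -⟩ := Cfsg.Agent.Lib.Helper86.OhP.exists_sub_of_type_of Q hA C₂ h2 he2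
        m₂ hm2e ha hb True
      exact ⟨W, hWC, hWn, hWd⟩
  obtain ⟨W₂, hW2C, hW2n, hW2d⟩ := hW2
  -- the first part, of the type opposite to that of the second part
  obtain ⟨W₁, hW1C, hW1n, hW1d, hW1t⟩ := Cfsg.Agent.Lib.Helper86.OhP.exists_sub_of_type_of Q hA C₁ h1
    he1 m₁ hm1e hm1 hm1' (¬ PlusQ Q W₂)
  have hort12 : Ort (pB Q) W₁ W₂ := fun u hu v hv => hort u (hW1C hu) v (hW2C hv)
  refine ⟨W₁ ⊔ W₂, ?_, (Cfsg.Agent.Lib.Helper98.Os.nonDeg_sup hR W₁ W₂ hW1n hW2n hort12).1, ?_, ?_⟩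
  · intro v hv
    obtain ⟨a, ha, b, hb, rfl⟩ := Submodule.mem_sup.mp hv
    rw [map_add]
    exact Submodule.add_mem _ (Submodule.mem_sup_left (hi1 W₁ hW1C a ha))
      (Submodule.mem_sup_right (hi2 W₂ hW2C b hb))
  · rw [Cfsg.Agent.Lib.Helper98.Os.finrank_sup_of_ort hR W₁ W₂ hW1n hW2n hort12, hW1d, hW2d]
  · rw [hA W₁ W₂ hW1n hW2n hort12 (by rw [hW1d]; exact hm1e) (by rw [hW2d]; exact hm2e), hW1t]
    tauto

theorem exists_fixed_invol_ell [Fintype F] (h2 : (2 : F) ≠ 0) [FiniteDimensional F V]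
    (Q : QuadraticForm F V) (hV : NonDeg (pB Q) ⊤) (g : V →ₗ[F] V) (hg : g * g = 1)
    (hiso : QIso Q g) (hev : Even (finrank F (LinearMap.ker (g + 1))))
    (d : ℕ) (hd : 4 ≤ d) (hdim : finrank F V = 2 * d) (m : ℕ) (hme : Even m) (hm : 2 ≤ m) (hmn : m + 2 ≤ 2 * d) :
    ∃ W : Submodule F V, Inv g W ∧ NonDeg (pB Q) W ∧ finrank F W = m ∧ ¬ PlusQ Q W := by
  have hrF : ((2 : ℕ) : F) ≠ 0 := by
    rw [Nat.cast_ofNat]
    exact h2
  have hg2 : g ^ 2 = 1 := by rw [pow_two]; exact hg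
  have hR : (pB Q).IsRefl := Cfsg.Agent.Lib.Helper98.Os.isRefl_of_symm (pB_symm Q)
  have hparts := Cfsg.Agent.Lib.Helper98.Oh.nonDeg_inf_parts_refl hR 2 hrF g hg2 hiso.iso ⊤ hV
    (fun _ _ => Submodule.mem_top)
  rw [top_inf_eq, top_inf_eq] at hparts
  obtain ⟨hnd0, hnd1⟩ := hparts
  have hsum := finrank_V0_add_V1 2 hrF g hg2
  rw [hdim] at hsum
  have hort01 : Ort (pB Q) (V0 g) (V1 2 g) := ort_V0_V1 (B := pB Q) 2 hrF g hg2 hiso.iso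
  have hort10 : Ort (pB Q) (V1 2 g) (V0 g) := fun u hu v hv => by
    rw [pB_symm]; exact hort01 v hv u hu
  have hev1 : Even (finrank F (V1 2 g)) := by
    rw [Cfsg.Agent.Lib.Helper82.OsEl.V1_two_eq]; exact hev
  have hev0 : Even (finrank F (V0 g)) := by
    have : finrank F (V0 g) = 2 * d - finrank F (V1 2 g) := by omega
    rw [this]
    exact (Nat.even_sub (by omega)).mpr ⟨fun _ => hev1, fun _ => even_two_mul d⟩
  have hinv0 : ∀ W : Submodule F V, W ≤ V0 g → Inv g W := by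
    intro W hW v hv
    rw [(mem_V0 g v).mp (hW hv)]
    exact hv
  have hinv1 : ∀ W : Submodule F V, W ≤ V1 2 g → Inv g W :=
    fun W hW => Cfsg.Agent.Lib.Helper82.OsEl.inv_of_le_V1_two g W hW
  obtain ⟨a0, ha0⟩ := hev0
  obtain ⟨a1, ha1⟩ := hev1
  obtain ⟨m', hm'⟩ := hme
  by_cases hA : m + 2 ≤ finrank F (V0 g)
  · -- everything inside `V₊`
    have := exists_ell_of_parts Q g (V0 g) (V1 2 g) hnd0 hnd1 hort01 ⟨a0, ha0⟩ ⟨a1, ha1⟩ hinv0 hinv1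
      m 0 ⟨m', hm'⟩ hm hA ⟨0, rfl⟩ (Or.inl rfl)
    rwa [add_zero] at this
  by_cases hB : m + 2 ≤ finrank F (V1 2 g)
  · have := exists_ell_of_parts Q g (V1 2 g) (V0 g) hnd1 hnd0 hort10 ⟨a1, ha1⟩ ⟨a0, ha0⟩ hinv1 hinv0
      m 0 ⟨m', hm'⟩ hm hB ⟨0, rfl⟩ (Or.inl rfl)
    rwa [add_zero] at this
  by_cases hC : 4 ≤ finrank F (V0 g)
  · -- `m₊ = a₊ - 2` free, `m₋ = m - a₊ + 2`
    have := exists_ell_of_parts Q g (V0 g) (V1 2 g) hnd0 hnd1 hort01 ⟨a0, ha0⟩ ⟨a1, ha1⟩ hinv0 hinv1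
      (finrank F (V0 g) - 2) (m + 2 - finrank F (V0 g)) ⟨a0 - 1, by omega⟩ (by omega) (by omega)
      ⟨m' + 1 - a0, by omega⟩ (by omega)
    have e : finrank F (V0 g) - 2 + (m + 2 - finrank F (V0 g)) = m := by omega
    rwa [e] at this
  · -- `a₋ ≥ 4`: `m₋ = a₋ - 2` free, `m₊ = m - a₋ + 2`
    have := exists_ell_of_parts Q g (V1 2 g) (V0 g) hnd1 hnd0 hort10 ⟨a1, ha1⟩ ⟨a0, ha0⟩ hinv1 hinv0
      (finrank F (V1 2 g) - 2) (m + 2 - finrank F (V1 2 g)) ⟨a1 - 1, by omega⟩ (by omega) (by omega)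
      ⟨m' + 1 - a1, by omega⟩ (by omega)
    have e : finrank F (V1 2 g) - 2 + (m + 2 - finrank F (V1 2 g)) = m := by omega
    rwa [e] at this

end Cfsg.Agent.Lib.Helper96.OEl
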