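import Cfsg.Agent.Lib.Helper37.G2InvDefs
import Cfsg.Agent.Lib.Helper26.G2InvC2
import Cfsg.Agent.Lib.Helper86.G2InvZ

/-!
# K-G2I-B2b (keystone 217708): an involution `x8(s) z`, `s ≠ 0`, is conjugate to `x9(1)`
-/

set_option autoImplicit false
set_option linter.unusedSectionVars false
set_option linter.unusedVariables false

namespace Cfsg.Agent.Lib.Helper96.G2Inv

open Cfsg.Agent.Lib.Helper37.G2Inv

variable {F : Type*} [Field F] [CharP F 2] {G : Type*} [Group G] (D : UData F G)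

theorem z_zero_zero (γ : F) : D.z 0 0 γ = D.x 11 γ := by
  unfold UData.z
  rw [D.x_zero, D.x_zero, one_mul, one_mul]

theorem z_zero_right (β γ : F) : D.z 0 β γ = D.x 10 β * D.x 11 γ := by
  unfold UData.z
  rw [D.x_zero, one_mul]

theorem conj_mul' (h a b : G) : h * (a * b) * h⁻¹ = (h * a * h⁻¹) * (h * b * h⁻¹) := by group

/-- own copy of leaf C1 `c98` -/
theorem c98' (c s : F) : D.x 9 c * D.x 8 s * (D.x 9 c)⁻¹ = D.x 8 s * D.x 11 (c * s) := by
  rw [D.r89 s c, D.x_inv]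
  have e : D.x 8 s * D.x 9 c * D.x 11 (s * c) * D.x 9 c =
      D.x 8 s * (D.x 9 c * (D.x 11 (s * c) * D.x 9 c)) := by group
  rw [e, ← D.c911 c (s * c), ← mul_assoc (D.x 9 c), ]
  have e2 : D.x 9 c * D.x 9 c * D.x 11 (s * c) = D.x 11 (s * c) := by
    rw [D.x_sq, one_mul]
  rw [e2, mul_comm s c]

/-- own copy of leaf I1 `inv8z` -/
theorem inv8z' (s α β γ : F) (h : D.x 8 s * D.z α β γ * (D.x 8 s * D.z α β γ) = 1) :
    s * α = 0 := by
  have e : D.x 8 s * D.z α β γ * (D.x 8 s * D.z α β γ) =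
      (D.x 8 s * D.z α β γ * (D.x 8 s)⁻¹) * (D.x 8 s * D.x 8 s) * D.z α β γ := by group
  rw [e, D.x_sq, mul_one, Cfsg.Agent.Lib.Helper86.G2Inv.z_conj8,
    Cfsg.Agent.Lib.Helper86.G2Inv.z_mul, Cfsg.Agent.Lib.Helper86.G2Inv.z_eq_one_iff] at h
  have h3 := h.2.2
  have h4 : γ + s * α + γ = s * α := by
    rw [add_comm γ (s * α), add_assoc, CharTwo.add_self_eq_zero, add_zero]
  rw [h4] at h3
  exact h3

theorem good_x8 (s : F) (hs : s ≠ 0) : D.Good (D.x 8 s) := by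
  obtain ⟨g, hg⟩ := D.w8_9 s
  obtain ⟨g', hg'⟩ := D.torus9 s hs
  refine D.good_of_conj g _ ?_
  rw [hg]
  exact ⟨g', Or.inr hg'⟩

/-- LEAF B2b -/
theorem good_8z (s α β γ : F) (hs : s ≠ 0)
    (h : D.x 8 s * D.z α β γ * (D.x 8 s * D.z α β γ) = 1) : D.Good (D.x 8 s * D.z α β γ) := by
  have hα : α = 0 := by
    have := inv8z' D s α β γ h
    rcases mul_eq_zero.mp this with h1 | h1
    · exact absurd h1 hs
    · exact h1
  subst hα
  -- step 1
  refine D.good_of_conj (D.x 9 (γ / s)) _ ?_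
  rw [conj_mul', c98', Cfsg.Agent.Lib.Helper86.G2Inv.z_conj9, ← z_zero_zero, mul_assoc,
    Cfsg.Agent.Lib.Helper86.G2Inv.z_mul]
  have e1 : γ / s * s + γ = 0 := by
    rw [div_mul_cancel₀ γ hs, CharTwo.add_self_eq_zero]
  rw [e1, zero_add, zero_add]
  -- step 2
  obtain ⟨c, hc⟩ := D.sqrt (β / s)
  refine D.good_of_conj (D.x 7 c) _ ?_
  rw [conj_mul', Cfsg.Agent.Lib.Helper26.G2Inv.c78, Cfsg.Agent.Lib.Helper86.G2Inv.z_conj7,
    ← z_zero_right, mul_assoc, Cfsg.Agent.Lib.Helper86.G2Inv.z_mul]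
  have e2 : c ^ 2 * s + (β + c * 0) = 0 := by
    rw [mul_zero, add_zero, pow_two, hc, div_mul_cancel₀ β hs, CharTwo.add_self_eq_zero]
  rw [e2, zero_add, add_zero]
  -- step 3
  refine D.good_of_conj (D.x 9 (c * s)) _ ?_
  rw [conj_mul', c98', Cfsg.Agent.Lib.Helper86.G2Inv.z_conj9, ← z_zero_zero, mul_assoc,
    Cfsg.Agent.Lib.Helper86.G2Inv.z_mul]
  have e3 : c * s * s + c * s ^ 2 = 0 := by
    rw [pow_two, mul_assoc, CharTwo.add_self_eq_zero]
  rw [e3, zero_add]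
  have e4 : D.z 0 0 0 = 1 := by rw [z_zero_zero, D.x_zero]
  rw [e4, mul_one]
  exact good_x8 D s hs

end Cfsg.Agent.Lib.Helper96.G2Inv
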