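import Cfsg.Agent.Lib.Helper38.OhP.Defs
import Cfsg.Agent.Lib.Helper68.OhPC0
import Cfsg.Agent.Lib.Helper98.Elus15

/-!
# Keystone 597410 (K-OhP-FC1): `good_of_fixed`, core argument with LEAF A and LEAF S1 as hypotheses
-/

set_option autoImplicit false
set_option linter.unusedSectionVars false
set_option linter.unusedVariables false

namespace Cfsg.Agent.Lib.Helper96.OhP

open Module Cfsg.Agent.Lib.Helper98.Elus Cfsg.Agent.Lib.Helper98.Sy Cfsg.Agent.Lib.Helper38.OhP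

universe u
variable {F : Type u} [Field F] {V : Type u} [AddCommGroup V] [Module F V]

/-- the two parts of an invariant subspace span it -/
theorem inf_V0_sup_inf_V1 (r : ℕ) (hrF : (r : F) ≠ 0)
    (y : V →ₗ[F] V) (hy : y ^ r = 1) (U : Submodule F V) (hU : Inv y U) :
    (U ⊓ V0 y) ⊔ (U ⊓ V1 r y) = U := by
  apply le_antisymm (sup_le inf_le_left inf_le_left)
  intro v hv
  have hv' : v = (r : F)⁻¹ • gsum r y v + (v - (r : F)⁻¹ • gsum r y v) := by abel
  rw [hv']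
  have hG : gsum r y v ∈ U := gsum_mem_of_inv r y U hU v hv
  apply Submodule.add_mem
  · apply Submodule.mem_sup_left
    apply Submodule.smul_mem
    exact Submodule.mem_inf.mpr ⟨hG, gsum_mem_V0 r y hy v⟩
  · apply Submodule.mem_sup_right
    refine Submodule.mem_inf.mpr ⟨Submodule.sub_mem _ hv (Submodule.smul_mem _ _ hG), ?_⟩
    rw [mem_V1, map_sub, map_smul]
    have := congrArg (fun g => g v) (gsum_mul_gsum r y hy)
    simp only [Module.End.mul_apply, LinearMap.smul_apply] at this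
    rw [this, smul_smul, inv_mul_cancel₀ hrF, one_smul, sub_self]

/-- LEAF FC1 with LEAF A (`hA`) and LEAF S1 (`hS1`) as hypotheses. -/
theorem good_of_fixed_aux [Fintype F] [FiniteDimensional F V] (Q : QuadraticForm F V)
    (hV : NonDeg (pB Q) ⊤) (hVp : PlusQ Q ⊤) (p f : ℕ) [Fact p.Prime] (hF : Fintype.card F = p ^ f)
    (r : ℕ) [Fact r.Prime] (hpr : p ≠ r) (hr2 : r ≠ 2) (hrF : (r : F) ≠ 0) (y : V →ₗ[F] V)
    (hy : y ^ r = 1) (hiso : QIso Q y)
    (i c : ℕ) (hi : i = orderOf ((Fintype.card F : ℕ) : ZMod r)) (hc : c = cOf i)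
    (T k : ℕ) (hT : finrank F (V1 r y) = T * c) (hk : finrank F (V0 y) = k)
    (m : ℕ) (W : Submodule F V) (hW : Inv y W) (hWnd : NonDeg (pB Q) W) (hWd : finrank F W = m)
    (hWp : PlusQ Q W)
    (hA : ∀ W1 W2 : Submodule F V, NonDeg (pB Q) W1 → NonDeg (pB Q) W2 → Ort (pB Q) W1 W2 →
      Even (finrank F W1) → Even (finrank F W2) →
      (PlusQ Q (W1 ⊔ W2) ↔ (PlusQ Q W1 ↔ PlusQ Q W2)))
    (hS1 : ∀ U : Submodule F V, U ≤ V1 r y → Inv y U → NonDeg (pB Q) U →
      c ∣ finrank F U ∧ (PlusQ Q U ↔ tPlus i (finrank F U / c))) :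
    ∃ j : ℕ, j ≤ T ∧ j * c ≤ m ∧ Good i c T k m j := by
  classical
  have hR := Cfsg.Agent.Lib.Helper98.Os.isRefl_of_symm (pB_symm Q)
  have hi1 : 1 ≤ i := by rw [hi]; exact orderOf_card_pos p f hF r hpr
  have hc1 : 1 ≤ c := by rw [hc]; exact cOf_pos _ hi1
  have hce : Even c := by rw [hc]; exact cOf_even _
  obtain ⟨hnd0, hnd1⟩ := Cfsg.Agent.Lib.Helper98.Oh.nonDeg_inf_parts_refl hR r hrF y hy hiso.iso W hWnd hW
  have hsum := finrank_inf_V0_add_inf_V1 r hrF y hy W hW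
  rw [hWd] at hsum
  have hsup : (W ⊓ V0 y) ⊔ (W ⊓ V1 r y) = W := inf_V0_sup_inf_V1 r hrF y hy W hW
  have hort01 := ort_V0_V1 (B := pB Q) r hrF y hy hiso.iso
  have hort : Ort (pB Q) (W ⊓ V0 y) (W ⊓ V1 r y) := fun u hu v hv =>
    hort01 u (Submodule.mem_inf.mp hu).2 v (Submodule.mem_inf.mp hv).2
  have hinv1 : Inv y (W ⊓ V1 r y) := hW.inf (inv_V1 r y)
  obtain ⟨⟨j, hj⟩, htype⟩ := hS1 (W ⊓ V1 r y) inf_le_right hinv1 hnd1
  have hdiv : finrank F ↥(W ⊓ V1 r y) / c = j := by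
    rw [hj, Nat.mul_div_cancel_left j (by omega : 0 < c)]
  rw [hdiv] at htype
  have hme : Even m := by
    obtain ⟨U, -, -, hUd⟩ := hWp
    rw [hWd] at hUd
    exact ⟨finrank F U, by omega⟩
  have he1 : Even (finrank F ↥(W ⊓ V1 r y)) := by rw [hj]; exact hce.mul_right j
  have he0 : Even (finrank F ↥(W ⊓ V0 y)) := by
    have : finrank F ↥(W ⊓ V0 y) = m - finrank F ↥(W ⊓ V1 r y) := by omega
    rw [this]
    exact (Nat.even_sub (by omega)).mpr ⟨fun _ => he1, fun _ => hme⟩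
  have hAW := hA (W ⊓ V0 y) (W ⊓ V1 r y) hnd0 hnd1 hort he0 he1
  rw [hsup] at hAW
  have hW01 : PlusQ Q (W ⊓ V0 y) ↔ PlusQ Q (W ⊓ V1 r y) := hAW.mp hWp
  have h1le : finrank F ↥(W ⊓ V1 r y) ≤ T * c := by
    rw [← hT]; exact Submodule.finrank_mono inf_le_right
  have h0le : finrank F ↥(W ⊓ V0 y) ≤ k := by
    rw [← hk]; exact Submodule.finrank_mono inf_le_right
  have hjT : j ≤ T := by
    rw [hj] at h1le
    by_contra hcon
    push Not at hcon
    have : (T + 1) * c ≤ j * c := Nat.mul_le_mul_right c hcon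
    have h3 : c * j = j * c := Nat.mul_comm c j
    nlinarith
  have hjc : j * c = finrank F ↥(W ⊓ V1 r y) := by rw [hj, Nat.mul_comm]
  have hjm : j * c ≤ m := by omega
  have he0eq : m - j * c = finrank F ↥(W ⊓ V0 y) := by omega
  refine ⟨j, hjT, hjm, ?_⟩
  unfold Good
  rw [he0eq]
  rcases Nat.eq_zero_or_pos (finrank F ↥(W ⊓ V0 y)) with hz | hpos
  · left
    refine ⟨hz, ?_⟩
    have hbot : W ⊓ V0 y = ⊥ := Submodule.finrank_eq_zero.mp hz
    rw [hbot] at hW01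
    exact htype.mp (hW01.mp (plusQ_bot Q))
  · rcases Nat.lt_or_ge (finrank F ↥(W ⊓ V0 y)) k with hlt | hge
    · right; left; exact ⟨hpos, hlt⟩
    · right; right
      have hek : finrank F ↥(W ⊓ V0 y) = k := le_antisymm h0le hge
      refine ⟨hek, by omega, ?_⟩
      have hWV0 : W ⊓ V0 y = V0 y := by
        apply Submodule.eq_of_le_of_finrank_eq inf_le_right
        rw [hek, hk]
      -- the type of `V0` is the type of `V1`
      obtain ⟨hndV0, hndV1⟩ := Cfsg.Agent.Lib.Helper98.Oh.nonDeg_inf_parts_refl hR r hrF y hy hiso.iso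
        ⊤ hV (fun _ _ => Submodule.mem_top)
      rw [top_inf_eq] at hndV0 hndV1
      have heV1 : Even (finrank F ↥(V1 r y)) := by rw [hT]; exact hce.mul_left T
      have heV0 : Even (finrank F ↥(V0 y)) := by rw [hk, ← hek]; exact he0
      have hAV := hA (V0 y) (V1 r y) hndV0 hndV1 hort01 heV0 heV1
      rw [V0_sup_V1 r hrF y hy] at hAV
      have hV01 : PlusQ Q (V0 y) ↔ PlusQ Q (V1 r y) := hAV.mp hVp
      obtain ⟨-, htypeV1⟩ := hS1 (V1 r y) le_rfl (inv_V1 r y) hndV1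
      rw [hT, Nat.mul_div_cancel T (by omega : 0 < c)] at htypeV1
      rw [hWV0] at hW01
      rw [← htype, ← htypeV1, ← hW01, hV01]

end Cfsg.Agent.Lib.Helper96.OhP
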