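import Mathlib
import Cfsg.Prelude.Def_Characters
import Cfsg.Prelude.Def_Blocks
import Cfsg.Agent.Lib.Helper84.SigmaExt
import Cfsg.Agent.Lib.Helper04.Basis
import Cfsg.Agent.Lib.Helper83.CharBasic
import Cfsg.Agent.Lib.Helper83.Decompose

/-!
# K-S4140-D: an invariant irreducible character of degree prime to `s`

If `M ⊴ A` has index a power of the prime `s` and `s` divides `|M|`, then `M` has a nontrivial
`A`-invariant irreducible character of degree prime to `s`.  The proof is a weighted fixed point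
count for a Sylow `s`-subgroup of `A` acting on the irreducible characters of `M`, the weights being
the squares of the degrees, whose sum is `|M|`.
-/

set_option autoImplicit false

namespace Cfsg.Agent.Lib.Helper96.Camina

open Cfsg

universe u

section Weighted

variable {S : Type*} {X : Type*} [Group S] [MulAction S X]

/-- The action on pairs `(x, i)` with `i < f x`, for an invariant weight `f`. -/
@[reducible]
def weightAction (f : X → ℕ) (N : ℕ) (hf : ∀ (g : S) (x : X), f (g • x) = f x) :
    MulAction S {q : X × Fin N // q.2.val < f q.1} where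
  smul g q := ⟨(g • q.1.1, q.1.2), by rw [hf]; exact q.2⟩
  one_smul q := Subtype.ext (Prod.ext (one_smul S q.1.1) rfl)
  mul_smul g h q := Subtype.ext (Prod.ext (mul_smul g h q.1.1) rfl)

theorem weightAction_smul_fst (f : X → ℕ) (N : ℕ) (hf : ∀ (g : S) (x : X), f (g • x) = f x)
    (g : S) (q : {q : X × Fin N // q.2.val < f q.1}) :
    (letI := weightAction f N hf; (g • q).1.1) = g • q.1.1 := rfl

theorem weightAction_smul_snd (f : X → ℕ) (N : ℕ) (hf : ∀ (g : S) (x : X), f (g • x) = f x)
    (g : S) (q : {q : X × Fin N // q.2.val < f q.1}) :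
    (letI := weightAction f N hf; (g • q).1.2) = q.1.2 := rfl

/-- Counting weighted pairs. -/
theorem card_weight [Fintype X] (f : X → ℕ) (N : ℕ) (hN : ∀ x, f x ≤ N) (P : X → Prop)
    [DecidablePred P] :
    Nat.card {q : X × Fin N // P q.1 ∧ q.2.val < f q.1} = ∑ x, if P x then f x else 0 := by
  rw [Nat.card_congr
    (Equiv.subtypeProdEquivSigmaSubtype (fun (x : X) (i : Fin N) => P x ∧ i.val < f x))]
  rw [Nat.card_sigma]
  refine Finset.sum_congr rfl fun x _ => ?_
  split_ifs with hx
  · rw [Nat.card_congr (Equiv.subtypeEquivRight (q := fun i : Fin N => (i : ℕ) < f x)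
      (fun i => by simp [hx]))]
    rw [Nat.card_eq_fintype_card, Fintype.card_fin_lt_of_le (hN x)]
  · have : IsEmpty {i : Fin N // P x ∧ i.val < f x} := ⟨fun i => hx i.2.1⟩
    exact Nat.card_of_isEmpty

/-- Weighted fixed point congruence for a `p`-group. -/
theorem sum_modEq_sum_fixedPoints [Fintype X] (p : ℕ) [Fact p.Prime] (hS : IsPGroup p S)
    (f : X → ℕ) (hf : ∀ (g : S) (x : X), f (g • x) = f x)
    [DecidablePred (· ∈ MulAction.fixedPoints S X)] :
    ∑ x, f x ≡ ∑ x, (if x ∈ MulAction.fixedPoints S X then f x else 0) [MOD p] := by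
  classical
  obtain ⟨N, hN⟩ : ∃ N, ∀ x, f x ≤ N :=
    ⟨∑ x, f x, fun x => Finset.single_le_sum (fun _ _ => Nat.zero_le _) (Finset.mem_univ x)⟩
  let _ := weightAction f N hf
  have h := hS.card_modEq_card_fixedPoints {q : X × Fin N // q.2.val < f q.1}
  have h1 : Nat.card {q : X × Fin N // q.2.val < f q.1} = ∑ x, f x := by
    have := card_weight f N hN (fun _ => True)
    simp only [true_and, if_true] at this
    exact this
  have h2 : Nat.card (MulAction.fixedPoints S {q : X × Fin N // q.2.val < f q.1}) =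
      ∑ x, if x ∈ MulAction.fixedPoints S X then f x else 0 := by
    rw [← card_weight f N hN (fun x => x ∈ MulAction.fixedPoints S X)]
    refine Nat.card_congr ?_
    refine
      { toFun := fun y => ⟨y.1.1, ⟨fun g => ?_, y.1.2⟩⟩
        invFun := fun z => ⟨⟨z.1, z.2.2⟩, fun g => ?_⟩
        left_inv := fun y => rfl
        right_inv := fun z => rfl }
    · have h3 := congrArg (fun y : {q : X × Fin N // q.2.val < f q.1} => y.1.1) (y.2 g)
      exact h3
    · exact Subtype.ext (Prod.ext (z.2.1 g) rfl)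
  rw [h1, h2] at h
  exact h

end Weighted

section Act

open Cfsg.Agent.Lib.Helper84 (conjFun_one conjFun_mul isIrrCharacter_conjFun inertiaSub)

variable {A : Type u} [Group A] (M : Subgroup A) [hM : M.Normal] [Finite M]

/-- `A` acts on the irreducible characters of the normal subgroup `M` by conjugation. -/
@[reducible]
noncomputable def irrAction : MulAction A (IrrCharacter M) where
  smul a θ := ⟨Helper84.conjFun M a⁻¹ θ.1, isIrrCharacter_conjFun M a⁻¹ θ.2⟩
  one_smul θ := Subtype.ext (by
    show Helper84.conjFun M (1 : A)⁻¹ θ.1 = θ.1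
    rw [inv_one, conjFun_one])
  mul_smul a b θ := Subtype.ext (by
    show Helper84.conjFun M (a * b)⁻¹ θ.1 = Helper84.conjFun M a⁻¹ (Helper84.conjFun M b⁻¹ θ.1)
    rw [mul_inv_rev, conjFun_mul])

theorem irrAction_smul_val (a : A) (θ : IrrCharacter M) :
    (letI := irrAction M; ((a • θ : IrrCharacter M) : M → ℂ)) = Helper84.conjFun M a⁻¹ θ.1 := rfl

end Act

section Main

open Cfsg.Agent.Lib.Helper84 (conjFun_one conjFun_mul isIrrCharacter_conjFun inertiaSub)

/-- The squares of the degrees of the irreducible characters sum to the group order. -/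
theorem sum_charDegree_sq {G : Type u} [Group G] [Finite G] [Fintype (IrrCharacter G)] :
    ∑ θ : IrrCharacter G, charDegree (θ : G → ℂ) ^ 2 = Nat.card G := by
  have : Fintype G := Fintype.ofFinite G
  have h := Cfsg.Agent.Lib.Helper04.sum_sq_degrees (G := G)
  rw [finsum_eq_sum_of_fintype] at h
  have h2 : ((∑ θ : IrrCharacter G, charDegree (θ : G → ℂ) ^ 2 : ℕ) : ℂ) = (Nat.card G : ℂ) := by
    rw [← h, Nat.cast_sum]
    refine Finset.sum_congr rfl fun θ _ => ?_
    rw [Nat.cast_pow,
      Cfsg.Agent.Lib.Helper83.charDegree_cast (Cfsg.Agent.Lib.Helper83.isCharacter_of_irr θ.2)]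
  exact_mod_cast h2

/-- A subgroup of index a power of `s` together with a Sylow `s`-subgroup generates the group. -/
theorem sylow_sup_eq_top {A : Type u} [Group A] [Finite A] (M : Subgroup A) (s : ℕ)
    [Fact s.Prime] (k : ℕ) (hidx : M.index = s ^ k) (P : Sylow s A) :
    (P : Subgroup A) ⊔ M = ⊤ := by
  have hs : s.Prime := Fact.out
  have h1 : ((P : Subgroup A) ⊔ M).index ∣ (P : Subgroup A).index :=
    Subgroup.index_dvd_of_le le_sup_left
  have h2 : ((P : Subgroup A) ⊔ M).index ∣ s ^ k := by
    rw [← hidx]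
    exact Subgroup.index_dvd_of_le le_sup_right
  obtain ⟨j, -, hj⟩ := (Nat.dvd_prime_pow hs).1 h2
  have hP : ¬ s ∣ (P : Subgroup A).index := P.not_dvd_index
  rcases Nat.eq_zero_or_pos j with rfl | hjpos
  · rw [pow_zero] at hj
    exact Subgroup.index_eq_one.1 hj
  · exfalso
    apply hP
    refine dvd_trans ?_ h1
    rw [hj]
    exact dvd_pow_self s hjpos.ne'

/-- **K-S4140-D.** -/
theorem exists_invariant_irr_not_dvd {A : Type u} [Group A] [Finite A] (M : Subgroup A)
    [hM : M.Normal] (s : ℕ) [Fact s.Prime] (k : ℕ) (hidx : M.index = s ^ k)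
    (hs : s ∣ Nat.card M) :
    ∃ θ : M → ℂ, IsIrrCharacter M θ ∧ (θ ≠ fun _ => 1) ∧
      (∀ a : A, Cfsg.Agent.Lib.Helper84.conjFun M a θ = θ) ∧ ¬ (s ∣ charDegree θ) := by
  classical
  have hsp : s.Prime := Fact.out
  by_contra hcon
  push Not at hcon
  let P : Sylow s A := default
  let _ : MulAction A (IrrCharacter M) := irrAction M
  have : Fintype (IrrCharacter M) := Fintype.ofFinite _
  have hcong := sum_modEq_sum_fixedPoints (S := ↥(P : Subgroup A)) (X := IrrCharacter M) s P.2
    (fun θ => charDegree (θ : M → ℂ) ^ 2) (by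
      intro g θ
      show charDegree (Helper84.conjFun M (g : A)⁻¹ θ.1) ^ 2 = charDegree θ.1 ^ 2
      congr 1
      unfold charDegree
      rw [Cfsg.Agent.Lib.Helper84.conjFun_apply]
      have h1 : (⟨((g : A))⁻¹ * ((1 : M) : A) * ((g : A)⁻¹)⁻¹,
          hM.conj_mem _ (1 : M).2 (g : A)⁻¹⟩ : M) = 1 := by
        apply Subtype.ext
        simp
      rw [h1])
  rw [sum_charDegree_sq] at hcong
  -- the fixed characters are invariant under all of `A`
  have hfix : ∀ θ : IrrCharacter M, θ ∈ MulAction.fixedPoints (↥(P : Subgroup A)) (IrrCharacter M) →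
      ∀ a : A, Helper84.conjFun M a θ.1 = θ.1 := by
    intro θ hθ a
    have hle : (P : Subgroup A) ⊔ M ≤ inertiaSub M θ.1 := by
      refine sup_le ?_ ?_
      · intro g hg
        rw [Cfsg.Agent.Lib.Helper84.mem_inertiaSub]
        have h1 := hθ ⟨g⁻¹, inv_mem hg⟩
        have h2 := congrArg (fun χ : IrrCharacter M => (χ : M → ℂ)) h1
        have h3 : Helper84.conjFun M (g⁻¹)⁻¹ θ.1 = θ.1 := h2
        rwa [inv_inv] at h3
      · exact Cfsg.Agent.Lib.Helper84.le_inertiaSub M
          (Cfsg.Agent.Lib.Helper04.isClassFunction_of_isIrrCharacter θ.2)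
    rw [sylow_sup_eq_top M s k hidx P] at hle
    exact (Cfsg.Agent.Lib.Helper84.mem_inertiaSub M θ.1 a).1 (hle (Subgroup.mem_top a))
  -- the trivial character
  set τ : IrrCharacter M := Cfsg.Agent.Lib.Helper83.trivChar M with hτ
  have hτval : (τ : M → ℂ) = fun _ => 1 := by
    funext m
    exact Cfsg.Agent.Lib.Helper83.trivChar_apply m
  have hτfix : τ ∈ MulAction.fixedPoints (↥(P : Subgroup A)) (IrrCharacter M) := by
    intro g
    apply Subtype.ext
    show Helper84.conjFun M (g : A)⁻¹ τ.1 = τ.1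
    rw [hτval]
    rfl
  have hτdeg : charDegree (τ : M → ℂ) = 1 := by
    rw [hτval]
    unfold charDegree
    simp
  -- split the sum
  rw [← Finset.add_sum_erase Finset.univ _ (Finset.mem_univ τ), if_pos hτfix, hτdeg] at hcong
  have hrest : s ∣ ∑ x ∈ Finset.univ.erase τ,
      (if x ∈ MulAction.fixedPoints (↥(P : Subgroup A)) (IrrCharacter M)
        then charDegree (x : M → ℂ) ^ 2 else 0) := by
    refine Finset.dvd_sum fun θ hθ => ?_
    split_ifs with hθfix
    · have hne : (θ : M → ℂ) ≠ fun _ => 1 := by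
        intro h
        apply Finset.ne_of_mem_erase hθ
        apply Subtype.ext
        rw [h, hτval]
      exact dvd_pow (hcon θ.1 θ.2 hne (hfix θ hθfix)) two_ne_zero
    · exact dvd_zero s
  have h0 : Nat.card M ≡ 0 [MOD s] := (Nat.modEq_zero_iff_dvd).2 hs
  have h1 : (1 ^ 2 + ∑ x ∈ Finset.univ.erase τ,
      (if x ∈ MulAction.fixedPoints (↥(P : Subgroup A)) (IrrCharacter M)
        then charDegree (x : M → ℂ) ^ 2 else 0)) ≡ 1 [MOD s] := by
    obtain ⟨c, hc⟩ := hrest
    rw [hc, one_pow]
    have : (1 + s * c) % s = 1 % s := by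
      rw [Nat.add_mul_mod_self_left]
    exact this
  have h2 : (0 : ℕ) ≡ 1 [MOD s] := h0.symm.trans (hcong.trans h1)
  have h3 : s ∣ 1 := (Nat.modEq_zero_iff_dvd).1 h2.symm
  exact hsp.one_lt.ne' (Nat.dvd_one.1 h3)

end Main

end Cfsg.Agent.Lib.Helper96.Camina
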