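import Mathlib
import Cfsg.Prelude.Def_GeometricClasses
import Cfsg.Agent.Lib.Helper61.AschDefs
import Cfsg.Agent.Lib.Helper43.SpAschDefs
import Cfsg.Agent.Lib.Helper43.SpAschDefs2

/-!
# K-SpAsch-T1 (S5662, architect helper43): transport of the `ts` and `nd` constructors of `SGeom`
along a bijection of index types.
-/

set_option autoImplicit false
set_option linter.unusedSectionVars false

namespace Cfsg.Agent.Lib.Helper96.SpAsch

open Cfsg Cfsg.Geo Cfsg.Agent.Lib.Helper61.Asch Cfsg.Agent.Lib.Helper43.SpAsch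
open scoped Matrix Kronecker MatrixGroups

variable {ι κ : Type} [Fintype ι] [DecidableEq ι] [Fintype κ] [DecidableEq κ] {F : Type*} [Field F] [Fintype F]

/-- the transported subspace `{w ∘ e | w ∈ W}` -/
def pullSub (e : ι ≃ κ) (W : Submodule F (κ → F)) : Submodule F (ι → F) :=
  W.map (LinearEquiv.funCongrLeft F F e).toLinearMap

theorem mem_pullSub (e : ι ≃ κ) (W : Submodule F (κ → F)) (v : ι → F) :
    v ∈ pullSub e W ↔ v ∘ e.symm ∈ W := by
  constructor
  · rintro ⟨w, hw, rfl⟩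
    have : (fun x => w (e x)) ∘ e.symm = w := by
      funext x; simp
    change ((LinearEquiv.funCongrLeft F F e) w) ∘ e.symm ∈ W
    have h2 : ((LinearEquiv.funCongrLeft F F e) w) ∘ e.symm = w := by
      funext x; simp [LinearEquiv.funCongrLeft_apply, LinearMap.funLeft_apply]
    rw [h2]; exact hw
  · intro h
    refine ⟨v ∘ e.symm, h, ?_⟩
    funext x
    simp [LinearEquiv.funCongrLeft_apply, LinearMap.funLeft_apply]

theorem comp_mem_pullSub (e : ι ≃ κ) (W : Submodule F (κ → F)) {w : κ → F} (hw : w ∈ W) :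
    w ∘ e ∈ pullSub e W := by
  rw [mem_pullSub]
  have : (w ∘ e) ∘ e.symm = w := by funext x; simp
  rw [this]; exact hw

theorem pullSub_ne_bot (e : ι ≃ κ) (W : Submodule F (κ → F)) (h0 : W ≠ ⊥) : pullSub e W ≠ ⊥ := by
  obtain ⟨w, hw, hw0⟩ := (Submodule.ne_bot_iff W).1 h0
  rw [Submodule.ne_bot_iff]
  refine ⟨w ∘ e, comp_mem_pullSub e W hw, ?_⟩
  intro h
  apply hw0
  funext x
  have := congrFun h (e.symm x)
  simpa using this

theorem le_stabilizer_pullSub (e : ι ≃ κ) (K : Subgroup (GL ι F)) (W : Submodule F (κ → F))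
    (hK : K.map (glMap e).toMonoidHom ≤ subspaceStabilizer W) : K ≤ subspaceStabilizer (pullSub e W) := by
  intro g hg v
  have h1 : glMap e g ∈ subspaceStabilizer W := hK ⟨g, hg, rfl⟩
  have h2 := h1 (v ∘ e.symm)
  change (v ∘ e.symm ∈ W ↔ ((glMap e g : GL κ F) : Matrix κ κ F) *ᵥ (v ∘ e.symm) ∈ W) at h2
  rw [glMap_mulVec] at h2
  have h3 : (v ∘ e.symm) ∘ e = v := by funext x; simp
  rw [h3] at h2
  change v ∈ pullSub e W ↔ (g : Matrix ι ι F) *ᵥ v ∈ pullSub e W
  rw [mem_pullSub, mem_pullSub]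
  exact h2

theorem finrank_pullSub (e : ι ≃ κ) (W : Submodule F (κ → F)) :
    Module.finrank F (pullSub e W) = Module.finrank F W :=
  LinearEquiv.finrank_map_eq (LinearEquiv.funCongrLeft F F e) W

/-- **K-SpAsch-T1** (ts). -/
theorem sgeom_transport_ts (e : ι ≃ κ) (f : (ι → F) → (ι → F) → F) (K : Subgroup (GL ι F))
    (W : Submodule F (κ → F)) (h0 : W ≠ ⊥) (hts : IsTotallySingularFor (formMap e f) W)
    (hK : K.map (glMap e).toMonoidHom ≤ subspaceStabilizer W) : SGeom f K := by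
  refine .ts (pullSub e W) (pullSub_ne_bot e W h0) ?_ (le_stabilizer_pullSub e K W hK)
  intro u hu v hv
  rw [mem_pullSub] at hu hv
  have := hts _ hu _ hv
  simp only [formMap] at this
  have hu' : (u ∘ e.symm) ∘ e = u := by funext x; simp
  have hv' : (v ∘ e.symm) ∘ e = v := by funext x; simp
  rwa [hu', hv'] at this

/-- **K-SpAsch-T1** (nd). -/
theorem sgeom_transport_nd (e : ι ≃ κ) (f : (ι → F) → (ι → F) → F) (K : Subgroup (GL ι F))
    (W : Submodule F (κ → F)) (h0 : W ≠ ⊥) (hnd : IsNondegenerateOn (formMap e f) W)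
    (hdim : 2 * Module.finrank F W < Fintype.card κ)
    (hK : K.map (glMap e).toMonoidHom ≤ subspaceStabilizer W) : SGeom f K := by
  refine .nd (pullSub e W) (pullSub_ne_bot e W h0) ?_ ?_ (le_stabilizer_pullSub e K W hK)
  · intro w hw hw0
    rw [mem_pullSub] at hw
    have hw' : (w ∘ e.symm) ∘ e = w := by funext x; simp
    have hne : w ∘ e.symm ≠ 0 := by
      intro h
      apply hw0
      rw [← hw', h]
      rfl
    obtain ⟨⟨x, hx, hx1⟩, ⟨y, hy, hy1⟩⟩ := hnd _ hw hne
    simp only [formMap] at hx1 hy1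
    rw [hw'] at hx1 hy1
    exact ⟨⟨x ∘ e, comp_mem_pullSub e W hx, hx1⟩, ⟨y ∘ e, comp_mem_pullSub e W hy, hy1⟩⟩
  · rw [finrank_pullSub, Fintype.card_congr e]
    exact hdim

end Cfsg.Agent.Lib.Helper96.SpAsch
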