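import Cfsg.Agent.Lib.Helper44.PrnADefs

/-!
# K-PrnA LEAF MAIN (keystone 222209, architect helper44, S2222)

`eq_one_of_mem_normalizer_of_odd`: an element of odd order normalising a Sylow 2-subgroup of
`Perm α` is trivial (induction on `|α|` via the action on the transpositions of `P`).
-/

set_option autoImplicit false
set_option linter.unusedVariables false
set_option linter.unusedSectionVars false

namespace Cfsg.Agent.Lib.Helper96.PrnA

open Equiv Equiv.Perm Cfsg.Agent.Lib.Helper44.PrnA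

universe u

theorem main_aux
    (H1 : ∀ (β : Type u) [Fintype β] [DecidableEq β] (P : Sylow 2 (Perm β)) (h : Perm β),
      (∀ τ ∈ swapsIn (P : Subgroup (Perm β)), h * τ * h⁻¹ = τ) → h * h = 1)
    (H2 : ∀ (β : Type u) [Fintype β] [DecidableEq β] (P : Sylow 2 (Perm β)) (K : Subgroup (Perm β)),
      (∀ h ∈ K, ∀ τ ∈ swapsIn (P : Subgroup (Perm β)), h * τ * h⁻¹ = τ) →
      Nat.card K ≤ 2 ^ (Fintype.card β / 2))
    (H3 : ∀ (β : Type u) [Fintype β] [DecidableEq β] (P : Sylow 2 (Perm β)),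
      (swapsIn (P : Subgroup (Perm β))).card = Fintype.card β / 2)
    (H4 : ∀ n : ℕ, (n.factorial).factorization 2 = n / 2 + ((n / 2).factorial).factorization 2) :
    ∀ (n : ℕ) (α : Type u) [Fintype α] [DecidableEq α], Fintype.card α = n →
      ∀ (P : Sylow 2 (Perm α)) (g : Perm α),
      g ∈ Subgroup.normalizer ((P : Subgroup (Perm α)) : Set (Perm α)) →
      Odd (orderOf g) → g = 1 := by
  intro n
  induction n using Nat.strong_induction_on with
  | _ n ih =>
    intro α _ _ hn P g hg hodd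
    rcases Nat.eq_zero_or_pos n with h0 | hpos
    · subst h0
      have : IsEmpty α := Fintype.card_eq_zero_iff.mp hn
      exact Subsingleton.elim _ _
    set M := swapsIn (P : Subgroup (Perm α)) with hM
    set N := Subgroup.normalizer ((P : Subgroup (Perm α)) : Set (Perm α)) with hN
    have hPN : (P : Subgroup (Perm α)) ≤ N := Subgroup.le_normalizer
    have hmem : ∀ (h : Perm α), h ∈ N → ∀ τ ∈ M, h * τ * h⁻¹ ∈ M := by
      intro h hh τ hτ
      rw [hM, mem_swapsIn] at hτ ⊢
      refine ⟨(Subgroup.mem_normalizer_iff.mp hh τ).mp hτ.1, ?_⟩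
      obtain ⟨a, b, hab, rfl⟩ := hτ.2
      refine ⟨h a, h b, fun e => hab (h.injective e), ?_⟩
      exact (Equiv.swap_apply_apply h a b).symm
    letI act : MulAction N ↥M :=
      { smul := fun h τ => ⟨(h : Perm α) * τ.1 * (h : Perm α)⁻¹, hmem h.1 h.2 τ.1 τ.2⟩
        one_smul := fun τ => Subtype.ext (by
          show ((1 : N) : Perm α) * τ.1 * ((1 : N) : Perm α)⁻¹ = τ.1
          simp)
        mul_smul := fun h1 h2 τ => Subtype.ext (by
          show ((h1 * h2 : N) : Perm α) * τ.1 * ((h1 * h2 : N) : Perm α)⁻¹ =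
            (h1 : Perm α) * ((h2 : Perm α) * τ.1 * (h2 : Perm α)⁻¹) * (h1 : Perm α)⁻¹
          simp [mul_assoc]) }
    let φ : N →* Perm ↥M := MulAction.toPermHom N ↥M
    have hφ : ∀ (h : N) (τ : ↥M),
        ((φ h τ : ↥M) : Perm α) = (h : Perm α) * τ.1 * (h : Perm α)⁻¹ := fun _ _ => rfl
    let ψ : ↥(P : Subgroup (Perm α)) →* Perm ↥M := φ.comp (Subgroup.inclusion hPN)
    have hψ : ∀ x : ↥(P : Subgroup (Perm α)), ψ x = φ (Subgroup.inclusion hPN x) := fun _ => rfl
    set P' : Subgroup (Perm ↥M) := ψ.range with hP'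
    have hcardβ : Fintype.card ↥M = n / 2 := by
      rw [Fintype.card_coe, hM, H3 α P, hn]
    have hlt : Fintype.card ↥M < n := by
      rw [hcardβ]; exact Nat.div_lt_self hpos (by norm_num)
    -- the kernel
    set K : Subgroup (Perm α) := ψ.ker.map (Subgroup.subtype _) with hK
    have hKfix : ∀ h ∈ K, ∀ τ ∈ M, h * τ * h⁻¹ = τ := by
      rintro h ⟨x, hx, rfl⟩ τ hτ
      have h1 : ψ x = 1 := hx
      have h2 := hφ (Subgroup.inclusion hPN x) ⟨τ, hτ⟩
      rw [← hψ, h1] at h2
      exact h2.symm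
    have hKcard : Nat.card K ≤ 2 ^ (n / 2) := by
      have := H2 α P K hKfix
      rwa [hn] at this
    have hKker : Nat.card K = Nat.card ψ.ker :=
      Subgroup.card_map_of_injective (Subgroup.subtype_injective _)
    have hPcard : Nat.card (P : Subgroup (Perm α)) = 2 ^ (n.factorial).factorization 2 := by
      rw [Sylow.card_eq_multiplicity, Nat.card_perm, Nat.card_eq_fintype_card, hn]
    have hmul : Nat.card ψ.ker * Nat.card P' = Nat.card (P : Subgroup (Perm α)) := by
      rw [hP', ← Subgroup.index_ker, Subgroup.card_mul_index]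
    have hcardPerm : Nat.card (Perm ↥M) = (n / 2).factorial := by
      rw [Nat.card_perm, Nat.card_eq_fintype_card, hcardβ]
    -- `P'` is a 2-group
    have hP'p : IsPGroup 2 P' :=
      IsPGroup.of_surjective P.isPGroup' ψ.rangeRestrict ψ.rangeRestrict_surjective
    obtain ⟨k, hk⟩ := IsPGroup.iff_card.mp hP'p
    have hdvd : 2 ^ k ∣ (n / 2).factorial := by
      rw [← hk, ← hcardPerm]; exact Subgroup.card_subgroup_dvd_card P'
    have hk_le : k ≤ ((n / 2).factorial).factorization 2 :=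
      (Nat.Prime.pow_dvd_iff_le_factorization Nat.prime_two (Nat.factorial_ne_zero _)).mp hdvd
    have hk_ge : ((n / 2).factorial).factorization 2 ≤ k := by
      have h1 : 2 ^ (n / 2 + ((n / 2).factorial).factorization 2) ≤ 2 ^ (n / 2) * 2 ^ k := by
        rw [← H4 n, ← hPcard, ← hmul, hk, ← hKker]
        exact Nat.mul_le_mul_right _ hKcard
      rw [pow_add] at h1
      have h2 := Nat.le_of_mul_le_mul_left h1 (by positivity)
      exact (Nat.pow_le_pow_iff_right (by norm_num)).mp h2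
    have hcardP' : Nat.card P' = 2 ^ (Nat.card (Perm ↥M)).factorization 2 := by
      rw [hk, hcardPerm, le_antisymm hk_le hk_ge]
    -- conjugation by elements of `N` preserves `P'`
    have hconj : ∀ (m : N) (y : Perm ↥M), y ∈ P' → φ m * y * (φ m)⁻¹ ∈ P' := by
      rintro m y ⟨x, rfl⟩
      refine ⟨⟨(m : Perm α) * (x : Perm α) * (m : Perm α)⁻¹,
        (Subgroup.mem_normalizer_iff.mp m.2 x.1).mp x.2⟩, ?_⟩
      rw [hψ, hψ, ← map_inv, ← map_mul, ← map_mul]
      congr 1
    have hnorm : φ ⟨g, hg⟩ ∈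
        Subgroup.normalizer (((Sylow.ofCard P' hcardP' : Sylow 2 (Perm ↥M)) :
          Subgroup (Perm ↥M)) : Set (Perm ↥M)) := by
      rw [Sylow.coe_ofCard, Subgroup.mem_normalizer_iff]
      intro y
      constructor
      · exact hconj ⟨g, hg⟩ y
      · intro hy
        have h1 := hconj (⟨g, hg⟩⁻¹ : N) _ hy
        rw [map_inv] at h1
        simpa [mul_assoc] using h1
    have hodd' : Odd (orderOf (φ ⟨g, hg⟩)) := by
      have h1 : orderOf (φ ⟨g, hg⟩) ∣ orderOf g := by
        have := orderOf_map_dvd φ (⟨g, hg⟩ : N)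
        rwa [Subgroup.orderOf_mk] at this
      exact Odd.of_dvd_nat hodd h1
    have hφg : φ ⟨g, hg⟩ = 1 :=
      ih (Fintype.card ↥M) hlt ↥M rfl (Sylow.ofCard P' hcardP') (φ ⟨g, hg⟩) hnorm hodd'
    have hfix : ∀ τ ∈ swapsIn (P : Subgroup (Perm α)), g * τ * g⁻¹ = τ := by
      intro τ hτ
      have h2 := hφ ⟨g, hg⟩ ⟨τ, hτ⟩
      rw [hφg] at h2
      exact h2.symm
    have hgg : g * g = 1 := H1 α P g hfix
    have hdvd2 : orderOf g ∣ 2 := orderOf_dvd_of_pow_eq_one (by rw [pow_two]; exact hgg)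
    have hone : orderOf g = 1 :=
      Nat.Coprime.eq_one_of_dvd (Nat.Coprime.symm (Nat.coprime_two_left.mpr hodd)) hdvd2
    exact orderOf_eq_one_iff.mp hone

/-- LEAF MAIN (222209). -/
theorem eq_one_of_mem_normalizer_of_odd
    (H1 : ∀ (β : Type u) [Fintype β] [DecidableEq β] (P : Sylow 2 (Perm β)) (h : Perm β),
      (∀ τ ∈ swapsIn (P : Subgroup (Perm β)), h * τ * h⁻¹ = τ) → h * h = 1)
    (H2 : ∀ (β : Type u) [Fintype β] [DecidableEq β] (P : Sylow 2 (Perm β)) (K : Subgroup (Perm β)),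
      (∀ h ∈ K, ∀ τ ∈ swapsIn (P : Subgroup (Perm β)), h * τ * h⁻¹ = τ) →
      Nat.card K ≤ 2 ^ (Fintype.card β / 2))
    (H3 : ∀ (β : Type u) [Fintype β] [DecidableEq β] (P : Sylow 2 (Perm β)),
      (swapsIn (P : Subgroup (Perm β))).card = Fintype.card β / 2)
    (H4 : ∀ n : ℕ, (n.factorial).factorization 2 = n / 2 + ((n / 2).factorial).factorization 2)
    {α : Type u} [Fintype α] [DecidableEq α] (P : Sylow 2 (Perm α)) (g : Perm α)
    (hg : g ∈ Subgroup.normalizer ((P : Subgroup (Perm α)) : Set (Perm α)))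
    (hodd : Odd (orderOf g)) : g = 1 :=
  main_aux H1 H2 H3 H4 (Fintype.card α) α rfl P g hg hodd

end Cfsg.Agent.Lib.Helper96.PrnA
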