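import Cfsg.Agent.Lib.Helper44.PrnADefs

/-!
# K-PrnA LEAF SW2 (keystone 222205, architect helper44, S2222), parallel hand

Every Sylow 2-subgroup of `Perm α` contains `|α| / 2` pairwise disjoint transpositions.
-/

set_option autoImplicit false
set_option linter.unusedVariables false

namespace Cfsg.Agent.Lib.Helper96.PrnA

open Equiv Equiv.Perm

universe u

theorem exists_disjoint_swaps {α : Type u} [Fintype α] [DecidableEq α] (P : Sylow 2 (Perm α)) :
    ∃ f : Fin (Fintype.card α / 2) → α × α, (∀ i, (f i).1 ≠ (f i).2) ∧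
      (∀ i, swap (f i).1 (f i).2 ∈ (P : Subgroup (Perm α))) ∧
      ∀ i j, i ≠ j → (f i).1 ≠ (f j).1 ∧ (f i).1 ≠ (f j).2 ∧ (f i).2 ≠ (f j).1 ∧ (f i).2 ≠ (f j).2 := by
  classical
  let e : α ≃ Fin (Fintype.card α) := Fintype.equivFin α
  have h2i : ∀ i : Fin (Fintype.card α / 2), 2 * (i : ℕ) + 1 < Fintype.card α := fun i => by
    have := i.2; omega
  let a : Fin (Fintype.card α / 2) → α := fun i => e.symm ⟨2 * i, by have := h2i i; omega⟩
  let b : Fin (Fintype.card α / 2) → α := fun i => e.symm ⟨2 * i + 1, h2i i⟩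
  have hab : ∀ i, a i ≠ b i := by
    intro i h
    have := e.symm.injective h
    simp [Fin.ext_iff] at this
  have hdis : ∀ i j, i ≠ j → a i ≠ a j ∧ a i ≠ b j ∧ b i ≠ a j ∧ b i ≠ b j := by
    intro i j hij
    have hij' : (i : ℕ) ≠ j := fun h => hij (Fin.ext h)
    refine ⟨?_, ?_, ?_, ?_⟩ <;> intro h <;> have := e.symm.injective h <;>
      simp [Fin.ext_iff] at this <;> omega
  let s : Fin (Fintype.card α / 2) → Perm α := fun i => swap (a i) (b i)
  have hss : ∀ i, s i * s i = 1 := fun i => Equiv.swap_mul_self _ _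
  have hcomm : ∀ x ∈ Set.range s, ∀ y ∈ Set.range s, x * y = y * x := by
    rintro _ ⟨i, rfl⟩ _ ⟨j, rfl⟩
    by_cases hij : i = j
    · rw [hij]
    · obtain ⟨h1, h2, h3, h4⟩ := hdis i j hij
      have hnd : [a i, b i, a j, b j].Nodup := by
        simp only [List.nodup_cons, List.mem_cons, List.not_mem_nil, or_false, not_or,
          List.nodup_nil, and_true, not_false_eq_true]
        exact ⟨⟨hab i, h1, h2⟩, ⟨h3, h4⟩, hab j⟩
      exact (Equiv.Perm.disjoint_swap_swap hnd).commute
  set E : Subgroup (Perm α) := Subgroup.closure (Set.range s) with hE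
  have hEcomm : ∀ x ∈ E, ∀ y ∈ E, x * y = y * x := fun x hx y hy =>
    Set.centralizer_centralizer_comm_of_comm hcomm x
      (Subgroup.closure_le_centralizer_centralizer _ hx) y
      (Subgroup.closure_le_centralizer_centralizer _ hy)
  have hEsq : ∀ x ∈ E, x * x = 1 := by
    intro x hx
    induction hx using Subgroup.closure_induction with
    | mem x hx =>
      obtain ⟨i, rfl⟩ := hx
      exact hss i
    | one => simp
    | mul x y hx hy ihx ihy =>
      calc x * y * (x * y) = x * (y * x) * y := by group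
        _ = x * (x * y) * y := by rw [hEcomm y hy x hx]
        _ = (x * x) * (y * y) := by group
        _ = 1 := by rw [ihx, ihy, one_mul]
    | inv x hx ihx =>
      calc x⁻¹ * x⁻¹ = (x * x)⁻¹ := by group
        _ = 1 := by rw [ihx, inv_one]
  have hEp : IsPGroup 2 E := by
    rintro ⟨x, hx⟩
    refine ⟨1, Subtype.ext ?_⟩
    show x ^ 2 ^ 1 = 1
    rw [pow_one, pow_two]
    exact hEsq x hx
  obtain ⟨P₀, hP₀⟩ := hEp.exists_le_sylow
  obtain ⟨g, hg⟩ := MulAction.exists_smul_eq (Perm α) P₀ P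
  refine ⟨fun i => (g (a i), g (b i)), ?_, ?_, ?_⟩
  · intro i h
    exact hab i (g.injective h)
  · intro i
    show swap (g (a i)) (g (b i)) ∈ (P : Subgroup (Perm α))
    rw [Equiv.swap_apply_apply, ← hg, Sylow.coe_subgroup_smul]
    have hmem : s i ∈ (P₀ : Subgroup (Perm α)) := hP₀ (Subgroup.subset_closure ⟨i, rfl⟩)
    exact Subgroup.smul_mem_pointwise_smul (s i) (MulAut.conj g) _ hmem
  · intro i j hij
    obtain ⟨h1, h2, h3, h4⟩ := hdis i j hij
    exact ⟨fun h => h1 (g.injective h), fun h => h2 (g.injective h),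
      fun h => h3 (g.injective h), fun h => h4 (g.injective h)⟩

end Cfsg.Agent.Lib.Helper96.PrnA
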