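import Cfsg.Agent.Lib.Helper45.AltFreeDefs
import Cfsg.Agent.Lib.Helper67.AltFreeP1

/-!
# S2276, keystone K-BASE (A): two 3-cycles
-/

set_option autoImplicit false

namespace Cfsg.Agent.Lib.Helper96.AltFree

open Equiv Equiv.Perm Cfsg.Agent.Lib.Helper45.AltFree

variable {α : Type*} [Fintype α] [DecidableEq α]

omit [Fintype α] [DecidableEq α] in
/-- five pairwise distinct points give an injective `Fin 5 → α`. -/
theorem injective_vec5 (a₀ a₁ a₂ a₃ a₄ : α) (h01 : a₀ ≠ a₁) (h02 : a₀ ≠ a₂) (h03 : a₀ ≠ a₃)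
    (h04 : a₀ ≠ a₄) (h12 : a₁ ≠ a₂) (h13 : a₁ ≠ a₃) (h14 : a₁ ≠ a₄) (h23 : a₂ ≠ a₃)
    (h24 : a₂ ≠ a₄) (h34 : a₃ ≠ a₄) : Function.Injective ![a₀, a₁, a₂, a₃, a₄] := by
  intro i j h
  fin_cases i <;> fin_cases j <;> simp at h <;>
    first
      | rfl
      | exact absurd h ‹_›
      | exact absurd h.symm ‹_›

omit [Fintype α] [DecidableEq α] in
open Fin.NatCast in
/-- a permutation acting on the injective family `v : Fin 5 → α` as `i ↦ i + 1` is not a
`3`-element. -/
theorem not_isPE_three_of_five_cycle (z : Perm α) (v : Fin 5 → α) (hv : Function.Injective v)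
    (hz : ∀ i : Fin 5, z (v i) = v (i + 1)) : ¬ IsPE 3 z := by
  rintro ⟨k, hk⟩
  have hpow : ∀ (m : ℕ) (i : Fin 5), (z ^ m) (v i) = v (i + (m : Fin 5)) := by
    intro m
    induction m with
    | zero =>
      intro i
      rw [pow_zero, Fin.natCast_zero, add_zero]
      rfl
    | succ m ih =>
      intro i
      rw [pow_succ', Perm.mul_apply, ih, hz]
      congr 1
      apply Fin.ext
      simp only [Fin.val_add, Fin.val_natCast, Fin.val_one]
      omega
  have h1 : (z ^ (3 ^ k)) (v 0) = v 0 := by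
    rw [← hk, pow_orderOf_eq_one]
    rfl
  rw [hpow] at h1
  have h2 := hv h1
  rw [zero_add] at h2
  have h3 : (5 : ℕ) ∣ 3 ^ k := (Fin.natCast_eq_zero (n := 5)).1 h2
  have h4 : (5 : ℕ) ∣ 3 := Nat.Prime.dvd_of_dvd_pow (by norm_num) h3
  omega

theorem base_A (h5 : 5 ≤ Fintype.card α) (u w : Perm α) (hu : u.IsThreeCycle)
    (hw : w.IsThreeCycle) : ∃ g ∈ alternatingGroup α, Good 3 u (g * w * g⁻¹) := by
  classical
  -- the three points of `u`
  have hu3 : u ^ 3 = 1 := by
    rw [← hu.orderOf]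
    exact pow_orderOf_eq_one u
  obtain ⟨a₀, ha₀⟩ : ∃ a₀, a₀ ∈ u.support := by
    have : u.support.Nonempty := by
      rw [← Finset.card_pos, hu.card_support]
      norm_num
    exact this
  have h0 : u a₀ ≠ a₀ := Perm.mem_support.1 ha₀
  have h3' : u (u (u a₀)) = a₀ := by
    have := congrArg (fun σ : Perm α => σ a₀) hu3
    simpa [pow_succ, Perm.mul_apply] using this
  have h1 : u (u a₀) ≠ u a₀ := fun h => h0 (u.injective h)
  have h2 : u (u a₀) ≠ a₀ := by
    intro h
    rw [h] at h3'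
    exact h0 h3'
  -- two points outside
  have hcard : 1 < (Finset.univ \ u.support).card := by
    rw [Finset.card_sdiff_of_subset (Finset.subset_univ _), hu.card_support, Finset.card_univ]
    omega
  obtain ⟨a₃, ha₃, a₄, ha₄, h34⟩ := Finset.one_lt_card.1 hcard
  have ha₃' : u a₃ = a₃ := by
    have := (Finset.mem_sdiff.1 ha₃).2
    exact Perm.notMem_support.1 this
  have ha₄' : u a₄ = a₄ := by
    have := (Finset.mem_sdiff.1 ha₄).2
    exact Perm.notMem_support.1 this
  have hne : ∀ x, u x = x → x ≠ a₀ ∧ x ≠ u a₀ ∧ x ≠ u (u a₀) := by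
    intro x hx
    refine ⟨?_, ?_, ?_⟩
    · rintro rfl; exact h0 hx
    · rintro rfl; exact h1 hx
    · rintro rfl
      rw [h3'] at hx
      exact h2 hx.symm
  obtain ⟨h30, h31, h32⟩ := hne a₃ ha₃'
  obtain ⟨h40, h41, h42⟩ := hne a₄ ha₄'
  set a₁ := u a₀ with ha₁
  set a₂ := u a₁ with ha₂
  let v : Fin 5 → α := ![a₀, a₁, a₂, a₃, a₄]
  have hv : Function.Injective v :=
    injective_vec5 a₀ a₁ a₂ a₃ a₄ h0.symm h2.symm h30.symm h40.symm h1.symm h31.symm h41.symm
      h32.symm h42.symm h34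
  -- the target 3-cycle
  let ws : Perm α := swap a₂ a₃ * swap a₃ a₄
  have hws3 : ws.IsThreeCycle := by
    have : ws = swap a₃ a₂ * swap a₃ a₄ := by
      show swap a₂ a₃ * swap a₃ a₄ = _
      rw [swap_comm a₂ a₃]
    rw [this]
    exact isThreeCycle_swap_mul_swap_same h32 h34 (fun h => h42 h.symm)
  have hws0 : ws a₀ = a₀ := by
    show (swap a₂ a₃ * swap a₃ a₄) a₀ = a₀
    rw [Perm.mul_apply, swap_apply_of_ne_of_ne h30.symm h40.symm,
      swap_apply_of_ne_of_ne h2.symm h30.symm]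
  have hws1 : ws a₁ = a₁ := by
    show (swap a₂ a₃ * swap a₃ a₄) a₁ = a₁
    rw [Perm.mul_apply, swap_apply_of_ne_of_ne h31.symm h41.symm,
      swap_apply_of_ne_of_ne h1.symm h31.symm]
  have hws2 : ws a₂ = a₃ := by
    show (swap a₂ a₃ * swap a₃ a₄) a₂ = a₃
    rw [Perm.mul_apply, swap_apply_of_ne_of_ne h32.symm h42.symm, swap_apply_left]
  have hws3' : ws a₃ = a₄ := by
    show (swap a₂ a₃ * swap a₃ a₄) a₃ = a₄
    rw [Perm.mul_apply, swap_apply_left, swap_apply_of_ne_of_ne h42 (fun h => h34 h.symm)]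
  have hws4 : ws a₄ = a₂ := by
    show (swap a₂ a₃ * swap a₃ a₄) a₄ = a₂
    rw [Perm.mul_apply, swap_apply_right, swap_apply_right]
  -- conjugate `w` to `ws` inside the alternating group
  have hwA : w ∈ alternatingGroup α := hw.mem_alternatingGroup
  have hwsA : ws ∈ alternatingGroup α := hws3.mem_alternatingGroup
  have hconj : IsConj (⟨w, hwA⟩ : alternatingGroup α) ⟨ws, hwsA⟩ :=
    alternatingGroup.isThreeCycle_isConj (by rwa [Nat.card_eq_fintype_card]) hw hws3
  obtain ⟨g, hg⟩ := isConj_iff.1 hconj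
  have hg' : (g : Perm α) * w * (g : Perm α)⁻¹ = ws := by
    have := congrArg (Subtype.val) hg
    simpa using this
  refine ⟨(g : Perm α), g.2, ?_⟩
  rw [hg']
  refine ⟨?_, ?_⟩
  · apply not_isPE_three_of_five_cycle (u * ws) v hv
    intro i
    fin_cases i
    · show (u * ws) a₀ = a₁
      rw [Perm.mul_apply, hws0]
    · show (u * ws) a₁ = a₂
      rw [Perm.mul_apply, hws1]
    · show (u * ws) a₂ = a₃
      rw [Perm.mul_apply, hws2, ha₃']
    · show (u * ws) a₃ = a₄
      rw [Perm.mul_apply, hws3', ha₄']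
    · show (u * ws) a₄ = a₀
      rw [Perm.mul_apply, hws4]
      exact h3'
  · exact Cfsg.Agent.Lib.Helper67.AltFree.not_solvable_of_local_three_cycles (Subgroup.closure ({u, ws} : Set (Perm α))) u ws
      (Subgroup.subset_closure (by simp)) (Subgroup.subset_closure (by simp)) v hv
      rfl rfl h3' ha₃' ha₄' hws0 hws1 hws2 hws3' hws4

end Cfsg.Agent.Lib.Helper96.AltFree
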