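import Mathlib
import Cfsg.Agent.Lib.Helper49.RSU3Defs

/-!
# K-RSU3-L27 (keystone 228327, S2283): `hM q μ 0 0 / hM q μ 1 1 = μ ^ 3`
-/

set_option autoImplicit false
set_option linter.unusedSectionVars false
set_option linter.unusedVariables false

namespace Cfsg.Agent.Lib.Helper96.RSU3

open Matrix Cfsg.Agent.Lib.Helper49.StSU Cfsg.Agent.Lib.Helper49.RSU3

variable {F : Type*} [Field F] [Fintype F] {q : ℕ}

/-- L27 -/
theorem hM_ratio (hq : 3 ≤ q) (hF : Fintype.card F = q ^ 2) (μ : F) (hμ : orderOf μ = q + 1) :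
    hM q μ 0 0 / hM q μ 1 1 = μ ^ 3 := by
  have hμ1 : μ ^ (q + 1) = 1 := by
    rw [← hμ]
    exact pow_orderOf_eq_one μ
  have hμ0 : μ ≠ 0 := by
    rintro rfl
    rw [zero_pow (by omega)] at hμ1
    exact zero_ne_one hμ1
  have hq' : μ ^ q = μ⁻¹ := by
    apply eq_inv_of_mul_eq_one_left
    rw [← pow_succ]
    exact hμ1
  have h00 : hM q μ 0 0 = μ := by simp [hM]
  have h11 : hM q μ 1 1 = μ ^ q / μ := by simp [hM]
  rw [h00, h11, hq']
  field_simp

end Cfsg.Agent.Lib.Helper96.RSU3
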