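import Cfsg.Agent.Lib.Helper49.StSpDefs
import Cfsg.Agent.Lib.Helper07.SpCenter

/-!
# K-StSp-C10 (keystone 254519): the centre of `Sp_{2m}(F)` is diagonal

From `Helper07.center_val_eq` (every central element is `±1`).
-/

set_option autoImplicit false
set_option linter.unusedSectionVars false
set_option linter.unusedVariables false

namespace Cfsg.Agent.Lib.Helper96.StSp

open Cfsg Cfsg.Agent.Lib.Helper49.StSp

variable {m : ℕ} {F : Type*} [Field F]

theorem center_le_T : Subgroup.center (SpG m F) ≤ Tsub m F := by
  intro z hz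
  rw [mem_Tsub_iff]
  intro a b hab
  have : Nonempty (Fin m) := by
    rcases a with a | a <;> exact ⟨a⟩
  rcases Cfsg.Agent.Lib.Helper07.center_val_eq z hz with h | h
  · rw [h, Matrix.one_apply_ne hab]
  · rw [h, Matrix.neg_apply, Matrix.one_apply_ne hab, neg_zero]

end Cfsg.Agent.Lib.Helper96.StSp
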