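import Mathlib
import Cfsg.Prelude.Def_GeometricClasses
import Cfsg.Agent.Lib.Helper95.Transvection

/-!
# K-SLMax-N8a / N8b : `SL_n` (`n ≥ 3`) is not inside a similarity group of a symplectic / unitary form
-/

set_option autoImplicit false

namespace Cfsg.Agent.Lib.Helper96.SLMax

open Cfsg Cfsg.Geo
open scoped Matrix Kronecker MatrixGroups

variable {F : Type*} [Field F] [Fintype F] {n : ℕ}

local notation "V" => (Fin n → F)
local notation "Mat" => Matrix (Fin n) (Fin n) F
local notation "SL" => specialLinear (Fin n) F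

/-- Common core of N8a, N8b, N8c: a non-degenerate form, additive in the second argument and such that
`f u (w - c • x) = 0` can be solved for `c` when `f u x ≠ 0`, has no similarity group containing `SL_n`, `n ≥ 3`. -/
theorem sl_not_le_similarityGroup_aux (hn : 3 ≤ n) (f : V → V → F)
    (hnd : IsNondegenerateForm f)
    (hsolve : ∀ u x w : V, f u x ≠ 0 → ∃ c : F, f u (w - c • x) = 0)
    (haddr : ∀ u v x : V, f u (v + x) = f u v + f u x) : ¬ SL ≤ similarityGroup f := by
  classical
  intro hle
  -- a nonzero vector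
  let u : V := Pi.single ⟨0, by omega⟩ 1
  have hu : u ≠ 0 := by
    intro h
    have := congrFun h ⟨0, by omega⟩
    simp [u] at this
  obtain ⟨x, hx⟩ := (hnd u hu).2
  -- the span of `u, x` is proper
  let S : Submodule F V := Submodule.span F {u, x}
  have hS : S ≠ ⊤ := by
    intro hS
    have h1 : Module.finrank F S ≤ 2 := by
      have h0 := finrank_span_finset_le_card (R := F) ({u, x} : Finset V)
      rw [Finset.coe_pair] at h0
      exact h0.trans Finset.card_le_two
    have h2 : Module.finrank F S = n := by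
      show Module.finrank F (↥(Submodule.span F {u, x})) = n
      have : (Submodule.span F ({u, x} : Set V)) = ⊤ := hS
      rw [this, finrank_top, Module.finrank_fin_fun]
    omega
  obtain ⟨w, hw⟩ : ∃ w : V, w ∉ S := by
    by_contra hcon
    simp only [not_exists, not_not] at hcon
    exact hS (Submodule.eq_top_iff'.2 hcon)
  obtain ⟨c, hc⟩ := hsolve u x w hx
  have huS : u ∈ S := Submodule.subset_span (by simp)
  have hxS : x ∈ S := Submodule.subset_span (by simp)
  have hv : w - c • x ∉ S := by
    intro hv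
    apply hw
    have : w = (w - c • x) + c • x := by abel
    rw [this]
    exact S.add_mem hv (S.smul_mem c hxS)
  obtain ⟨φ, hφS, hφv⟩ := Cfsg.Agent.Lib.Helper95.exists_dotProduct_separating S (w - c • x) hv
  have hφx : φ ⬝ᵥ x = 0 := hφS x hxS
  have hφu : φ ⬝ᵥ u = 0 := hφS u huS
  have hg : Cfsg.Agent.Lib.Helper95.tvGL φ x hφx ∈ similarityGroup f :=
    hle (Cfsg.Agent.Lib.Helper95.tvGL_mem_specialLinear φ x hφx)
  obtain ⟨c', hc'⟩ := hg
  have h1 := hc' u (w - c • x)
  rw [Cfsg.Agent.Lib.Helper95.tvGL_val, Cfsg.Agent.Lib.Helper95.tvMat_mulVec,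
    Cfsg.Agent.Lib.Helper95.tvMat_mulVec, hφu, hφv, zero_smul, one_smul, add_zero, haddr, hc,
    mul_zero, zero_add] at h1
  exact hx h1

/-- K-SLMax-N8a. -/
theorem sl_not_le_similarityGroup_symplectic (hn : 3 ≤ n) (f : V → V → F) (hf : IsSymplecticForm f) :
    ¬ SL ≤ similarityGroup f := by
  refine sl_not_le_similarityGroup_aux hn f hf.nondegenerate ?_ (fun u v x => hf.bilinear.add_right u v x)
  intro u x w hx
  refine ⟨f u w / f u x, ?_⟩
  have : w - (f u w / f u x) • x = w + (-(f u w / f u x)) • x := by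
    rw [neg_smul, sub_eq_add_neg]
  rw [this, hf.bilinear.add_right, hf.bilinear.smul_right]
  field_simp
  ring

/-- K-SLMax-N8b. -/
theorem sl_not_le_similarityGroup_unitary (hn : 3 ≤ n) (σ : F ≃+* F) (f : V → V → F) (hf : IsUnitaryForm σ f) :
    ¬ SL ≤ similarityGroup f := by
  have haddr : ∀ u v x : V, f u (v + x) = f u v + f u x := by
    intro u v x
    rw [hf.herm u (v + x), hf.add_left, map_add, ← hf.herm, ← hf.herm]
  have hsmulr : ∀ (d : F) (u x : V), f u (d • x) = σ d * f u x := by
    intro d u x
    rw [hf.herm u (d • x), hf.smul_left, map_mul, ← hf.herm]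
  refine sl_not_le_similarityGroup_aux hn f hf.nondegenerate ?_ haddr
  intro u x w hx
  refine ⟨σ (f u w / f u x), ?_⟩
  have : w - (σ (f u w / f u x)) • x = w + (-(σ (f u w / f u x))) • x := by
    rw [neg_smul, sub_eq_add_neg]
  rw [this, haddr, hsmulr, map_neg, hf.involutive]
  field_simp
  ring

end Cfsg.Agent.Lib.Helper96.SLMax
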