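import Mathlib

set_option autoImplicit false

/-!
# CT-groups (commutativity is transitive on non-identity elements): basic structure
-/

namespace Cfsg.Agent.Lib.Helper96.CA

variable {G : Type*} [Group G]

/-- the CT hypothesis -/
def CT (G : Type*) [Group G] : Prop :=
  ∀ a b c : G, a ≠ 1 → b ≠ 1 → c ≠ 1 → Commute a b → Commute b c → Commute a c

/-- centralizer of one element -/
abbrev Cz (x : G) : Subgroup G := Subgroup.centralizer ({x} : Set G)

theorem mem_Cz {x y : G} : y ∈ Cz x ↔ y * x = x * y :=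
  Subgroup.mem_centralizer_singleton_iff

theorem self_mem_Cz (x : G) : x ∈ Cz x := mem_Cz.2 rfl

theorem comm_of_mem (h : CT G) {x a b : G} (hx : x ≠ 1) (ha : a ∈ Cz x) (hb : b ∈ Cz x) :
    a * b = b * a := by
  by_cases ha1 : a = 1
  · simp [ha1]
  by_cases hb1 : b = 1
  · simp [hb1]
  exact h a x b ha1 hx hb1 (mem_Cz.1 ha) (mem_Cz.1 hb).symm

theorem Cz_eq (h : CT G) {x y : G} (hx : x ≠ 1) (hy : y ≠ 1) (hyx : y ∈ Cz x) : Cz y = Cz x := by
  ext z
  constructor
  · intro hz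
    by_cases hz1 : z = 1
    · rw [hz1]; exact one_mem _
    exact mem_Cz.2 (h z y x hz1 hy hx (mem_Cz.1 hz) (mem_Cz.1 hyx))
  · intro hz
    exact mem_Cz.2 (comm_of_mem h hx hz hyx)

/-- conjugation of centralizers, elementwise -/
theorem conj_mem_Cz {x z g : G} : g * z * g⁻¹ ∈ Cz (g * x * g⁻¹) ↔ z ∈ Cz x := by
  rw [mem_Cz, mem_Cz]
  constructor
  · intro hh
    have : g * (z * x) * g⁻¹ = g * (x * z) * g⁻¹ := by
      have e1 : g * z * g⁻¹ * (g * x * g⁻¹) = g * (z * x) * g⁻¹ := by group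
      have e2 : g * x * g⁻¹ * (g * z * g⁻¹) = g * (x * z) * g⁻¹ := by group
      rw [← e1, ← e2]; exact hh
    exact mul_left_cancel (mul_right_cancel this)
  · intro hh
    have e1 : g * z * g⁻¹ * (g * x * g⁻¹) = g * (z * x) * g⁻¹ := by group
    have e2 : g * x * g⁻¹ * (g * z * g⁻¹) = g * (x * z) * g⁻¹ := by group
    rw [e1, e2, hh]

/-- TI property of centralizers in a CT group -/
theorem mem_normalizer_of_meet (h : CT G) {x y g : G} (hx : x ≠ 1) (hy : y ≠ 1)
    (hyA : y ∈ Cz x) (hgy : g * y * g⁻¹ ∈ Cz x) :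
    g ∈ Subgroup.normalizer ((Cz x : Subgroup G) : Set G) := by
  have h1 : Cz y = Cz x := Cz_eq h hx hy hyA
  have hy' : g * y * g⁻¹ ≠ 1 := by
    intro hh
    apply hy
    have : y = g⁻¹ * (g * y * g⁻¹) * g := by group
    rw [this, hh]; group
  have h2 : Cz (g * y * g⁻¹) = Cz x := Cz_eq h hx hy' hgy
  rw [Subgroup.mem_normalizer_iff]
  intro z
  constructor
  · intro hz
    rw [← h2, conj_mem_Cz, h1]; exact hz
  · intro hz
    rw [← h2, conj_mem_Cz, h1] at hz; exact hz

/-- elements of the normalizer of `C(x)` fixing a nonidentity element of it lie in it -/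
theorem mem_of_comm (h : CT G) {x a n : G} (hx : x ≠ 1) (ha : a ∈ Cz x) (ha1 : a ≠ 1)
    (hn : n * a = a * n) : n ∈ Cz x := by
  rw [← Cz_eq h hx ha1 ha]
  exact mem_Cz.2 hn

end Cfsg.Agent.Lib.Helper96.CA
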