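import Mathlib
import Cfsg.Agent.Lib.Helper96.CA1

set_option autoImplicit false

/-!
# `PSL₂` over finite fields and the CT property
-/

namespace Cfsg.Agent.Lib.Helper96.CA

open Matrix

theorem CT_of_equiv {G H : Type*} [Group G] [Group H] (e : G ≃* H) (h : CT G) : CT H := by
  intro a b c ha hb hc hab hbc
  have h1 : ∀ x : H, x ≠ 1 → e.symm x ≠ 1 := by
    intro x hx hx'
    apply hx
    have : e (e.symm x) = e 1 := by rw [hx']
    rwa [e.apply_symm_apply, map_one] at this
  have hab' : Commute (e.symm a) (e.symm b) := by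
    show e.symm a * e.symm b = e.symm b * e.symm a
    rw [← map_mul, ← map_mul, hab.eq]
  have hbc' : Commute (e.symm b) (e.symm c) := by
    show e.symm b * e.symm c = e.symm c * e.symm b
    rw [← map_mul, ← map_mul, hbc.eq]
  have := h _ _ _ (h1 a ha) (h1 b hb) (h1 c hc) hab' hbc'
  have h2 : e.symm (a * c) = e.symm (c * a) := by
    rw [map_mul, map_mul]; exact this.eq
  exact e.symm.injective h2

section Odd

variable {K : Type*} [Field K]

/-- entries of a central element of `SL₂` -/
theorem center_entries {A : SpecialLinearGroup (Fin 2) K}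
    (hA : A ∈ Subgroup.center (SpecialLinearGroup (Fin 2) K)) :
    (A : Matrix (Fin 2) (Fin 2) K) 0 1 = 0 ∧ (A : Matrix (Fin 2) (Fin 2) K) 1 0 = 0 ∧
      (A : Matrix (Fin 2) (Fin 2) K) 0 0 = (A : Matrix (Fin 2) (Fin 2) K) 1 1 ∧
      (A : Matrix (Fin 2) (Fin 2) K) 0 0 * (A : Matrix (Fin 2) (Fin 2) K) 0 0 = 1 := by
  rw [Matrix.SpecialLinearGroup.mem_center_iff] at hA
  obtain ⟨r, hr, hrA⟩ := hA
  rw [Fintype.card_fin] at hr
  have h00 : (A : Matrix (Fin 2) (Fin 2) K) 0 0 = r := by rw [← hrA]; simp
  have h11 : (A : Matrix (Fin 2) (Fin 2) K) 1 1 = r := by rw [← hrA]; simp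
  have h01 : (A : Matrix (Fin 2) (Fin 2) K) 0 1 = 0 := by rw [← hrA]; simp
  have h10 : (A : Matrix (Fin 2) (Fin 2) K) 1 0 = 0 := by rw [← hrA]; simp
  refine ⟨h01, h10, by rw [h00, h11], ?_⟩
  rw [h00, ← pow_two]; exact hr

/-- the rotation-type element -/
def rotS (a b : K) (h : a ^ 2 + b ^ 2 = 1) : SpecialLinearGroup (Fin 2) K :=
  ⟨!![a, b; -b, a], by rw [det_fin_two_of]; linear_combination h⟩

/-- the reflection-type element -/
def refS (c d : K) (h : c ^ 2 + d ^ 2 = -1) : SpecialLinearGroup (Fin 2) K :=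
  ⟨!![c, d; d, -c], by rw [det_fin_two_of]; linear_combination -h⟩

/-- the Weyl element -/
def weylS : SpecialLinearGroup (Fin 2) K :=
  ⟨!![0, 1; -1, 0], by rw [det_fin_two_of]; ring⟩

/-- minus the identity -/
def negOneS : SpecialLinearGroup (Fin 2) K :=
  ⟨!![-1, 0; 0, -1], by rw [det_fin_two_of]; ring⟩

theorem negOneS_mem_center : (negOneS : SpecialLinearGroup (Fin 2) K) ∈
    Subgroup.center (SpecialLinearGroup (Fin 2) K) := by
  rw [Matrix.SpecialLinearGroup.mem_center_iff]
  refine ⟨-1, by rw [Fintype.card_fin]; ring, ?_⟩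
  ext i j
  fin_cases i <;> fin_cases j <;> simp [negOneS]

theorem rot_weyl (a b : K) (h : a ^ 2 + b ^ 2 = 1) : rotS a b h * weylS = weylS * rotS a b h := by
  apply Subtype.ext
  rw [Matrix.SpecialLinearGroup.coe_mul, Matrix.SpecialLinearGroup.coe_mul]
  show !![a, b; -b, a] * !![0, 1; -1, 0] = !![0, 1; -1, 0] * !![a, b; -b, a]
  ext i j
  fin_cases i <;> fin_cases j <;> simp [Matrix.mul_apply, Fin.sum_univ_two]

theorem weyl_ref (c d : K) (h : c ^ 2 + d ^ 2 = -1) :
    refS c d h * weylS = weylS * refS c d h * negOneS := by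
  apply Subtype.ext
  rw [Matrix.SpecialLinearGroup.coe_mul, Matrix.SpecialLinearGroup.coe_mul,
    Matrix.SpecialLinearGroup.coe_mul]
  show !![c, d; d, -c] * !![0, 1; -1, 0] = !![0, 1; -1, 0] * !![c, d; d, -c] * !![-1, 0; 0, -1]
  ext i j
  fin_cases i <;> fin_cases j <;> simp [Matrix.mul_apply, Fin.sum_univ_two]

theorem not_CT_psl_aux (h2 : (2 : K) ≠ 0) {a b c d : K} (hab : a ^ 2 + b ^ 2 = 1) (ha : a ≠ 0)
    (hb : b ≠ 0) (hcd : c ^ 2 + d ^ 2 = -1) :
    ¬ CT (ProjectiveSpecialLinearGroup (Fin 2) K) := by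
  intro hCT
  have hcd0 : ¬ (c = 0 ∧ d = 0) := by
    rintro ⟨rfl, rfl⟩
    simp at hcd
  let Z := Subgroup.center (SpecialLinearGroup (Fin 2) K)
  let R : ProjectiveSpecialLinearGroup (Fin 2) K := QuotientGroup.mk (rotS a b hab)
  let W : ProjectiveSpecialLinearGroup (Fin 2) K := QuotientGroup.mk (weylS : SpecialLinearGroup (Fin 2) K)
  let S : ProjectiveSpecialLinearGroup (Fin 2) K := QuotientGroup.mk (refS c d hcd)
  have hne : ∀ A : SpecialLinearGroup (Fin 2) K,
      ((QuotientGroup.mk A : ProjectiveSpecialLinearGroup (Fin 2) K) = 1) → A ∈ Z := by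
    intro A hA
    exact (QuotientGroup.eq_one_iff A).1 hA
  have hR1 : R ≠ 1 := by
    intro h
    have := (center_entries (hne _ h)).1
    simp [rotS] at this
    exact hb this
  have hW1 : W ≠ 1 := by
    intro h
    have := (center_entries (hne _ h)).1
    simp [weylS] at this
  have hS1 : S ≠ 1 := by
    intro h
    obtain ⟨h01, -, h00, -⟩ := center_entries (hne _ h)
    simp [refS] at h01 h00
    apply hcd0
    refine ⟨?_, h01⟩
    have : 2 * c = 0 := by linear_combination h00
    rcases mul_eq_zero.1 this with h | h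
    · exact absurd h h2
    · exact h
  have hRW : Commute R W := by
    show R * W = W * R
    show (QuotientGroup.mk (rotS a b hab) : ProjectiveSpecialLinearGroup (Fin 2) K) *
      QuotientGroup.mk weylS = QuotientGroup.mk weylS * QuotientGroup.mk (rotS a b hab)
    rw [← QuotientGroup.mk_mul, ← QuotientGroup.mk_mul, rot_weyl]
  have hWS : Commute W S := by
    show W * S = S * W
    show (QuotientGroup.mk weylS : ProjectiveSpecialLinearGroup (Fin 2) K) *
      QuotientGroup.mk (refS c d hcd) = QuotientGroup.mk (refS c d hcd) * QuotientGroup.mk weylS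
    rw [← QuotientGroup.mk_mul, ← QuotientGroup.mk_mul, weyl_ref, QuotientGroup.mk_mul _ _ negOneS]
    have : (QuotientGroup.mk negOneS : ProjectiveSpecialLinearGroup (Fin 2) K) = 1 :=
      (QuotientGroup.eq_one_iff _).2 negOneS_mem_center
    rw [this, mul_one]
  have hRS := hCT R W S hR1 hW1 hS1 hRW hWS
  have hRS' : (QuotientGroup.mk (rotS a b hab * refS c d hcd) : ProjectiveSpecialLinearGroup (Fin 2) K)
      = QuotientGroup.mk (refS c d hcd * rotS a b hab) := by
    rw [QuotientGroup.mk_mul, QuotientGroup.mk_mul]; exact hRS.eq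
  rw [QuotientGroup.eq] at hRS'
  obtain ⟨h01, h10, h00, hsq⟩ := center_entries hRS'
  -- write the central element as `ε`
  set Cm := (rotS a b hab * refS c d hcd)⁻¹ * (refS c d hcd * rotS a b hab) with hCm
  have hprod : (rotS a b hab * refS c d hcd) * Cm = refS c d hcd * rotS a b hab := by
    rw [hCm]; group
  have hprod' := congrArg (fun A : SpecialLinearGroup (Fin 2) K => (A : Matrix (Fin 2) (Fin 2) K)) hprod
  simp only [Matrix.SpecialLinearGroup.coe_mul] at hprod'
  have e00 := congrFun (congrFun hprod' 0) 0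
  have e01 := congrFun (congrFun hprod' 0) 1
  simp only [rotS, refS, Matrix.mul_apply, Fin.sum_univ_two] at e00 e01
  simp only [Matrix.of_apply, Matrix.cons_val', Matrix.cons_val_zero, Matrix.cons_val_one,
    Matrix.empty_val', Matrix.cons_val_fin_one, Matrix.head_cons, Matrix.head_fin_const] at e00 e01
  rw [h10] at e00
  rw [h01, ← h00] at e01
  generalize (Cm : Matrix (Fin 2) (Fin 2) K) 0 0 = ε at e00 e01 hsq
  -- e00 : (a*c + b*d) * ε + _ * 0 = c*a + d*(-b);  e01 : _ * 0 + (a*d + b*(-c)) * ε = c*b + d*a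
  have hε2 : ε * ε = 1 := hsq
  have hε' : ε = 1 ∨ ε = -1 := by
    have : (ε - 1) * (ε + 1) = 0 := by linear_combination hε2
    rcases mul_eq_zero.1 this with h | h
    · left; linear_combination h
    · right; linear_combination h
  rcases hε' with h1 | h1
  · rw [h1] at e00 e01
    have hbd : b * d = 0 := by
      have : 2 * (b * d) = 0 := by linear_combination e00
      rcases mul_eq_zero.1 this with h | h
      · exact absurd h h2
      · exact h
    have hbc : b * c = 0 := by
      have : 2 * (b * c) = 0 := by linear_combination -e01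
      rcases mul_eq_zero.1 this with h | h
      · exact absurd h h2
      · exact h
    apply hcd0
    exact ⟨(mul_eq_zero.1 hbc).resolve_left hb, (mul_eq_zero.1 hbd).resolve_left hb⟩
  · rw [h1] at e00 e01
    have hac : a * c = 0 := by
      have : 2 * (a * c) = 0 := by linear_combination -e00
      rcases mul_eq_zero.1 this with h | h
      · exact absurd h h2
      · exact h
    have had : a * d = 0 := by
      have : 2 * (a * d) = 0 := by linear_combination -e01
      rcases mul_eq_zero.1 this with h | h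
      · exact absurd h h2
      · exact h
    apply hcd0
    exact ⟨(mul_eq_zero.1 hac).resolve_left ha, (mul_eq_zero.1 had).resolve_left ha⟩

end Odd

end Cfsg.Agent.Lib.Helper96.CA
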