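import Mathlib
import Cfsg.Agent.Lib.Helper96.CA9

set_option autoImplicit false

/-!
# `PSL₂(K)`, `K` finite of odd characteristic with at least 7 elements, is not a CT-group
-/

namespace Cfsg.Agent.Lib.Helper96.CA

open Matrix

section

variable {K : Type*} [Field K] [Fintype K]

/-- an element whose fourth power is not one -/
theorem exists_pow_four_ne_one (h7 : 7 ≤ Fintype.card K) : ∃ m : K, m ≠ 0 ∧ m ^ 4 ≠ 1 := by
  classical
  obtain ⟨g, hg⟩ := IsCyclic.exists_generator (α := Kˣ)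
  have hord : orderOf g = Fintype.card K - 1 := by
    rw [orderOf_eq_card_of_forall_mem_zpowers hg, Nat.card_eq_fintype_card, Fintype.card_units]
  refine ⟨(g : K), g.ne_zero, ?_⟩
  intro h4
  have h4' : g ^ 4 = 1 := by
    apply Units.ext
    rw [Units.val_pow_eq_pow_val, h4, Units.val_one]
  have hdvd := orderOf_dvd_of_pow_eq_one h4'
  rw [hord] at hdvd
  have := Nat.le_of_dvd (by norm_num) hdvd
  omega

theorem exists_params (h2 : (2 : K) ≠ 0) (h7 : 7 ≤ Fintype.card K) :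
    ∃ a b : K, a ^ 2 + b ^ 2 = 1 ∧ a ≠ 0 ∧ b ≠ 0 := by
  obtain ⟨m, hm0, hm4⟩ := exists_pow_four_ne_one h7
  have hm1 : m ^ 2 - 1 ≠ 0 := by
    intro h
    apply hm4
    have : m ^ 2 = 1 := by linear_combination h
    calc m ^ 4 = (m ^ 2) ^ 2 := by ring
      _ = 1 := by rw [this]; ring
  have hm2 : 1 + m ^ 2 ≠ 0 := by
    intro h
    apply hm4
    have : m ^ 2 = -1 := by linear_combination h
    calc m ^ 4 = (m ^ 2) ^ 2 := by ring
      _ = 1 := by rw [this]; ring
  refine ⟨(1 - m ^ 2) / (1 + m ^ 2), 2 * m / (1 + m ^ 2), ?_, ?_, ?_⟩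
  · field_simp
    ring
  · apply div_ne_zero _ hm2
    intro h
    apply hm1
    linear_combination -h
  · exact div_ne_zero (mul_ne_zero h2 hm0) hm2

theorem exists_sq_add_sq_neg_one : ∃ c d : K, c ^ 2 + d ^ 2 = -1 := by
  obtain ⟨p, hp⟩ := CharP.exists K
  haveI := hp
  haveI : NeZero p := ⟨(CharP.char_is_prime K p).ne_zero⟩
  obtain ⟨c, d, hcd⟩ := CharP.sq_add_sq K p (-1)
  refine ⟨c, d, ?_⟩
  rw [hcd]; simp

theorem not_CT_psl (h2 : ringChar K ≠ 2) (h7 : 7 ≤ Fintype.card K) :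
    ¬ CT (ProjectiveSpecialLinearGroup (Fin 2) K) := by
  have h2' : (2 : K) ≠ 0 := Ring.two_ne_zero h2
  obtain ⟨a, b, hab, ha, hb⟩ := exists_params h2' h7
  obtain ⟨c, d, hcd⟩ := exists_sq_add_sq_neg_one (K := K)
  exact not_CT_psl_aux h2' hab ha hb hcd

end

end Cfsg.Agent.Lib.Helper96.CA
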