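import Mathlib
import Cfsg.Agent.Lib.Helper96.CA1
import Cfsg.Agent.S1224
import Cfsg.Agent.S1225

set_option autoImplicit false

/-!
# Simple CT-groups of even order: the normalizer of an involution centralizer is strongly embedded
-/

namespace Cfsg.Agent.Lib.Helper96.CA

variable {G : Type*} [Group G]

/-- the normalizer of the centralizer of `t` -/
abbrev Nz (t : G) : Subgroup G := Subgroup.normalizer ((Cz t : Subgroup G) : Set G)

theorem Cz_le_Nz (t : G) : Cz t ≤ Nz t := Subgroup.le_normalizer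

theorem mem_map_conj_iff (H : Subgroup G) (u x : G) :
    x ∈ H.map (MulAut.conj u).toMonoidHom ↔ u⁻¹ * x * u ∈ H := by
  constructor
  · rintro ⟨n, hn, rfl⟩
    simp only [MulEquiv.coe_toMonoidHom, MulAut.conj_apply]
    have : u⁻¹ * (u * n * u⁻¹) * u = n := by group
    rw [this]; exact hn
  · intro hx
    refine ⟨u⁻¹ * x * u, hx, ?_⟩
    simp only [MulEquiv.coe_toMonoidHom, MulAut.conj_apply]
    group

theorem smul_coset_eq_iff (H : Subgroup G) (g x : G) :
    g • (x : G ⧸ H) = (x : G ⧸ H) ↔ x⁻¹ * g * x ∈ H := by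
  rw [MulAction.Quotient.smul_coe, QuotientGroup.eq, smul_eq_mul]
  have : (g * x)⁻¹ * x = (x⁻¹ * g * x)⁻¹ := by group
  rw [this, inv_mem_iff]

theorem smul_one_coset_eq_iff (H : Subgroup G) (g : G) :
    g • ((1 : G) : G ⧸ H) = ((1 : G) : G ⧸ H) ↔ g ∈ H := by
  rw [smul_coset_eq_iff]; simp

theorem ne_one_of_orderOf_two {t : G} (ht : orderOf t = 2) : t ≠ 1 := by
  rintro rfl
  simp at ht

theorem sq_of_orderOf_two {t : G} (ht : orderOf t = 2) : t * t = 1 := by
  have := pow_orderOf_eq_one t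
  rw [ht, pow_two] at this; exact this

theorem inv_of_orderOf_two {t : G} (ht : orderOf t = 2) : t⁻¹ = t :=
  inv_eq_of_mul_eq_one_left (sq_of_orderOf_two ht)

theorem orderOf_conj_two {t : G} (ht : orderOf t = 2) (g : G) : orderOf (g * t * g⁻¹) = 2 := by
  have := orderOf_injective (MulAut.conj g).toMonoidHom (MulAut.conj g).injective t
  simp only [MulEquiv.coe_toMonoidHom, MulAut.conj_apply] at this
  rw [this, ht]

section

variable (hCT : CT G) {t : G} (ht : orderOf t = 2)
include hCT ht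

/-- involutions of `N(A)` lie in `A` -/
theorem inv_mem_Cz_of_mem_Nz {v : G} (hv : orderOf v = 2) (hvN : v ∈ Nz t) : v ∈ Cz t := by
  have ht1 := ne_one_of_orderOf_two ht
  by_contra hvA
  set t' := v * t * v⁻¹ with ht'
  have ht'A : t' ∈ Cz t := (Subgroup.mem_normalizer_iff.1 hvN t).1 (self_mem_Cz t)
  have hcomm : t * t' = t' * t := comm_of_mem hCT ht1 (self_mem_Cz t) ht'A
  have hne : t' ≠ t := by
    intro h
    apply hvA
    rw [mem_Cz]
    have : v * t * v⁻¹ * v = t * v := by rw [← ht', h]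
    rw [← this]; group
  have hs1 : t * t' ≠ 1 := by
    intro h
    apply hne
    have h2 : t' = t⁻¹ := eq_inv_of_mul_eq_one_right h
    rw [h2, inv_of_orderOf_two ht]
  have hsA : t * t' ∈ Cz t := mul_mem (self_mem_Cz t) ht'A
  have hvv : v * v = 1 := sq_of_orderOf_two hv
  have hvinv : v⁻¹ = v := inv_of_orderOf_two hv
  have hfix : v * (t * t') = (t * t') * v := by
    have e1 : v * t' * v⁻¹ = t := by
      rw [ht', hvinv]
      have : v * (v * t * v) * v = (v * v) * t * (v * v) := by group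
      rw [this, hvv]; simp
    have e2 : v * (t * t') * v⁻¹ = t' * t := by
      have : v * (t * t') * v⁻¹ = (v * t * v⁻¹) * (v * t' * v⁻¹) := by group
      rw [this, e1]
    have : v * (t * t') = (t' * t) * v := by
      rw [← e2]; group
    rw [this, hcomm]
  exact hvA (mem_of_comm hCT ht1 hsA hs1 hfix)

end

section Simple

variable [Finite G] [IsSimpleGroup G]
variable (hCT : CT G) (hnc : ¬ ∀ a b : G, a * b = b * a) {t : G} (ht : orderOf t = 2)
include hCT hnc ht

theorem Cz_ne_top : Cz t ≠ ⊤ := by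
  intro h
  apply hnc
  intro a b
  exact comm_of_mem hCT (ne_one_of_orderOf_two ht) (h ▸ Subgroup.mem_top a) (h ▸ Subgroup.mem_top b)

theorem Nz_ne_top : Nz t ≠ ⊤ := by
  intro h
  have hn : (Cz t).Normal := Subgroup.normalizer_eq_top_iff.1 h
  rcases hn.eq_bot_or_eq_top with h1 | h1
  · have : t ∈ (⊥ : Subgroup G) := h1 ▸ self_mem_Cz t
    exact ne_one_of_orderOf_two ht (Subgroup.mem_bot.1 this)
  · exact Cz_ne_top hCT hnc ht h1

theorem stronglyEmbedded_Nz : Cfsg.IsStronglyEmbedded (Nz t) := by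
  refine ⟨Nz_ne_top hCT hnc ht, ?_, ?_⟩
  · have htN : t ∈ Nz t := Cz_le_Nz t (self_mem_Cz t)
    have h2 : orderOf (⟨t, htN⟩ : Nz t) = 2 := by rw [Subgroup.orderOf_mk]; exact ht
    have := orderOf_dvd_natCard (⟨t, htN⟩ : Nz t)
    rw [h2] at this
    exact even_iff_two_dvd.2 this
  · intro g hg
    by_contra hodd
    rw [Nat.not_odd_iff_even, even_iff_two_dvd] at hodd
    haveI : Fact (Nat.Prime 2) := ⟨Nat.prime_two⟩
    obtain ⟨v, hv⟩ := exists_prime_orderOf_dvd_card' 2 hodd
    have hv2 : orderOf (v : G) = 2 := by rw [Subgroup.orderOf_coe]; exact hv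
    have hvN : (v : G) ∈ Nz t := (Subgroup.mem_inf.1 v.2).1
    have hvN' : g⁻¹ * (v : G) * g ∈ Nz t := (mem_map_conj_iff _ _ _).1 (Subgroup.mem_inf.1 v.2).2
    have hvA := inv_mem_Cz_of_mem_Nz hCT ht hv2 hvN
    have hv2' : orderOf (g⁻¹ * (v : G) * g) = 2 := by
      have := orderOf_conj_two hv2 g⁻¹
      rwa [inv_inv] at this
    have hvA' := inv_mem_Cz_of_mem_Nz hCT ht hv2' hvN'
    have : g⁻¹ ∈ Nz t := by
      apply mem_normalizer_of_meet hCT (ne_one_of_orderOf_two ht) (ne_one_of_orderOf_two hv2) hvA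
      rwa [inv_inv]
    exact hg (inv_mem_iff.1 this)

theorem exists_inv_not_mem_Nz : ∃ u : G, orderOf u = 2 ∧ u ∉ Nz t := by
  by_contra hcon
  push Not at hcon
  have hle : Subgroup.normalClosure ({t} : Set G) ≤ Cz t := by
    rw [Subgroup.normalClosure]
    apply (Subgroup.closure_le _).2
    intro a ha
    rw [Group.mem_conjugatesOfSet_iff] at ha
    obtain ⟨b, hb, hba⟩ := ha
    rw [Set.mem_singleton_iff] at hb
    subst hb
    obtain ⟨c, hc⟩ := isConj_iff.1 hba
    have ha2 : orderOf a = 2 := by rw [← hc]; exact orderOf_conj_two ht c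
    exact inv_mem_Cz_of_mem_Nz hCT ht ha2 (hcon a ha2)
  have hn : (Subgroup.normalClosure ({t} : Set G)).Normal := Subgroup.normalClosure_normal
  rcases hn.eq_bot_or_eq_top with h1 | h1
  · have : t ∈ Subgroup.normalClosure ({t} : Set G) :=
      Subgroup.subset_normalClosure (Set.mem_singleton t)
    rw [h1, Subgroup.mem_bot] at this
    exact ne_one_of_orderOf_two ht this
  · apply Cz_ne_top hCT hnc ht
    rw [eq_top_iff, ← h1]; exact hle

end Simple

end Cfsg.Agent.Lib.Helper96.CA
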