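import Mathlib
import Cfsg.Agent.Lib.Helper96.CA2

set_option autoImplicit false

/-!
# Simple CT-groups of even order: the two-point stabilizer
-/

namespace Cfsg.Agent.Lib.Helper96.CA

variable {G : Type*} [Group G]

/-- the "two point stabilizer" -/
abbrev Dz (t u : G) : Subgroup G := Nz t ⊓ (Nz t).map (MulAut.conj u).toMonoidHom

theorem mem_Dz {t u x : G} : x ∈ Dz t u ↔ x ∈ Nz t ∧ u⁻¹ * x * u ∈ Nz t := by
  rw [Subgroup.mem_inf, mem_map_conj_iff]

/-- the number of involutions of `N` -/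
noncomputable abbrev invCount (t : G) : ℕ := Nat.card {s : G // orderOf s = 2 ∧ s ∈ Nz t}

section Simple

variable [Finite G] [IsSimpleGroup G]
variable (hCT : CT G) (hnc : ¬ ∀ a b : G, a * b = b * a) {t : G} (ht : orderOf t = 2)
variable {u : G} (hu : orderOf u = 2) (huN : u ∉ Nz t)
include hCT hnc ht hu huN

omit [Finite G] [IsSimpleGroup G] hnc in
theorem Dz_inf_Cz {x : G} (hxD : x ∈ Dz t u) (hxA : x ∈ Cz t) : x = 1 := by
  have ht1 := ne_one_of_orderOf_two ht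
  have huinv : u⁻¹ = u := inv_of_orderOf_two hu
  obtain ⟨hxN, hxN'⟩ := mem_Dz.1 hxD
  by_contra hx1
  set y := u * x * u⁻¹ with hy
  have hyN : y ∈ Nz t := by
    have : y = u⁻¹ * x * u := by rw [hy, huinv]
    rw [this]; exact hxN'
  have huyu : u⁻¹ * y * u = x := by rw [hy]; group
  set c := x * y * x⁻¹ * y⁻¹ with hc
  have hcA : c ∈ Cz t := by
    have h1 : y * x⁻¹ * y⁻¹ ∈ Cz t :=
      (Subgroup.mem_normalizer_iff.1 hyN x⁻¹).1 (inv_mem hxA)
    have : c = x * (y * x⁻¹ * y⁻¹) := by rw [hc]; group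
    rw [this]; exact mul_mem hxA h1
  have hcA' : u⁻¹ * c * u ∈ Cz t := by
    set x' := u⁻¹ * x * u with hx'
    have h1 : x' * x * x'⁻¹ ∈ Cz t := (Subgroup.mem_normalizer_iff.1 hxN' x).1 hxA
    have : u⁻¹ * c * u = (x' * x * x'⁻¹) * x⁻¹ := by
      rw [hc, hx', hy]; group
    rw [this]; exact mul_mem h1 (inv_mem hxA)
  have hc1 : c = 1 := by
    by_contra hc1
    have : u⁻¹ ∈ Nz t := by
      apply mem_normalizer_of_meet hCT ht1 hc1 hcA
      rwa [inv_inv]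
    exact huN (inv_mem_iff.1 this)
  have hcomm : y * x = x * y := by
    have : x * y * x⁻¹ * y⁻¹ = 1 := by rw [← hc]; exact hc1
    have h2 : x * y = y * x := by
      have := mul_eq_one_iff_eq_inv.1 this
      rw [inv_inv] at this
      have h3 : x * y * x⁻¹ * x = y * x := by rw [this]
      rw [← h3]; group
    exact h2.symm
  have hyA : y ∈ Cz t := mem_of_comm hCT ht1 hxA hx1 hcomm
  have hy1 : y ≠ 1 := by
    intro h
    apply hx1
    rw [← huyu, h]; group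
  have : u⁻¹ ∈ Nz t := by
    apply mem_normalizer_of_meet hCT ht1 hy1 hyA
    rw [inv_inv, huyu]; exact hxA
  exact huN (inv_mem_iff.1 this)

/-- transitivity of `D` on the involutions of `N` (from S1225) -/
theorem exists_Dz_conj {s s' : G} (hs : orderOf s = 2) (hsN : s ∈ Nz t) (hs' : orderOf s' = 2)
    (hs'N : s' ∈ Nz t) : ∃ d ∈ Dz t u, d * s * d⁻¹ = s' :=
  (Cfsg.Agent.S1225.result (Nz t) (stronglyEmbedded_Nz hCT hnc ht) u hu huN s s' hs hsN hs' hs'N).1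

theorem card_Dz : Nat.card (Dz t u) = invCount t := by
  have ht1 := ne_one_of_orderOf_two ht
  have htN : t ∈ Nz t := Cz_le_Nz t (self_mem_Cz t)
  let f : Dz t u → {s : G // orderOf s = 2 ∧ s ∈ Nz t} := fun d =>
    ⟨(d : G) * t * (d : G)⁻¹, orderOf_conj_two ht _,
      mul_mem (mul_mem (mem_Dz.1 d.2).1 htN) (inv_mem (mem_Dz.1 d.2).1)⟩
  apply Nat.card_eq_of_bijective f
  constructor
  · intro d d' hdd
    have h1 : (d : G) * t * (d : G)⁻¹ = (d' : G) * t * (d' : G)⁻¹ := congrArg Subtype.val hdd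
    have h2 : ((d' : G)⁻¹ * (d : G)) * t = t * ((d' : G)⁻¹ * (d : G)) := by
      have : (d' : G)⁻¹ * ((d : G) * t * (d : G)⁻¹) * (d : G) = (d' : G)⁻¹ * ((d' : G) * t * (d' : G)⁻¹) * (d : G) := by
        rw [h1]
      have e1 : (d' : G)⁻¹ * ((d : G) * t * (d : G)⁻¹) * (d : G) = ((d' : G)⁻¹ * (d : G)) * t := by group
      have e2 : (d' : G)⁻¹ * ((d' : G) * t * (d' : G)⁻¹) * (d : G) = t * ((d' : G)⁻¹ * (d : G)) := by group
      rw [← e1, ← e2]; exact this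
    have h3 : (d' : G)⁻¹ * (d : G) ∈ Cz t := mem_Cz.2 h2
    have h4 : (d' : G)⁻¹ * (d : G) ∈ Dz t u := mul_mem (inv_mem d'.2) d.2
    have h5 := Dz_inf_Cz hCT ht hu huN h4 h3
    apply Subtype.ext
    have : (d : G) = (d' : G) * ((d' : G)⁻¹ * (d : G)) := by group
    rw [this, h5, mul_one]
  · rintro ⟨s, hs, hsN⟩
    obtain ⟨d, hd, hds⟩ := exists_Dz_conj hCT hnc ht hu huN ht htN hs hsN
    exact ⟨⟨d, hd⟩, Subtype.ext hds⟩

omit [IsSimpleGroup G] hCT hnc hu huN in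
theorem invCount_pos : 0 < invCount t := by
  have htN : t ∈ Nz t := Cz_le_Nz t (self_mem_Cz t)
  have : Nonempty {s : G // orderOf s = 2 ∧ s ∈ Nz t} := ⟨⟨t, ht, htN⟩⟩
  exact Nat.card_pos

theorem u_inverts {d : G} (hd : d ∈ Dz t u) : u * d * u⁻¹ = d⁻¹ := by
  have huinv : u⁻¹ = u := inv_of_orderOf_two hu
  have huu : u * u = 1 := sq_of_orderOf_two hu
  have hSE := stronglyEmbedded_Nz hCT hnc ht
  have hxy : ((1 : G) : G ⧸ Nz t) ≠ ((u : G) : G ⧸ Nz t) := by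
    intro h
    rw [QuotientGroup.eq] at h
    simp at h
    exact huN h
  have hcard := Cfsg.Agent.S1224.result (Nz t) hSE _ _ hxy
  have hmem : ∀ v : {i : G // orderOf i = 2 ∧ i • ((1 : G) : G ⧸ Nz t) = ((u : G) : G ⧸ Nz t)},
      u⁻¹ * (v : G) ∈ Dz t u := by
    rintro ⟨v, hv2, hv⟩
    rw [MulAction.Quotient.smul_coe, smul_eq_mul, mul_one, QuotientGroup.eq] at hv
    have h1 : u⁻¹ * v ∈ Nz t := by
      have : u⁻¹ * v = (v⁻¹ * u)⁻¹ := by group
      rw [this]; exact inv_mem hv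
    refine mem_Dz.2 ⟨h1, ?_⟩
    have hvinv : v⁻¹ = v := inv_of_orderOf_two hv2
    have : u⁻¹ * (u⁻¹ * v) * u = v⁻¹ * u := by
      rw [huinv, hvinv]
      have : u * (u * v) * u = (u * u) * v * u := by group
      rw [this, huu, one_mul]
    show u⁻¹ * (u⁻¹ * v) * u ∈ Nz t
    rw [this]; exact hv
  let g : {i : G // orderOf i = 2 ∧ i • ((1 : G) : G ⧸ Nz t) = ((u : G) : G ⧸ Nz t)} → Dz t u :=
    fun v => ⟨u⁻¹ * (v : G), hmem v⟩
  have hginj : Function.Injective g := by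
    intro v v' hvv
    have : u⁻¹ * (v : G) = u⁻¹ * (v' : G) := congrArg Subtype.val hvv
    exact Subtype.ext (mul_left_cancel this)
  have hgbij : Function.Bijective g := by
    apply hginj.bijective_of_nat_card_le
    rw [hcard, card_Dz hCT hnc ht hu huN]
  obtain ⟨⟨v, hv2, hv⟩, hvd⟩ := hgbij.2 ⟨d, hd⟩
  have hvd' : u⁻¹ * v = d := congrArg Subtype.val hvd
  have hv' : v = u * d := by rw [← hvd']; group
  have hvv : v * v = 1 := sq_of_orderOf_two hv2
  rw [hv'] at hvv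
  -- u d u d = 1
  have : u * d * u⁻¹ * d = 1 := by
    rw [huinv]
    have : u * d * u * d = u * d * (u * d) := by group
    rw [this]; exact hvv
  exact eq_inv_of_mul_eq_one_left this

theorem Dz_comm {d d' : G} (hd : d ∈ Dz t u) (hd' : d' ∈ Dz t u) : d * d' = d' * d := by
  have h1 := u_inverts hCT hnc ht hu huN hd
  have h2 := u_inverts hCT hnc ht hu huN hd'
  have h3 := u_inverts hCT hnc ht hu huN (mul_mem hd hd')
  have h4 : u * (d * d') * u⁻¹ = (u * d * u⁻¹) * (u * d' * u⁻¹) := by group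
  rw [h4, h1, h2] at h3
  -- d⁻¹ d'⁻¹ = (d d')⁻¹ = d'⁻¹ d⁻¹
  have h5 : d⁻¹ * d'⁻¹ = d'⁻¹ * d⁻¹ := by rw [h3]; group
  have h6 : (d' * d)⁻¹ = (d * d')⁻¹ := by
    rw [mul_inv_rev, mul_inv_rev]; exact h5
  exact (inv_injective h6).symm

omit hu in
theorem Dz_sq {d : G} (hd : d ∈ Dz t u) (hdd : d * d = 1) : d = 1 := by
  have hodd : Odd (Nat.card (Dz t u)) := (stronglyEmbedded_Nz hCT hnc ht).2.2 u huN
  have h1 : orderOf (⟨d, hd⟩ : Dz t u) ∣ Nat.card (Dz t u) := orderOf_dvd_natCard _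
  rw [Subgroup.orderOf_mk] at h1
  have h2 : orderOf d ∣ 2 := by
    apply orderOf_dvd_of_pow_eq_one
    rw [pow_two]; exact hdd
  have h3 : orderOf d = 1 := by
    rcases (Nat.dvd_prime Nat.prime_two).1 h2 with h | h
    · exact h
    · exfalso
      rw [h] at h1
      exact (Nat.not_even_iff_odd.2 hodd) (even_iff_two_dvd.2 h1)
  exact orderOf_eq_one_iff.1 h3

theorem Nz_decomp {n : G} (hn : n ∈ Nz t) : ∃ d ∈ Dz t u, ∃ b ∈ Cz t, n = d * b := by
  have htN : t ∈ Nz t := Cz_le_Nz t (self_mem_Cz t)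
  have h2 : orderOf (n * t * n⁻¹) = 2 := orderOf_conj_two ht n
  have h2N : n * t * n⁻¹ ∈ Nz t := mul_mem (mul_mem hn htN) (inv_mem hn)
  obtain ⟨d, hd, hdt⟩ := exists_Dz_conj hCT hnc ht hu huN ht htN h2 h2N
  refine ⟨d, hd, d⁻¹ * n, ?_, by group⟩
  rw [mem_Cz]
  have : d⁻¹ * (d * t * d⁻¹) * n = d⁻¹ * (n * t * n⁻¹) * n := by rw [hdt]
  have e1 : d⁻¹ * (d * t * d⁻¹) * n = t * (d⁻¹ * n) := by group
  have e2 : d⁻¹ * (n * t * n⁻¹) * n = d⁻¹ * n * t := by group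
  rw [e1, e2] at this
  exact this.symm

end Simple

end Cfsg.Agent.Lib.Helper96.CA
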