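import Mathlib
import Cfsg.Agent.Lib.Helper96.CA3

set_option autoImplicit false

/-!
# Simple CT-groups of even order: the action on the cosets of `N` is a Zassenhaus action
-/

namespace Cfsg.Agent.Lib.Helper96.CA

variable {G : Type*} [Group G]

section Simple

variable [Finite G] [IsSimpleGroup G]
variable (hCT : CT G) (hnc : ¬ ∀ a b : G, a * b = b * a) {t : G} (ht : orderOf t = 2)

include hCT hnc ht in
/-- any coset other than `N` is the image of `N` under an involution outside `N` -/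
theorem exists_inv_smul {c : G ⧸ Nz t} (hc : c ≠ ((1 : G) : G ⧸ Nz t)) :
    ∃ v : G, orderOf v = 2 ∧ v • ((1 : G) : G ⧸ Nz t) = c ∧ v ∉ Nz t := by
  have hSE := stronglyEmbedded_Nz hCT hnc ht
  have hcard := Cfsg.Agent.S1224.result (Nz t) hSE _ _ hc.symm
  have hpos : 0 < Nat.card {i : G // orderOf i = 2 ∧ i • ((1 : G) : G ⧸ Nz t) = c} := by
    rw [hcard]; exact invCount_pos ht
  obtain ⟨⟨v, hv2, hv⟩⟩ := (Nat.card_pos_iff.1 hpos).1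
  refine ⟨v, hv2, hv, ?_⟩
  intro hvN
  apply hc
  rw [← hv]
  exact (smul_one_coset_eq_iff _ _).2 hvN

variable {u : G} (hu : orderOf u = 2) (huN : u ∉ Nz t)
variable {d : G} (hd : d ∈ Dz t u) (hd1 : d ≠ 1)
include hCT hnc ht hu huN hd hd1

omit [Finite G] [IsSimpleGroup G] hnc in
theorem Cz_d_inf_Cz {y : G} (hy : y ∈ Cz d) (hyA : y ∈ Cz t) : y = 1 := by
  by_contra hy1
  have h1 : Cz y = Cz t := Cz_eq hCT (ne_one_of_orderOf_two ht) hy1 hyA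
  have h2 : Cz y = Cz d := Cz_eq hCT hd1 hy1 hy
  have : d ∈ Cz t := by rw [← h1, h2]; exact self_mem_Cz d
  exact hd1 (Dz_inf_Cz hCT ht hu huN hd this)

theorem Dz_le_Cz_d {d' : G} (hd' : d' ∈ Dz t u) : d' ∈ Cz d :=
  mem_Cz.2 (Dz_comm hCT hnc ht hu huN hd' hd)

theorem Cz_d_inf_Nz {y : G} (hy : y ∈ Cz d) (hyN : y ∈ Nz t) : y ∈ Dz t u := by
  obtain ⟨d', hd', b, hb, hyb⟩ := Nz_decomp hCT hnc ht hu huN hyN
  have hd'C : d' ∈ Cz d := Dz_le_Cz_d hCT hnc ht hu huN hd hd1 hd'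
  have hbC : b ∈ Cz d := by
    have : b = d'⁻¹ * y := by rw [hyb]; group
    rw [this]; exact mul_mem (inv_mem hd'C) hy
  have hb1 := Cz_d_inf_Cz hCT ht hu huN hd hd1 hbC hb
  rw [hyb, hb1, mul_one]; exact hd'

theorem no_invert {n : G} (hn : n ∈ Nz t) (hnd : n * d * n⁻¹ = d⁻¹) : False := by
  obtain ⟨d', hd', b, hb, hnb⟩ := Nz_decomp hCT hnc ht hu huN hn
  have hdN : d ∈ Nz t := (mem_Dz.1 hd).1
  have hcomm : d' * d = d * d' := Dz_comm hCT hnc ht hu huN hd' hd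
  have h1 : b * d * b⁻¹ = d⁻¹ := by
    have e : n * d * n⁻¹ = d' * (b * d * b⁻¹) * d'⁻¹ := by rw [hnb]; group
    rw [e] at hnd
    have h2 : b * d * b⁻¹ = d'⁻¹ * d⁻¹ * d' := by rw [← hnd]; group
    rw [h2]
    have h3 : d'⁻¹ * d⁻¹ = d⁻¹ * d'⁻¹ := by
      have : (d * d')⁻¹ = (d' * d)⁻¹ := by rw [hcomm]
      rw [mul_inv_rev, mul_inv_rev] at this; exact this
    rw [h3]; group
  have hcD : d⁻¹ * d⁻¹ ∈ Dz t u := mul_mem (inv_mem hd) (inv_mem hd)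
  have hcA : d⁻¹ * d⁻¹ ∈ Cz t := by
    have h2 : d * b⁻¹ * d⁻¹ ∈ Cz t := (Subgroup.mem_normalizer_iff.1 hdN b⁻¹).1 (inv_mem hb)
    have : d⁻¹ * d⁻¹ = b * (d * b⁻¹ * d⁻¹) := by
      have : b * (d * b⁻¹ * d⁻¹) = (b * d * b⁻¹) * d⁻¹ := by group
      rw [this, h1]
    rw [this]; exact mul_mem hb h2
  have h4 := Dz_inf_Cz hCT ht hu huN hcD hcA
  have h5 : d * d = 1 := by
    have : (d * d)⁻¹ = 1 := by rw [mul_inv_rev]; exact h4
    exact inv_eq_one.1 this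
  exact hd1 (Dz_sq hCT hnc ht huN hd h5)

/-- key step: for an involution `v` moving `N` to a coset fixed by `d`, `u⁻¹ v` centralizes `d` -/
theorem inv_mul_mem_Cz_d {v : G} (hv : orderOf v = 2) (hvN : v ∉ Nz t)
    (hfix : d • (v • ((1 : G) : G ⧸ Nz t)) = v • ((1 : G) : G ⧸ Nz t)) : u⁻¹ * v ∈ Cz d := by
  have hdN : d ∈ Nz t := (mem_Dz.1 hd).1
  have hdv : d ∈ Dz t v := by
    refine mem_Dz.2 ⟨hdN, ?_⟩
    have h1 : v • ((1 : G) : G ⧸ Nz t) = ((v : G) : G ⧸ Nz t) := by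
      rw [MulAction.Quotient.smul_coe, smul_eq_mul, mul_one]
    rw [h1] at hfix
    exact (smul_coset_eq_iff _ _ _).1 hfix
  have h1 := u_inverts hCT hnc ht hv hvN hdv
  have h2 := u_inverts hCT hnc ht hu huN hd
  rw [mem_Cz]
  -- (u⁻¹ v) d = d (u⁻¹ v)
  have h3 : v * d = d⁻¹ * v := by
    have : v * d * v⁻¹ * v = d⁻¹ * v := by rw [h1]
    rw [← this]; group
  have h4 : u⁻¹ * d⁻¹ = d * u⁻¹ := by
    have : u⁻¹ * (u * d * u⁻¹) = u⁻¹ * d⁻¹ := by rw [h2]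
    rw [← this]; group
  calc u⁻¹ * v * d = u⁻¹ * (v * d) := by group
    _ = u⁻¹ * (d⁻¹ * v) := by rw [h3]
    _ = (u⁻¹ * d⁻¹) * v := by group
    _ = d * u⁻¹ * v := by rw [h4]
    _ = d * (u⁻¹ * v) := by group

theorem Cz_d_le_Nz {y : G} (hy : y ∈ Cz d) : y ∈ Nz t := by
  by_contra hyN
  have hdN : d ∈ Nz t := (mem_Dz.1 hd).1
  have hc : (y • ((1 : G) : G ⧸ Nz t)) ≠ ((1 : G) : G ⧸ Nz t) := by
    intro h; exact hyN ((smul_one_coset_eq_iff _ _).1 h)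
  obtain ⟨v, hv2, hv, hvN⟩ := exists_inv_smul hCT hnc ht hc
  have hfix : d • (v • ((1 : G) : G ⧸ Nz t)) = v • ((1 : G) : G ⧸ Nz t) := by
    rw [hv, ← mul_smul, ← mem_Cz.1 hy, mul_smul, (smul_one_coset_eq_iff _ _).2 hdN]
  have hy' := inv_mul_mem_Cz_d hCT hnc ht hu huN hd hd1 hv2 hvN hfix
  -- n := y⁻¹ u (u⁻¹ v) = y⁻¹ v ∈ N
  have hn : y⁻¹ * v ∈ Nz t := by
    have : (y⁻¹ * v) • ((1 : G) : G ⧸ Nz t) = ((1 : G) : G ⧸ Nz t) := by
      rw [mul_smul, hv, ← mul_smul, inv_mul_cancel, one_smul]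
    exact (smul_one_coset_eq_iff _ _).1 this
  apply no_invert hCT hnc ht hu huN hd hd1 hn
  -- y⁻¹ v d v⁻¹ y = y⁻¹ d⁻¹ y = d⁻¹
  have hdv : d ∈ Dz t v := by
    refine mem_Dz.2 ⟨hdN, ?_⟩
    have h1 : v • ((1 : G) : G ⧸ Nz t) = ((v : G) : G ⧸ Nz t) := by
      rw [MulAction.Quotient.smul_coe, smul_eq_mul, mul_one]
    rw [h1] at hfix
    exact (smul_coset_eq_iff _ _ _).1 hfix
  have h1 := u_inverts hCT hnc ht hv2 hvN hdv
  have h2 : y * d⁻¹ = d⁻¹ * y := by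
    have := mem_Cz.1 hy
    have h3 : d⁻¹ * (y * d) * d⁻¹ = d⁻¹ * (d * y) * d⁻¹ := by rw [this]
    have e1 : d⁻¹ * (y * d) * d⁻¹ = d⁻¹ * y := by group
    have e2 : d⁻¹ * (d * y) * d⁻¹ = y * d⁻¹ := by group
    rw [e1, e2] at h3; exact h3.symm
  calc y⁻¹ * v * d * (y⁻¹ * v)⁻¹ = y⁻¹ * (v * d * v⁻¹) * y := by group
    _ = y⁻¹ * d⁻¹ * y := by rw [h1]
    _ = y⁻¹ * (d⁻¹ * y) := by group
    _ = y⁻¹ * (y * d⁻¹) := by rw [h2]
    _ = d⁻¹ := by group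

/-- the fixed cosets of `d` are `N` and `uN` -/
theorem fix_eq {c : G ⧸ Nz t} (hfix : d • c = c) (hc : c ≠ ((1 : G) : G ⧸ Nz t)) :
    c = u • ((1 : G) : G ⧸ Nz t) := by
  obtain ⟨v, hv2, hv, hvN⟩ := exists_inv_smul hCT hnc ht hc
  have hfix' : d • (v • ((1 : G) : G ⧸ Nz t)) = v • ((1 : G) : G ⧸ Nz t) := by rw [hv]; exact hfix
  have hy' := inv_mul_mem_Cz_d hCT hnc ht hu huN hd hd1 hv2 hvN hfix'
  have hyN := Cz_d_le_Nz hCT hnc ht hu huN hd hd1 hy'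
  rw [← hv]
  have : v = u * (u⁻¹ * v) := by group
  rw [this, mul_smul, (smul_one_coset_eq_iff _ _).2 hyN]

end Simple

end Cfsg.Agent.Lib.Helper96.CA
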