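import Mathlib
import Cfsg.Agent.Lib.Helper96.CA4

set_option autoImplicit false

/-!
# Simple CT-groups of even order: the action on the cosets of `N` is a Zassenhaus action (II)
-/

namespace Cfsg.Agent.Lib.Helper96.CA

variable {G : Type*} [Group G]

section Simple

variable [Finite G] [IsSimpleGroup G]
variable (hCT : CT G) (hnc : ¬ ∀ a b : G, a * b = b * a) {t : G} (ht : orderOf t = 2)
variable {u : G} (hu : orderOf u = 2) (huN : u ∉ Nz t)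
include hCT hnc ht hu huN

/-- every element of `N` outside `A` is conjugate under `A` to a nonidentity element of `D` -/
theorem conj_into_Dz {x : G} (hxN : x ∈ Nz t) (hxA : x ∉ Cz t) :
    ∃ b ∈ Cz t, ∃ d ∈ Dz t u, d ≠ 1 ∧ x = b * d * b⁻¹ := by
  obtain ⟨d, hd, b₀, hb₀, hx⟩ := Nz_decomp hCT hnc ht hu huN hxN
  have hd1 : d ≠ 1 := by
    rintro rfl
    apply hxA
    rw [hx, one_mul]; exact hb₀
  have hdN : d ∈ Nz t := (mem_Dz.1 hd).1
  let ψ : Cz t → Cz t := fun b =>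
    ⟨d⁻¹ * (b : G) * d * (b : G)⁻¹,
      mul_mem ((Subgroup.mem_normalizer_iff''.1 hdN (b : G)).1 b.2) (inv_mem b.2)⟩
  have hinj : Function.Injective ψ := by
    intro b b' hbb
    have h1 : d⁻¹ * (b : G) * d * (b : G)⁻¹ = d⁻¹ * (b' : G) * d * (b' : G)⁻¹ :=
      congrArg Subtype.val hbb
    have h2 : ((b' : G)⁻¹ * (b : G)) * d = d * ((b' : G)⁻¹ * (b : G)) := by
      have e : (b' : G)⁻¹ * (d * (d⁻¹ * (b : G) * d * (b : G)⁻¹)) * (b : G) =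
          (b' : G)⁻¹ * (d * (d⁻¹ * (b' : G) * d * (b' : G)⁻¹)) * (b : G) := by rw [h1]
      have e1 : (b' : G)⁻¹ * (d * (d⁻¹ * (b : G) * d * (b : G)⁻¹)) * (b : G) =
          ((b' : G)⁻¹ * (b : G)) * d := by group
      have e2 : (b' : G)⁻¹ * (d * (d⁻¹ * (b' : G) * d * (b' : G)⁻¹)) * (b : G) =
          d * ((b' : G)⁻¹ * (b : G)) := by group
      rw [e1, e2] at e; exact e
    have h3 : (b' : G)⁻¹ * (b : G) ∈ Cz d := mem_Cz.2 h2
    have h4 : (b' : G)⁻¹ * (b : G) ∈ Cz t := mul_mem (inv_mem b'.2) b.2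
    have h5 := Cz_d_inf_Cz hCT ht hu huN hd hd1 h3 h4
    apply Subtype.ext
    have : (b : G) = (b' : G) * ((b' : G)⁻¹ * (b : G)) := by group
    rw [this, h5, mul_one]
  have hsurj : Function.Surjective ψ := Finite.injective_iff_surjective.1 hinj
  obtain ⟨b, hb⟩ := hsurj ⟨b₀, hb₀⟩
  have hb' : d⁻¹ * (b : G) * d * (b : G)⁻¹ = b₀ := congrArg Subtype.val hb
  refine ⟨b, b.2, d, hd, hd1, ?_⟩
  rw [hx, ← hb']; group

/-- `A` acts freely off the coset `N` -/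
theorem Cz_free {b : G} (hb : b ∈ Cz t) {c : G ⧸ Nz t} (hc : c ≠ ((1 : G) : G ⧸ Nz t))
    (hfix : b • c = c) : b = 1 := by
  obtain ⟨v, hv2, hv, hvN⟩ := exists_inv_smul hCT hnc ht hc
  have h1 : v • ((1 : G) : G ⧸ Nz t) = ((v : G) : G ⧸ Nz t) := by
    rw [MulAction.Quotient.smul_coe, smul_eq_mul, mul_one]
  rw [← hv, h1] at hfix
  have hbD : b ∈ Dz t v := mem_Dz.2 ⟨Cz_le_Nz t hb, (smul_coset_eq_iff _ _ _).1 hfix⟩
  exact Dz_inf_Cz hCT ht hv2 hvN hbD hb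

variable (h2 : 2 ≤ invCount t)
include h2

omit hu huN in
theorem exists_ne_one_Dz {v : G} (hv : orderOf v = 2) (hvN : v ∉ Nz t) :
    ∃ x ∈ Dz t v, x ≠ 1 := by
  have hcard : 1 < Nat.card (Dz t v) := by rw [card_Dz hCT hnc ht hv hvN]; exact h2
  rw [Finite.one_lt_card_iff_nontrivial] at hcard
  obtain ⟨x, hx⟩ := exists_ne (1 : Dz t v)
  exact ⟨x, x.2, fun h => hx (Subtype.ext h)⟩

/-- `A` acts transitively off the coset `N` -/
theorem Cz_trans {c : G ⧸ Nz t} (hc : c ≠ ((1 : G) : G ⧸ Nz t)) :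
    ∃ b ∈ Cz t, b • (u • ((1 : G) : G ⧸ Nz t)) = c := by
  obtain ⟨v, hv2, hv, hvN⟩ := exists_inv_smul hCT hnc ht hc
  obtain ⟨x, hxD, hx1⟩ := exists_ne_one_Dz hCT hnc ht h2 hv2 hvN
  have hxA : x ∉ Cz t := fun h => hx1 (Dz_inf_Cz hCT ht hv2 hvN hxD h)
  have hxN : x ∈ Nz t := (mem_Dz.1 hxD).1
  obtain ⟨b, hb, d, hd, hd1, hxb⟩ := conj_into_Dz hCT hnc ht hu huN hxN hxA
  have h1 : v • ((1 : G) : G ⧸ Nz t) = ((v : G) : G ⧸ Nz t) := by
    rw [MulAction.Quotient.smul_coe, smul_eq_mul, mul_one]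
  have hxc : x • c = c := by
    rw [← hv, h1]
    exact (smul_coset_eq_iff _ _ _).2 (mem_Dz.1 hxD).2
  have hdc : d • (b⁻¹ • c) = b⁻¹ • c := by
    have : d = b⁻¹ * x * b := by rw [hxb]; group
    rw [this, mul_smul, mul_smul, smul_inv_smul, hxc]
  have hne : b⁻¹ • c ≠ ((1 : G) : G ⧸ Nz t) := by
    intro h
    apply hc
    have : c = b • ((1 : G) : G ⧸ Nz t) := by rw [← h, smul_inv_smul]
    rw [this]
    exact (smul_one_coset_eq_iff _ _).2 (Cz_le_Nz t hb)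
  have := fix_eq hCT hnc ht hu huN hd hd1 hdc hne
  exact ⟨b, hb, by rw [← this, smul_inv_smul]⟩

theorem one_ne_u_coset : ((1 : G) : G ⧸ Nz t) ≠ u • ((1 : G) : G ⧸ Nz t) := by
  intro h
  exact huN ((smul_one_coset_eq_iff _ _).1 h.symm)

/-- regularity of `A` off the coset `N` -/
theorem Cz_regular {y z : G ⧸ Nz t} (hy : y ≠ ((1 : G) : G ⧸ Nz t))
    (hz : z ≠ ((1 : G) : G ⧸ Nz t)) : ∃! k : Cz t, (k : G) • y = z := by
  obtain ⟨b₁, hb₁, hy'⟩ := Cz_trans hCT hnc ht hu huN h2 hy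
  obtain ⟨b₂, hb₂, hz'⟩ := Cz_trans hCT hnc ht hu huN h2 hz
  refine ⟨⟨b₂ * b₁⁻¹, mul_mem hb₂ (inv_mem hb₁)⟩, ?_, ?_⟩
  · show (b₂ * b₁⁻¹) • y = z
    rw [← hy', mul_smul, inv_smul_smul, hz']
  · intro k hk
    have hk' : ((b₂ * b₁⁻¹)⁻¹ * (k : G)) • y = y := by
      rw [mul_smul, hk, ← hy', ← hz', mul_inv_rev, inv_inv, mul_smul, inv_smul_smul]
    have := Cz_free hCT hnc ht hu huN (mul_mem (inv_mem (mul_mem hb₂ (inv_mem hb₁))) k.2) hy hk'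
    apply Subtype.ext
    show (k : G) = b₂ * b₁⁻¹
    have e : (k : G) = (b₂ * b₁⁻¹) * ((b₂ * b₁⁻¹)⁻¹ * (k : G)) := by group
    rw [e, this, mul_one]

end Simple

end Cfsg.Agent.Lib.Helper96.CA
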