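import Mathlib
import Cfsg.Agent.Lib.Helper96.CA5
import Cfsg.Agent.S0731

set_option autoImplicit false

/-!
# Simple CT-groups of even order: Zassenhaus action and the use of S0731
-/

namespace Cfsg.Agent.Lib.Helper96.CA

variable {G : Type*} [Group G]

section Simple

variable [Finite G] [IsSimpleGroup G]
variable (hCT : CT G) (hnc : ¬ ∀ a b : G, a * b = b * a) {t : G} (ht : orderOf t = 2)
variable {u : G} (hu : orderOf u = 2) (huN : u ∉ Nz t) (h2 : 2 ≤ invCount t)
include hCT hnc ht hu huN h2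

theorem zassenhaus : Cfsg.IsZassenhausGroup G (G ⧸ Nz t) := by
  have hα : ∀ {n : G}, n ∈ Nz t → n • ((1 : G) : G ⧸ Nz t) = ((1 : G) : G ⧸ Nz t) :=
    fun hn => (smul_one_coset_eq_iff _ _).2 hn
  refine ⟨⟨fun {g g'} h => ?_⟩, ?_, ?_, ?_, ?_⟩
  · -- faithful
    have hk : g'⁻¹ * g ∈ (Nz t).normalCore := by
      intro b
      have h1 : (g'⁻¹ * g) • ((b⁻¹ : G) : G ⧸ Nz t) = ((b⁻¹ : G) : G ⧸ Nz t) := by
        rw [mul_smul, h, inv_smul_smul]
      have := (smul_coset_eq_iff _ _ _).1 h1
      rwa [inv_inv] at this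
    have hbot : (Nz t).normalCore = ⊥ := by
      rcases ((Nz t).normalCore_normal).eq_bot_or_eq_top with h1 | h1
      · exact h1
      · exfalso
        apply Nz_ne_top hCT hnc ht
        rw [eq_top_iff, ← h1]; exact (Nz t).normalCore_le
    rw [hbot, Subgroup.mem_bot] at hk
    have : g = g' * (g'⁻¹ * g) := by group
    rw [this, hk, mul_one]
  · -- 2-transitive
    rw [MulAction.is_two_pretransitive_iff]
    intro a b c d hab hcd
    obtain ⟨g₁, hg₁⟩ := MulAction.exists_smul_eq G a ((1 : G) : G ⧸ Nz t)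
    obtain ⟨g₂, hg₂⟩ := MulAction.exists_smul_eq G c ((1 : G) : G ⧸ Nz t)
    have hb₁ : g₁ • b ≠ ((1 : G) : G ⧸ Nz t) := by
      intro h
      apply hab
      have : g₁ • a = g₁ • b := by rw [hg₁, h]
      exact (MulAction.injective g₁) this
    have hd₁ : g₂ • d ≠ ((1 : G) : G ⧸ Nz t) := by
      intro h
      apply hcd
      have : g₂ • c = g₂ • d := by rw [hg₂, h]
      exact (MulAction.injective g₂) this
    obtain ⟨k, hk, -⟩ := Cz_regular hCT hnc ht hu huN h2 hb₁ hd₁
    refine ⟨g₂⁻¹ * (k : G) * g₁, ?_, ?_⟩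
    · rw [mul_smul, mul_smul, hg₁, hα (Cz_le_Nz t k.2), ← hg₂, inv_smul_smul]
    · rw [mul_smul, mul_smul, hk, inv_smul_smul]
  · -- no three fixed points
    intro g a b c hab hbc hac hga hgb hgc
    obtain ⟨h, hh⟩ := MulAction.exists_smul_eq G a ((1 : G) : G ⧸ Nz t)
    set g' := h * g * h⁻¹ with hg'
    have hfix : ∀ x : G ⧸ Nz t, g • x = x → g' • (h • x) = h • x := by
      intro x hx
      rw [hg', mul_smul, mul_smul, inv_smul_smul, hx]
    have hg'N : g' ∈ Nz t := by
      have := hfix a hga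
      rw [hh] at this
      exact (smul_one_coset_eq_iff _ _).1 this
    have hb' : h • b ≠ ((1 : G) : G ⧸ Nz t) := by
      intro hx
      apply hab
      have : h • a = h • b := by rw [hh, hx]
      exact (MulAction.injective h) this
    have hc' : h • c ≠ ((1 : G) : G ⧸ Nz t) := by
      intro hx
      apply hac
      have : h • a = h • c := by rw [hh, hx]
      exact (MulAction.injective h) this
    have hg'1 : g' = 1 := by
      by_cases hA : g' ∈ Cz t
      · exact Cz_free hCT hnc ht hu huN hA hb' (hfix b hgb)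
      · exfalso
        obtain ⟨k, hk, d, hd, hd1, hgk⟩ := conj_into_Dz hCT hnc ht hu huN hg'N hA
        have hdk : d = k⁻¹ * g' * k := by rw [hgk]; group
        have key : ∀ x : G ⧸ Nz t, x ≠ ((1 : G) : G ⧸ Nz t) → g' • x = x →
            k⁻¹ • x = u • ((1 : G) : G ⧸ Nz t) := by
          intro x hx hgx
          apply fix_eq hCT hnc ht hu huN hd hd1
          · rw [hdk, mul_smul, mul_smul, smul_inv_smul, hgx]
          · intro hx'
            apply hx
            have : x = k • ((1 : G) : G ⧸ Nz t) := by rw [← hx', smul_inv_smul]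
            rw [this]; exact hα (Cz_le_Nz t hk)
        have e1 := key _ hb' (hfix b hgb)
        have e2 := key _ hc' (hfix c hgc)
        have : h • b = h • c := (MulAction.injective k⁻¹) (e1.trans e2.symm)
        exact hbc ((MulAction.injective h) this)
    have : g = h⁻¹ * g' * h := by rw [hg']; group
    rw [this, hg'1]; group
  · -- an element fixing two points
    obtain ⟨d, hdD, hd1⟩ := exists_ne_one_Dz hCT hnc ht h2 hu huN
    refine ⟨d, hd1, ((1 : G) : G ⧸ Nz t), u • ((1 : G) : G ⧸ Nz t),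
      one_ne_u_coset hCT hnc ht hu huN h2, hα (mem_Dz.1 hdD).1, ?_⟩
    have h1 : u • ((1 : G) : G ⧸ Nz t) = ((u : G) : G ⧸ Nz t) := by
      rw [MulAction.Quotient.smul_coe, smul_eq_mul, mul_one]
    rw [h1]
    exact (smul_coset_eq_iff _ _ _).2 (mem_Dz.1 hdD).2
  · -- no regular normal subgroup
    intro N' hN' htr
    rcases hN'.eq_bot_or_eq_top with h1 | h1
    · exfalso
      subst h1
      obtain ⟨n, hn⟩ := htr.exists_smul_eq ((1 : G) : G ⧸ Nz t) (u • ((1 : G) : G ⧸ Nz t))
      have hn1 : (n : G) = 1 := Subgroup.mem_bot.1 n.2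
      have hn' : (n : G) • ((1 : G) : G ⧸ Nz t) = u • ((1 : G) : G ⧸ Nz t) := hn
      rw [hn1, one_smul] at hn'
      exact one_ne_u_coset hCT hnc ht hu huN h2 hn'
    · subst h1
      refine ⟨((1 : G) : G ⧸ Nz t), ?_⟩
      intro hbot
      have hmem : (⟨t, Subgroup.mem_top t⟩ : (⊤ : Subgroup G)) ∈
          MulAction.stabilizer (⊤ : Subgroup G) ((1 : G) : G ⧸ Nz t) := by
        apply MulAction.mem_stabilizer_iff.2
        show t • ((1 : G) : G ⧸ Nz t) = _
        exact hα (Cz_le_Nz t (self_mem_Cz t))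
      have h3 := hbot.le hmem
      rw [Subgroup.mem_bot] at h3
      have : t = 1 := congrArg Subtype.val h3
      exact ne_one_of_orderOf_two ht this

/-- the dichotomy obtained from the theorem on Zassenhaus groups with abelian kernel -/
theorem dichotomy :
    (MulAction.IsMultiplyPretransitive G (G ⧸ Nz t) 3) ∨
    ∃ (K : Type) (_ : Field K) (_ : Fintype K), ringChar K ≠ 2 ∧
      Nonempty (G ≃* Matrix.ProjectiveSpecialLinearGroup (Fin 2) K) := by
  have hZ := zassenhaus hCT hnc ht hu huN h2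
  have hstab : MulAction.stabilizer G ((1 : G) : G ⧸ Nz t) = Nz t := MulAction.stabilizer_quotient _
  have hFle : Cz t ≤ MulAction.stabilizer G ((1 : G) : G ⧸ Nz t) := by
    rw [hstab]; exact Cz_le_Nz t
  have hFn : ((Cz t).subgroupOf (MulAction.stabilizer G ((1 : G) : G ⧸ Nz t))).Normal := by
    rw [hstab]; exact Subgroup.normal_in_normalizer
  have hFab : IsMulCommutative (Cz t) :=
    ⟨⟨fun a b => Subtype.ext (comm_of_mem hCT (ne_one_of_orderOf_two ht) a.2 b.2)⟩⟩
  have hreg : ∀ y z : G ⧸ Nz t, y ≠ ((1 : G) : G ⧸ Nz t) → z ≠ ((1 : G) : G ⧸ Nz t) →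
      ∃! k : Cz t, (k : G) • y = z := fun y z hy hz => Cz_regular hCT hnc ht hu huN h2 hy hz
  rcases Cfsg.Agent.S0731.result hZ ((1 : G) : G ⧸ Nz t) (Cz t) hFle hFn hFab hreg with h | h
  · exact Or.inl h.1
  · exact Or.inr h

end Simple

end Cfsg.Agent.Lib.Helper96.CA
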