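import Mathlib
import Cfsg.Agent.Lib.Helper96.CA6
import Cfsg.Agent.S0215
import Cfsg.Agent.S1230

set_option autoImplicit false

/-!
# Simple CT-groups of even order: end of the proof
-/

namespace Cfsg.Agent.Lib.Helper96.CA

variable {G : Type*} [Group G]

theorem exists_of_three_pretransitive {Ω : Type*} [MulAction G Ω]
    (h : MulAction.IsMultiplyPretransitive G Ω 3) {a b c a' b' c' : Ω}
    (hab : a ≠ b) (hac : a ≠ c) (hbc : b ≠ c) (hab' : a' ≠ b') (hac' : a' ≠ c') (hbc' : b' ≠ c') :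
    ∃ g : G, g • a = a' ∧ g • b = b' ∧ g • c = c' := by
  have inj : ∀ {x y z : Ω}, x ≠ y → x ≠ z → y ≠ z → Function.Injective ![x, y, z] := by
    intro x y z hxy hxz hyz i j hij
    fin_cases i <;> fin_cases j <;> simp_all
  let x : Fin 3 ↪ Ω := ⟨![a, b, c], inj hab hac hbc⟩
  let y : Fin 3 ↪ Ω := ⟨![a', b', c'], inj hab' hac' hbc'⟩
  obtain ⟨g, hg⟩ := h.exists_smul_eq x y
  refine ⟨g, ?_, ?_, ?_⟩
  · have := congrArg (fun f : Fin 3 ↪ Ω => f 0) hg
    simpa [x, y, Function.Embedding.smul_apply] using this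
  · have := congrArg (fun f : Fin 3 ↪ Ω => f 1) hg
    simpa [x, y, Function.Embedding.smul_apply] using this
  · have := congrArg (fun f : Fin 3 ↪ Ω => f 2) hg
    simpa [x, y, Function.Embedding.smul_apply] using this

section Simple

variable [Finite G] [IsSimpleGroup G]
variable (hCT : CT G) (hnc : ¬ ∀ a b : G, a * b = b * a) {t : G} (ht : orderOf t = 2)
include hCT hnc ht

omit [IsSimpleGroup G] hnc in
theorem sylow_le_Cz (P : Sylow 2 G) (htP : t ∈ P) : (P : Subgroup G) ≤ Cz t := by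
  have ht1 := ne_one_of_orderOf_two ht
  haveI : Nontrivial (P : Subgroup G) :=
    ⟨⟨⟨t, htP⟩, 1, fun h => ht1 (congrArg Subtype.val h)⟩⟩
  haveI : Fact (Nat.Prime 2) := ⟨Nat.prime_two⟩
  have hnt : Nontrivial (Subgroup.center (P : Subgroup G)) := P.isPGroup'.center_nontrivial
  obtain ⟨z, hz⟩ := exists_ne (1 : Subgroup.center (P : Subgroup G))
  have hzc : ∀ p : (P : Subgroup G), p * (z : (P : Subgroup G)) = (z : (P : Subgroup G)) * p :=
    fun p => (Subgroup.mem_center_iff.1 z.2 p)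
  set z' : G := ((z : (P : Subgroup G)) : G) with hz'
  have hz1 : z' ≠ 1 := by
    intro h
    apply hz
    apply Subtype.ext; apply Subtype.ext
    exact h
  have hzt : z' ∈ Cz t := by
    rw [mem_Cz]
    have := congrArg Subtype.val (hzc ⟨t, htP⟩)
    exact this.symm
  intro p hp
  have hpz : p ∈ Cz z' := by
    rw [mem_Cz]
    exact congrArg Subtype.val (hzc ⟨p, hp⟩)
  rwa [Cz_eq hCT ht1 hz1 hzt] at hpz

/-- there are at least two involutions in `N` (Glauberman's `Z*`-theorem) -/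
theorem two_le_invCount : 2 ≤ invCount t := by
  by_contra hlt
  have hle : invCount t ≤ 1 := by omega
  have hsub : Subsingleton {s : G // orderOf s = 2 ∧ s ∈ Nz t} :=
    (Finite.card_le_one_iff_subsingleton).1 hle
  have ht1 := ne_one_of_orderOf_two ht
  haveI : Fact (Nat.Prime 2) := ⟨Nat.prime_two⟩
  have hpg : IsPGroup 2 (Subgroup.zpowers t) := by
    apply IsPGroup.of_card (n := 1)
    rw [Nat.card_zpowers, ht, pow_one]
  obtain ⟨P, hP⟩ := hpg.exists_le_sylow
  have htP : t ∈ P := hP (Subgroup.mem_zpowers t)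
  have hPA := sylow_le_Cz hCT ht P htP
  have hiso : ∀ g : G, g * t * g⁻¹ ∈ P → g * t * g⁻¹ = t := by
    intro g hg
    have h1 : g * t * g⁻¹ ∈ Nz t := Cz_le_Nz t (hPA hg)
    have := hsub.elim ⟨g * t * g⁻¹, orderOf_conj_two ht g, h1⟩
      ⟨t, ht, Cz_le_Nz t (self_mem_Cz t)⟩
    exact congrArg Subtype.val this
  obtain ⟨N', hN', hodd, hcomm⟩ := Cfsg.Agent.S0215.result P t ht htP hiso
  rcases hN'.eq_bot_or_eq_top with h1 | h1
  · apply Cz_ne_top hCT hnc ht
    rw [eq_top_iff]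
    intro g _
    rw [mem_Cz]
    have := hcomm g
    rw [h1, Subgroup.mem_bot] at this
    have h3 : t * g * t⁻¹ * g⁻¹ * g * t = g * t := by rw [this, one_mul]
    rw [← h3]; group
  · rw [h1, Subgroup.card_top] at hodd
    have : 2 ∣ Nat.card G := by
      have := orderOf_dvd_natCard t
      rwa [ht] at this
    exact (Nat.not_even_iff_odd.2 hodd) (even_iff_two_dvd.2 this)

variable {u : G} (hu : orderOf u = 2) (huN : u ∉ Nz t)
include hu huN

/-- in the triply transitive case all nonidentity elements of `A` are involutions -/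
theorem sq_eq_one_of_three (h3 : MulAction.IsMultiplyPretransitive G (G ⧸ Nz t) 3)
    {b : G} (hb : b ∈ Cz t) : b * b = 1 := by
  have h2 := two_le_invCount hCT hnc ht
  by_cases hb1 : b = 1
  · rw [hb1, mul_one]
  have ht1 := ne_one_of_orderOf_two ht
  set α : G ⧸ Nz t := ((1 : G) : G ⧸ Nz t) with hα
  set β : G ⧸ Nz t := u • α with hβ
  have hαβ : α ≠ β := one_ne_u_coset hCT hnc ht hu huN h2
  have hfixα : ∀ {n : G}, n ∈ Nz t → n • α = α := fun hn => (smul_one_coset_eq_iff _ _).2 hn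
  have hne : ∀ {k : G}, k ∈ Cz t → k ≠ 1 → α ≠ k • β ∧ β ≠ k • β := by
    intro k hk hk1
    constructor
    · intro h
      apply hαβ
      have : k⁻¹ • α = β := by rw [h, inv_smul_smul]
      rw [← this]
      exact (hfixα (inv_mem (Cz_le_Nz t hk))).symm
    · intro h
      exact hk1 (Cz_free hCT hnc ht hu huN hk hαβ.symm h.symm)
  obtain ⟨g, hgα, hgβ, hgt⟩ := exists_of_three_pretransitive h3 hαβ (hne (self_mem_Cz t) ht1).1
    (hne (self_mem_Cz t) ht1).2 hαβ (hne hb hb1).1 (hne hb hb1).2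
  have hgN : g ∈ Nz t := (smul_one_coset_eq_iff _ _).1 hgα
  have hgtA : g * t * g⁻¹ ∈ Cz t := (Subgroup.mem_normalizer_iff.1 hgN t).1 (self_mem_Cz t)
  have hginvβ : g⁻¹ • β = β := by
    have : g⁻¹ • (g • β) = g⁻¹ • β := by rw [hgβ]
    rw [inv_smul_smul] at this; exact this.symm
  have h5 : (b⁻¹ * (g * t * g⁻¹)) • β = β := by
    rw [mul_smul, mul_smul, mul_smul, hginvβ, hgt, inv_smul_smul]
  have h6 := Cz_free hCT hnc ht hu huN (mul_mem (inv_mem hb) hgtA) hαβ.symm h5
  have h7 : b = g * t * g⁻¹ := inv_mul_eq_one.1 h6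
  rw [h7]
  exact sq_of_orderOf_two (orderOf_conj_two ht g)

omit hu huN in
/-- if `A` has exponent two, then `G` is `PSL₂` over a field of characteristic two -/
theorem final_of_elementary (hel : ∀ b ∈ Cz t, b * b = 1) :
    ∃ (F : Type) (_ : Field F) (_ : Fintype F) (f : ℕ), 2 ≤ f ∧ Fintype.card F = 2 ^ f ∧
      Nonempty (G ≃* Matrix.ProjectiveSpecialLinearGroup (Fin 2) F) := by
  have h2 := two_le_invCount hCT hnc ht
  have ht1 := ne_one_of_orderOf_two ht
  haveI : Fact (Nat.Prime 2) := ⟨Nat.prime_two⟩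
  have hpg : IsPGroup 2 (Cz t) := by
    intro b
    refine ⟨1, ?_⟩
    apply Subtype.ext
    rw [pow_one, pow_two]
    exact hel b b.2
  obtain ⟨P, hP⟩ := hpg.exists_le_sylow
  have hPA : (P : Subgroup G) = Cz t :=
    le_antisymm (sylow_le_Cz hCT ht P (hP (self_mem_Cz t))) hP
  -- a second involution
  have hnt : Nontrivial {s : G // orderOf s = 2 ∧ s ∈ Nz t} :=
    (Finite.one_lt_card_iff_nontrivial).1 h2
  obtain ⟨⟨t', ht'2, ht'N⟩, ht'⟩ := exists_ne (⟨t, ht, Cz_le_Nz t (self_mem_Cz t)⟩ :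
    {s : G // orderOf s = 2 ∧ s ∈ Nz t})
  have ht'ne : t' ≠ t := fun h => ht' (Subtype.ext h)
  have ht'A : t' ∈ Cz t := inv_mem_Cz_of_mem_Nz hCT ht ht'2 ht'N
  have hncyc : ¬ IsCyclic (P : Subgroup G) := by
    intro hcyc
    classical
    haveI : Fintype (P : Subgroup G) := Fintype.ofFinite _
    have htP : t ∈ (P : Subgroup G) := hPA ▸ self_mem_Cz t
    have ht'P : t' ∈ (P : Subgroup G) := hPA ▸ ht'A
    have hdvd : 2 ∣ Fintype.card (P : Subgroup G) := by
      have := orderOf_dvd_card (x := (⟨t, htP⟩ : (P : Subgroup G)))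
      rwa [Subgroup.orderOf_mk, ht] at this
    have hc := IsCyclic.card_orderOf_eq_totient (α := (P : Subgroup G)) hdvd
    rw [Nat.totient_two, Finset.card_eq_one] at hc
    obtain ⟨a, ha⟩ := hc
    have h1 : (⟨t, htP⟩ : (P : Subgroup G)) ∈ ({a} : Finset (P : Subgroup G)) := by
      rw [← ha, Finset.mem_filter]
      exact ⟨Finset.mem_univ _, by rw [Subgroup.orderOf_mk]; exact ht⟩
    have h1' : (⟨t', ht'P⟩ : (P : Subgroup G)) ∈ ({a} : Finset (P : Subgroup G)) := by
      rw [← ha, Finset.mem_filter]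
      exact ⟨Finset.mem_univ _, by rw [Subgroup.orderOf_mk]; exact ht'2⟩
    rw [Finset.mem_singleton] at h1 h1'
    exact ht'ne (congrArg Subtype.val (h1'.trans h1.symm))
  have hnn : ¬ (P : Subgroup G).Normal := by
    intro hn
    rcases hn.eq_bot_or_eq_top with h1 | h1
    · have : t ∈ (P : Subgroup G) := hPA ▸ self_mem_Cz t
      rw [h1, Subgroup.mem_bot] at this
      exact ht1 this
    · exact Cz_ne_top hCT hnc ht (hPA ▸ h1)
  obtain ⟨u, hu, huN⟩ := exists_inv_not_mem_Nz hCT hnc ht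
  have hconj := (Cfsg.Agent.S1225.result (Nz t) (stronglyEmbedded_Nz hCT hnc ht) u hu huN t t ht
    (Cz_le_Nz t (self_mem_Cz t)) ht (Cz_le_Nz t (self_mem_Cz t))).2
  have hC : ∀ s : G, orderOf s = 2 → IsMulCommutative (Subgroup.centralizer ({s} : Set G)) ∧
      ∀ c ∈ Subgroup.centralizer ({s} : Set G), c ^ 2 = 1 := by
    intro s hs
    refine ⟨⟨⟨fun a b => Subtype.ext (comm_of_mem hCT (ne_one_of_orderOf_two hs) a.2 b.2)⟩⟩, ?_⟩
    intro c hc
    obtain ⟨g, hg⟩ := isConj_iff.1 (hconj t s ht hs)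
    -- s = g t g⁻¹
    have h1 : g⁻¹ * c * g ∈ Cz t := by
      have : c ∈ Cz (g * t * g⁻¹) := by rw [hg]; exact hc
      have e : c = g * (g⁻¹ * c * g) * g⁻¹ := by group
      rw [e, conj_mem_Cz] at this
      exact this
    have h3 := hel _ h1
    rw [pow_two]
    have e : c * c = g * ((g⁻¹ * c * g) * (g⁻¹ * c * g)) * g⁻¹ := by group
    rw [e, h3]; group
  obtain ⟨F, hF1, hF2, hcard, hiso⟩ := Cfsg.Agent.S1230.result P hncyc hnn hC
  obtain ⟨f, hf⟩ := (P.isPGroup').exists_card_eq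
  refine ⟨F, hF1, hF2, f, ?_, by rw [hcard]; exact hf, hiso⟩
  -- card P ≥ 3
  by_contra hf2
  have hf1 : f ≤ 1 := by omega
  have hle : Nat.card (P : Subgroup G) ≤ 2 := by
    rw [hf]
    calc 2 ^ f ≤ 2 ^ 1 := Nat.pow_le_pow_right (by norm_num) hf1
      _ = 2 := by norm_num
  have htP : t ∈ (P : Subgroup G) := hPA ▸ self_mem_Cz t
  have ht'P : t' ∈ (P : Subgroup G) := hPA ▸ ht'A
  let e : Fin 3 → (P : Subgroup G) := ![1, ⟨t, htP⟩, ⟨t', ht'P⟩]
  have he : Function.Injective e := by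
    intro i j hij
    have ht'1 : t' ≠ 1 := ne_one_of_orderOf_two ht'2
    fin_cases i <;> fin_cases j <;> simp [e, Subtype.ext_iff] at hij ⊢
    · exact absurd hij.symm ht1
    · exact absurd hij.symm ht'1
    · exact absurd hij ht1
    · exact absurd hij.symm ht'ne
    · exact absurd hij ht'1
    · exact absurd hij ht'ne
  have := Nat.card_le_card_of_injective e he
  rw [Nat.card_eq_fintype_card, Fintype.card_fin] at this
  omega

end Simple

end Cfsg.Agent.Lib.Helper96.CA
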