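import Mathlib
import Cfsg.Agent.Lib.Helper96.CA7

set_option autoImplicit false

/-!
# Simple CT-groups of even order: orders
-/

namespace Cfsg.Agent.Lib.Helper96.CA

variable {G : Type*} [Group G]

section Simple

variable [Finite G] [IsSimpleGroup G]
variable (hCT : CT G) (hnc : ¬ ∀ a b : G, a * b = b * a) {t : G} (ht : orderOf t = 2)
variable {u : G} (hu : orderOf u = 2) (huN : u ∉ Nz t)
include hCT hnc ht hu huN

theorem card_quot : Nat.card (G ⧸ Nz t) = Nat.card (Cz t) + 1 := by
  have h2 := two_le_invCount hCT hnc ht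
  set α : G ⧸ Nz t := ((1 : G) : G ⧸ Nz t) with hα
  set β : G ⧸ Nz t := u • α with hβ
  have hαβ : α ≠ β := one_ne_u_coset hCT hnc ht hu huN h2
  have hkβ : ∀ k : Cz t, (k : G) • β ≠ α := by
    intro k h
    apply hαβ
    have : (k : G)⁻¹ • α = β := by rw [← h, inv_smul_smul]
    rw [← this]
    exact ((smul_one_coset_eq_iff _ _).2 (inv_mem (Cz_le_Nz t k.2))).symm
  let f : Option (Cz t) → G ⧸ Nz t := fun o => match o with
    | none => α
    | some k => (k : G) • β
  have hf : Function.Bijective f := by
    constructor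
    · intro o o' h
      cases o with
      | none =>
        cases o' with
        | none => rfl
        | some k' => exact absurd h.symm (hkβ k')
      | some k =>
        cases o' with
        | none => exact absurd h (hkβ k)
        | some k' =>
          obtain ⟨k₀, -, huniq⟩ := Cz_regular hCT hnc ht hu huN h2 hαβ.symm (hkβ k')
          have e1 := huniq k h
          have e2 := huniq k' rfl
          rw [e1, e2]
    · intro c
      by_cases hc : c = α
      · exact ⟨none, hc.symm⟩
      · obtain ⟨b, hb, hbc⟩ := Cz_trans hCT hnc ht hu huN h2 hc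
        exact ⟨some ⟨b, hb⟩, hbc⟩
  rw [← Nat.card_eq_of_bijective f hf, Finite.card_option]

theorem card_Nz : Nat.card (Nz t) = invCount t * Nat.card (Cz t) := by
  let f : Dz t u × Cz t → Nz t := fun p =>
    ⟨(p.1 : G) * (p.2 : G), mul_mem (mem_Dz.1 p.1.2).1 (Cz_le_Nz t p.2.2)⟩
  have hf : Function.Bijective f := by
    constructor
    · rintro ⟨d, b⟩ ⟨d', b'⟩ h
      have h1 : (d : G) * (b : G) = (d' : G) * (b' : G) := congrArg Subtype.val h
      have h2 : (d' : G)⁻¹ * (d : G) = (b' : G) * (b : G)⁻¹ := by
        have : (d' : G)⁻¹ * ((d : G) * (b : G)) * (b : G)⁻¹ = (d' : G)⁻¹ * ((d' : G) * (b' : G)) * (b : G)⁻¹ := by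
          rw [h1]
        have e1 : (d' : G)⁻¹ * ((d : G) * (b : G)) * (b : G)⁻¹ = (d' : G)⁻¹ * (d : G) := by group
        have e2 : (d' : G)⁻¹ * ((d' : G) * (b' : G)) * (b : G)⁻¹ = (b' : G) * (b : G)⁻¹ := by group
        rw [e1, e2] at this; exact this
      have h3 : (d' : G)⁻¹ * (d : G) ∈ Dz t u := mul_mem (inv_mem d'.2) d.2
      have h4 : (d' : G)⁻¹ * (d : G) ∈ Cz t := by rw [h2]; exact mul_mem b'.2 (inv_mem b.2)
      have h5 := Dz_inf_Cz hCT ht hu huN h3 h4
      have hd : d = d' := by
        apply Subtype.ext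
        have : (d : G) = (d' : G) * ((d' : G)⁻¹ * (d : G)) := by group
        rw [this, h5, mul_one]
      have hb : b = b' := by
        apply Subtype.ext
        rw [h5] at h2
        have : (b' : G) = (b' : G) * (b : G)⁻¹ * (b : G) := by group
        rw [this, ← h2, one_mul]
      rw [hd, hb]
    · rintro ⟨n, hn⟩
      obtain ⟨d, hd, b, hb, hndb⟩ := Nz_decomp hCT hnc ht hu huN hn
      exact ⟨(⟨d, hd⟩, ⟨b, hb⟩), Subtype.ext hndb.symm⟩
  rw [← Nat.card_eq_of_bijective f hf, Nat.card_prod, card_Dz hCT hnc ht hu huN]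

theorem card_G : Nat.card G = (Nat.card (Cz t) + 1) * (invCount t * Nat.card (Cz t)) := by
  rw [Subgroup.card_eq_card_quotient_mul_card_subgroup (Nz t), card_quot hCT hnc ht hu huN,
    card_Nz hCT hnc ht hu huN]

theorem odd_invCount : Odd (invCount t) := by
  rw [← card_Dz hCT hnc ht hu huN]
  exact (stronglyEmbedded_Nz hCT hnc ht).2.2 u huN

omit [Finite G] [IsSimpleGroup G] hnc hu huN in
/-- the injection of the involutions of `N` (and the identity) into `A` -/
theorem optInv_injective :
    Function.Injective (fun o : Option {s : G // orderOf s = 2 ∧ s ∈ Nz t} =>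
      (match o with
        | none => (1 : Cz t)
        | some s => ⟨(s : G), inv_mem_Cz_of_mem_Nz hCT ht s.2.1 s.2.2⟩ : Cz t)) := by
  intro o o' h
  cases o with
  | none =>
    cases o' with
    | none => rfl
    | some s' =>
      exfalso
      have : (1 : G) = (s' : G) := congrArg Subtype.val h
      exact ne_one_of_orderOf_two s'.2.1 this.symm
  | some s =>
    cases o' with
    | none =>
      exfalso
      have : (s : G) = 1 := congrArg Subtype.val h
      exact ne_one_of_orderOf_two s.2.1 this
    | some s' =>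
      have h' := congrArg Subtype.val h
      have : (s : G) = (s' : G) := h'
      rw [Subtype.ext this]

omit [IsSimpleGroup G] hnc hu huN in
theorem invCount_succ_le : invCount t + 1 ≤ Nat.card (Cz t) := by
  have := Nat.card_le_card_of_injective _ (optInv_injective hCT ht)
  rwa [Finite.card_option] at this

/-- if the order is at most `60`, all nonidentity elements of `A` are involutions -/
theorem sq_eq_one_of_card_le (h60 : Nat.card G ≤ 60) {b : G} (hb : b ∈ Cz t) : b * b = 1 := by
  have h2 := two_le_invCount hCT hnc ht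
  have hodd := odd_invCount hCT hnc ht hu huN
  have hle := invCount_succ_le hCT ht
  have hG := card_G hCT hnc ht hu huN
  set a := Nat.card (Cz t) with ha
  set i := invCount t with hi
  have hi3 : 3 ≤ i := by
    rcases hodd with ⟨k, hk⟩
    omega
  have ha4 : 4 ≤ a := by omega
  have ha5 : a < 5 := by
    by_contra hcon
    have h5 : 5 ≤ a := by omega
    have : 90 ≤ (a + 1) * (i * a) := by
      calc 90 = (5 + 1) * (3 * 5) := by norm_num
        _ ≤ (a + 1) * (i * a) := by gcongr
    omega
  have ha' : a = 4 := by omega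
  have hi' : i = 3 := by
    rw [ha'] at hG
    have : (4 + 1) * (i * 4) ≤ 60 := by rw [← hG]; exact h60
    omega
  have hbij : Function.Bijective (fun o : Option {s : G // orderOf s = 2 ∧ s ∈ Nz t} =>
      (match o with
        | none => (1 : Cz t)
        | some s => ⟨(s : G), inv_mem_Cz_of_mem_Nz hCT ht s.2.1 s.2.2⟩ : Cz t)) := by
    apply (optInv_injective hCT ht).bijective_of_nat_card_le
    rw [Finite.card_option]
    show a ≤ i + 1
    omega
  obtain ⟨o, ho⟩ := hbij.2 ⟨b, hb⟩
  cases o with
  | none =>
    have : (1 : G) = b := congrArg Subtype.val ho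
    rw [← this, mul_one]
  | some s =>
    have : (s : G) = b := congrArg Subtype.val ho
    rw [← this]
    exact sq_of_orderOf_two s.2.1

end Simple

end Cfsg.Agent.Lib.Helper96.CA
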