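import Mathlib
import Cfsg.Agent.Lib.Helper96.CA10
import Cfsg.Agent.Lib.Helper96.CA8
import Cfsg.Agent.Lib.Helper19.MinSimple
import Cfsg.Agent.Lib.Helper19.DicksonUse

set_option autoImplicit false

/-!
# `PSL₂(2^f)` is a CT-group; assembly of the main theorem for even order
-/

namespace Cfsg.Agent.Lib.Helper96.CA

set_option linter.unusedSimpArgs false
set_option linter.unreachableTactic false
set_option linter.unusedTactic false

theorem c2_exists_lin {F : Type*} [Field F] (x y : Matrix (Fin 2) (Fin 2) F)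
    (hx : ¬ (x 0 1 = 0 ∧ x 1 0 = 0 ∧ x 0 0 = x 1 1)) (hy : x * y = y * x) :
    ∃ l m : F, y = l • x + m • (1 : Matrix (Fin 2) (Fin 2) F) := by
  have h11 := congrFun (congrFun hy 0) 0
  have h12 := congrFun (congrFun hy 0) 1
  have h21 := congrFun (congrFun hy 1) 0
  have h22 := congrFun (congrFun hy 1) 1
  simp only [Matrix.mul_apply, Fin.sum_univ_two] at h11 h12 h21 h22
  by_cases hb : x 0 1 = 0
  · by_cases hc : x 1 0 = 0
    · have had : x 0 0 - x 1 1 ≠ 0 := fun h => hx ⟨hb, hc, sub_eq_zero.mp h⟩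
      refine ⟨(y 0 0 - y 1 1) / (x 0 0 - x 1 1), y 0 0 - (y 0 0 - y 1 1) / (x 0 0 - x 1 1) * x 0 0, ?_⟩
      ext i j
      fin_cases i <;> fin_cases j <;> simp [Matrix.one_apply] <;> field_simp <;>
        first | linear_combination h12 | linear_combination -h12 | linear_combination h21 | linear_combination -h21 | ring
    · refine ⟨y 1 0 / x 1 0, y 0 0 - y 1 0 / x 1 0 * x 0 0, ?_⟩
      ext i j
      fin_cases i <;> fin_cases j <;> simp [Matrix.one_apply] <;> field_simp <;>
        first | linear_combination h11 | linear_combination -h11 | linear_combination h21 | linear_combination -h21 | ring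
  · refine ⟨y 0 1 / x 0 1, y 0 0 - y 0 1 / x 0 1 * x 0 0, ?_⟩
    ext i j
    fin_cases i <;> fin_cases j <;> simp [Matrix.one_apply] <;> field_simp <;>
      first | linear_combination h11 | linear_combination -h11 | linear_combination h12 | linear_combination -h12 | ring

theorem c2_comm_of_comm_nonscalar {F : Type*} [Field F] (x y z : Matrix (Fin 2) (Fin 2) F)
    (hx : ¬ (x 0 1 = 0 ∧ x 1 0 = 0 ∧ x 0 0 = x 1 1)) (hy : x * y = y * x) (hz : x * z = z * x) :
    y * z = z * y := by
  obtain ⟨l, m, rfl⟩ := c2_exists_lin x y hx hy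
  obtain ⟨l', m', rfl⟩ := c2_exists_lin x z hx hz
  have h : Commute (l • x + m • (1 : Matrix (Fin 2) (Fin 2) F)) (l' • x + m' • (1 : Matrix (Fin 2) (Fin 2) F)) := by
    apply Commute.add_left
    · apply Commute.smul_left
      apply Commute.add_right
      · exact (Commute.refl x).smul_right l'
      · exact (Commute.one_right x).smul_right m'
    · apply Commute.smul_left
      exact Commute.one_left _
  exact h.eq

section

variable {F : Type*} [Field F] [CharP F 2]

open Matrix

/-- in characteristic 2 the center of `SL₂` is trivial -/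
theorem c2_center_eq_bot : Subgroup.center (SpecialLinearGroup (Fin 2) F) = ⊥ := by
  rw [eq_bot_iff]
  intro A hA
  rw [Matrix.SpecialLinearGroup.mem_center_iff] at hA
  obtain ⟨r, hr, hrA⟩ := hA
  rw [Fintype.card_fin] at hr
  have h1 : (r - 1) ^ 2 = 0 := by
    have h2 : (2 : F) = 0 := by
      have := CharP.cast_eq_zero F 2
      simpa using this
    linear_combination hr + (1 - r) * h2
  have h3 : r = 1 := by
    have := pow_eq_zero_iff (two_ne_zero) |>.mp h1
    exact sub_eq_zero.mp this
  rw [Subgroup.mem_bot]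
  apply Subtype.ext
  rw [← hrA, h3]
  simp

theorem c2_mk_injective :
    Function.Injective (QuotientGroup.mk' (Subgroup.center (SpecialLinearGroup (Fin 2) F))) := by
  intro a b hab
  have := (QuotientGroup.eq).mp hab
  rw [c2_center_eq_bot, Subgroup.mem_bot] at this
  exact (inv_mul_eq_one.mp this)

/-- nonscalar matrices from non-identity elements of `SL₂` -/
theorem c2_nonscalar_of_ne_one (A : SpecialLinearGroup (Fin 2) F) (hA : A ≠ 1) :
    ¬ ((A : Matrix (Fin 2) (Fin 2) F) 0 1 = 0 ∧ (A : Matrix (Fin 2) (Fin 2) F) 1 0 = 0 ∧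
      (A : Matrix (Fin 2) (Fin 2) F) 0 0 = (A : Matrix (Fin 2) (Fin 2) F) 1 1) := by
  rintro ⟨h1, h2, h3⟩
  apply hA
  have hc : A ∈ Subgroup.center (SpecialLinearGroup (Fin 2) F) := by
    rw [Matrix.SpecialLinearGroup.mem_center_iff]
    refine ⟨(A : Matrix (Fin 2) (Fin 2) F) 0 0, ?_, ?_⟩
    · have hdet := A.2
      rw [Matrix.det_fin_two, h1, zero_mul, sub_zero, ← h3] at hdet
      rw [Fintype.card_fin, pow_two]; exact hdet
    · ext i j
      fin_cases i <;> fin_cases j <;> simp [h1, h2, h3]
  rw [c2_center_eq_bot, Subgroup.mem_bot] at hc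
  exact hc

/-- the CA property of `PSL₂` in characteristic 2 -/
theorem c2_ca_property (a b c : ProjectiveSpecialLinearGroup (Fin 2) F) (ha : a ≠ 1)
    (hb : a * b = b * a) (hc : a * c = c * a) : b * c = c * b := by
  obtain ⟨A, rfl⟩ := QuotientGroup.mk_surjective a
  obtain ⟨B, rfl⟩ := QuotientGroup.mk_surjective b
  obtain ⟨C, rfl⟩ := QuotientGroup.mk_surjective c
  have hA : A ≠ 1 := by
    rintro rfl
    exact ha rfl
  have hAB : A * B = B * A := c2_mk_injective (by simpa using hb)
  have hAC : A * C = C * A := c2_mk_injective (by simpa using hc)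
  have hAB' : (A : Matrix (Fin 2) (Fin 2) F) * B = B * A := by
    have := congrArg Subtype.val hAB
    simpa using this
  have hAC' : (A : Matrix (Fin 2) (Fin 2) F) * C = C * A := by
    have := congrArg Subtype.val hAC
    simpa using this
  have hBC := c2_comm_of_comm_nonscalar _ _ _ (c2_nonscalar_of_ne_one A hA) hAB' hAC'
  have : B * C = C * B := Subtype.ext (by simpa using hBC)
  rw [← QuotientGroup.mk_mul, ← QuotientGroup.mk_mul, this]

end

section Main

open Matrix

theorem CT_psl_two_pow {F : Type*} [Field F] [Fintype F] {f : ℕ} (hf1 : 1 ≤ f)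
    (hF : Fintype.card F = 2 ^ f) : CT (ProjectiveSpecialLinearGroup (Fin 2) F) := by
  have hchar : ringChar F = 2 := by
    rw [FiniteField.even_card_iff_char_two, hF]
    obtain ⟨k, rfl⟩ : ∃ k, f = k + 1 := ⟨f - 1, by omega⟩
    rw [pow_succ]; simp
  haveI : CharP F 2 := ringChar.of_eq hchar
  intro a b c ha hb hc hab hbc
  exact c2_ca_property b a c hb hab.eq.symm hbc.eq

theorem card_psl_le_sixty {K : Type*} [Field K] [Fintype K] (hK2 : ringChar K ≠ 2)
    (h7 : ¬ 7 ≤ Fintype.card K) :
    Nat.card (ProjectiveSpecialLinearGroup (Fin 2) K) ≤ 60 := by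
  have hodd := FiniteField.odd_card_of_char_ne_two hK2
  have h1 : 1 < Fintype.card K := Fintype.one_lt_card
  have hcases : Fintype.card K = 3 ∨ Fintype.card K = 5 := by omega
  rcases hcases with h | h
  · have := Cfsg.Agent.Lib.Helper19.DicksonUse.card_psl_le_sl K
    rw [h] at this
    omega
  · rw [Cfsg.Agent.Lib.Helper19.MinSimple.card_psl_of_five h]

theorem main_of_even {G : Type*} [Group G] [Finite G] [IsSimpleGroup G] (hCT : CT G)
    (hnc : ¬ ∀ a b : G, a * b = b * a) (heven : 2 ∣ Nat.card G) :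
    ∃ (F : Type) (_ : Field F) (_ : Fintype F) (f : ℕ), 2 ≤ f ∧ Fintype.card F = 2 ^ f ∧
      Nonempty (G ≃* Matrix.ProjectiveSpecialLinearGroup (Fin 2) F) := by
  haveI : Fact (Nat.Prime 2) := ⟨Nat.prime_two⟩
  obtain ⟨t, ht⟩ := exists_prime_orderOf_dvd_card' 2 heven
  obtain ⟨u, hu, huN⟩ := exists_inv_not_mem_Nz hCT hnc ht
  have h2 := two_le_invCount hCT hnc ht
  rcases dichotomy hCT hnc ht hu huN h2 with h3 | ⟨K, _, _, hK2, ⟨e⟩⟩
  · exact final_of_elementary hCT hnc ht
      (fun b hb => sq_eq_one_of_three hCT hnc ht hu huN h3 hb)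
  · by_cases h7 : 7 ≤ Fintype.card K
    · exact absurd (CT_of_equiv e hCT) (not_CT_psl hK2 h7)
    · have h60 : Nat.card G ≤ 60 := by
        rw [Nat.card_congr e.toEquiv]
        exact card_psl_le_sixty hK2 h7
      exact final_of_elementary hCT hnc ht
        (fun b hb => sq_eq_one_of_card_le hCT hnc ht hu huN h60 hb)

end Main

end Cfsg.Agent.Lib.Helper96.CA
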