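import Mathlib
import Cfsg.Agent.Lib.Helper96.CA11

set_option autoImplicit false

/-!
# Simple CT-groups: main theorem modulo the odd-order CA theorem
-/

namespace Cfsg.Agent.Lib.Helper96.CA

theorem main_mod_odd {G : Type*} [Group G] [Finite G] [IsSimpleGroup G]
    (hG : ¬ IsMulCommutative G)
    (hS : Odd (Nat.card G) → (∀ x : G, x ≠ 1 → ∀ a ∈ Subgroup.centralizer ({x} : Set G),
      ∀ b ∈ Subgroup.centralizer ({x} : Set G), a * b = b * a) → Group.IsSolvable G) :
    (∀ a b c : G, a ≠ 1 → b ≠ 1 → c ≠ 1 → Commute a b → Commute b c → Commute a c) ↔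
    ∃ (F : Type) (_ : Field F) (_ : Fintype F) (f : ℕ), 2 ≤ f ∧ Fintype.card F = 2 ^ f ∧
      Nonempty (G ≃* Matrix.ProjectiveSpecialLinearGroup (Fin 2) F) := by
  have hnc : ¬ ∀ a b : G, a * b = b * a := fun h => hG (isMulCommutative_iff.2 h)
  constructor
  · intro hCT
    have hCT' : CT G := hCT
    have heven : 2 ∣ Nat.card G := by
      by_contra hnd
      have hodd : Odd (Nat.card G) := by
        rcases Nat.even_or_odd (Nat.card G) with h | h
        · exact absurd h.two_dvd hnd
        · exact h
      apply hnc
      rw [IsSimpleGroup.comm_iff_isSolvable]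
      apply hS hodd
      intro x hx a ha b hb
      by_cases ha1 : a = 1
      · rw [ha1, one_mul, mul_one]
      by_cases hb1 : b = 1
      · rw [hb1, one_mul, mul_one]
      have hax : Commute a x := by
        have := Subgroup.mem_centralizer_singleton_iff.1 ha
        exact this
      have hxb : Commute x b := by
        have := Subgroup.mem_centralizer_singleton_iff.1 hb
        exact this.symm
      exact (hCT a x b ha1 hx hb1 hax hxb).eq
    exact main_of_even hCT' hnc heven
  · rintro ⟨F, _, _, f, hf, hF, ⟨e⟩⟩
    have : CT (Matrix.ProjectiveSpecialLinearGroup (Fin 2) F) :=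
      CT_psl_two_pow (by omega : 1 ≤ f) hF
    exact CT_of_equiv e.symm this

end Cfsg.Agent.Lib.Helper96.CA
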