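import Mathlib

/-!
# K-CP-E (keystone 227204): trace zero is a class invariant of `PSL_d`; non-scalar lifts
-/

set_option autoImplicit false

namespace Cfsg.Agent.Lib.Helper96.CP

open Matrix

variable {F : Type*} [Field F] {d : ℕ}

theorem trace_mul_scalar (M : Matrix (Fin d) (Fin d) F) (r : F) :
    Matrix.trace (M * Matrix.scalar (Fin d) r) = r * Matrix.trace M := by
  have h : Matrix.scalar (Fin d) r = r • (1 : Matrix (Fin d) (Fin d) F) := by
    rw [Matrix.scalar_apply, Matrix.smul_one_eq_diagonal]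
  rw [h, Matrix.mul_smul, Matrix.mul_one, Matrix.trace_smul, smul_eq_mul]

theorem trace_conj_sl (k X : SpecialLinearGroup (Fin d) F) :
    Matrix.trace ((k * X * k⁻¹ : SpecialLinearGroup (Fin d) F) : Matrix (Fin d) (Fin d) F) =
      Matrix.trace (X : Matrix (Fin d) (Fin d) F) := by
  have h1 : ((k⁻¹ : SpecialLinearGroup (Fin d) F) : Matrix (Fin d) (Fin d) F) *
      (k : Matrix (Fin d) (Fin d) F) = 1 := by
    rw [← Matrix.SpecialLinearGroup.coe_mul, inv_mul_cancel, Matrix.SpecialLinearGroup.coe_one]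
  rw [Matrix.SpecialLinearGroup.coe_mul, Matrix.SpecialLinearGroup.coe_mul, Matrix.trace_mul_comm,
    ← Matrix.mul_assoc, h1, Matrix.one_mul]

theorem not_isConj_of_trace (X Y : SpecialLinearGroup (Fin d) F)
    (hX : Matrix.trace (X : Matrix (Fin d) (Fin d) F) = 0)
    (hY : Matrix.trace (Y : Matrix (Fin d) (Fin d) F) ≠ 0) :
    ¬ IsConj (QuotientGroup.mk X : Matrix.ProjectiveSpecialLinearGroup (Fin d) F)
      (QuotientGroup.mk Y) := by
  intro hc
  rw [isConj_iff] at hc
  obtain ⟨c, hc⟩ := hc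
  obtain ⟨k, rfl⟩ := QuotientGroup.mk_surjective c
  rw [← QuotientGroup.mk_inv, ← QuotientGroup.mk_mul, ← QuotientGroup.mk_mul,
    QuotientGroup.eq] at hc
  rw [Matrix.SpecialLinearGroup.mem_center_iff] at hc
  obtain ⟨r, _, hr⟩ := hc
  have hYeq : Y = (k * X * k⁻¹) * ((k * X * k⁻¹)⁻¹ * Y) := by group
  apply hY
  rw [hYeq, Matrix.SpecialLinearGroup.coe_mul, ← hr, trace_mul_scalar, trace_conj_sl, hX, mul_zero]

/-- a non-identity element of `PSL_d` has a non-scalar lift -/
theorem exists_lift_not_scalar (a : Matrix.ProjectiveSpecialLinearGroup (Fin d) F) (ha : a ≠ 1) :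
    ∃ A : SpecialLinearGroup (Fin d) F,
      (QuotientGroup.mk A : Matrix.ProjectiveSpecialLinearGroup (Fin d) F) = a ∧
      ∀ r : F, (A : Matrix (Fin d) (Fin d) F) ≠ Matrix.scalar (Fin d) r := by
  obtain ⟨A, rfl⟩ := QuotientGroup.mk_surjective a
  refine ⟨A, rfl, fun r hr => ha ?_⟩
  rw [QuotientGroup.eq_one_iff, Matrix.SpecialLinearGroup.mem_center_iff]
  refine ⟨r, ?_, hr.symm⟩
  have hdet := A.2
  rw [hr, Matrix.scalar_apply, Matrix.det_diagonal, Finset.prod_const, Finset.card_univ] at hdet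
  exact hdet

end Cfsg.Agent.Lib.Helper96.CP
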