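import Mathlib

/-!
# K-SPC LEAF B1b (keystone 267605, architect helper73, S2676): `commute_cayley_iff`

The commutant of `1 + N` equals the commutant of the Cayley transform `N (1 + N/2)⁻¹` (`N` nilpotent).
-/

set_option autoImplicit false

namespace Cfsg.Agent.Lib.Helper96.SPC

open Matrix

variable {F : Type*} [Field F]

theorem commute_inv_of_commute {ι : Type*} [Fintype ι] [DecidableEq ι] {x P : Matrix ι ι F}
    (hP : IsUnit P.det) (h : x * P = P * x) : x * P⁻¹ = P⁻¹ * x := by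
  have h1 : P * P⁻¹ = 1 := Matrix.mul_nonsing_inv P hP
  have h2 : P⁻¹ * P = 1 := Matrix.nonsing_inv_mul P hP
  calc x * P⁻¹ = (P⁻¹ * P) * x * P⁻¹ := by rw [h2, one_mul]
    _ = P⁻¹ * (P * x) * P⁻¹ := by simp only [mul_assoc]
    _ = P⁻¹ * (x * P) * P⁻¹ := by rw [h]
    _ = P⁻¹ * x * (P * P⁻¹) := by simp only [mul_assoc]
    _ = P⁻¹ * x := by rw [h1, mul_one]

theorem isUnit_det_one_add_smul {ι : Type*} [Fintype ι] [DecidableEq ι] (c : F)
    {N : Matrix ι ι F} (hN : IsNilpotent N) : IsUnit (1 + c • N).det := by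
  have h1 : IsNilpotent (c • N) := by
    obtain ⟨k, hk⟩ := hN
    refine ⟨k, ?_⟩
    rw [smul_pow, hk, smul_zero]
  have h2 : IsUnit (1 + c • N) := by
    rw [add_comm]
    exact h1.isUnit_add_one
  exact (Matrix.isUnit_iff_isUnit_det _).mp h2

/-- LEAF B1b. -/
theorem commute_cayley_iff {ι : Type*} [Fintype ι] [DecidableEq ι] (h2 : (2 : F) ≠ 0)
    (N : Matrix ι ι F) (hN : IsNilpotent N) (x : Matrix ι ι F) :
    x * (1 + N) = (1 + N) * x ↔
      x * (N * (1 + (2 : F)⁻¹ • N)⁻¹) = (N * (1 + (2 : F)⁻¹ • N)⁻¹) * x := by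
  set P : Matrix ι ι F := 1 + (2 : F)⁻¹ • N with hPdef
  have hP : IsUnit P.det := isUnit_det_one_add_smul _ hN
  have hP1 : P * P⁻¹ = 1 := Matrix.mul_nonsing_inv P hP
  have hP2 : P⁻¹ * P = 1 := Matrix.nonsing_inv_mul P hP
  have hNP : N * P = P * N := by
    rw [hPdef, mul_add, add_mul, mul_one, one_mul, Matrix.mul_smul, Matrix.smul_mul]
  have hNPi : N * P⁻¹ = P⁻¹ * N := commute_inv_of_commute hP hNP
  have hcomm1 : x * (1 + N) = (1 + N) * x ↔ x * N = N * x := by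
    rw [mul_add, add_mul, mul_one, one_mul]
    exact add_right_inj x
  rw [hcomm1]
  constructor
  · intro h
    have hxP : x * P = P * x := by
      rw [hPdef, mul_add, add_mul, mul_one, one_mul, Matrix.mul_smul, Matrix.smul_mul, h]
    have hxPi : x * P⁻¹ = P⁻¹ * x := commute_inv_of_commute hP hxP
    calc x * (N * P⁻¹) = (x * N) * P⁻¹ := by rw [mul_assoc]
      _ = N * (x * P⁻¹) := by rw [h, mul_assoc]
      _ = N * P⁻¹ * x := by rw [hxPi, mul_assoc]
  · intro h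
    obtain ⟨N', hN'def⟩ : ∃ N' : Matrix ι ι F, N' = N * P⁻¹ := ⟨_, rfl⟩
    rw [← hN'def] at h
    -- `N = N' * P`
    have hN'P : N' * P = N := by rw [hN'def, mul_assoc, hP2, mul_one]
    -- `N'` is nilpotent
    have hN'nil : IsNilpotent N' := by
      have hc : Commute N P⁻¹ := hNPi
      rw [hN'def]
      exact hc.isNilpotent_mul_right hN
    have hN'N : N' * N = N * N' := by
      rw [hN'def, mul_assoc, ← hNPi, ← mul_assoc]
    -- `(1 - N'/2) * N = N'`
    obtain ⟨Q, hQdef⟩ : ∃ Q : Matrix ι ι F, Q = 1 + (-(2 : F)⁻¹) • N' := ⟨_, rfl⟩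
    have hQ : IsUnit Q.det := by rw [hQdef]; exact isUnit_det_one_add_smul _ hN'nil
    have hQ2 : Q⁻¹ * Q = 1 := Matrix.nonsing_inv_mul Q hQ
    have e1 : N = N' + (2 : F)⁻¹ • (N' * N) := by
      conv_lhs => rw [← hN'P, hPdef, mul_add, mul_one, Matrix.mul_smul]
    have hQN : Q * N = N' := by
      rw [hQdef, add_mul, one_mul, Matrix.smul_mul, neg_smul]
      nth_rewrite 1 [e1]
      rw [add_neg_cancel_right]
    have hNQ : N = Q⁻¹ * N' := by
      rw [← hQN, ← mul_assoc, hQ2, one_mul]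
    have hxQ : x * Q = Q * x := by
      rw [hQdef, mul_add, add_mul, mul_one, one_mul, Matrix.mul_smul, Matrix.smul_mul, h]
    have hxQi : x * Q⁻¹ = Q⁻¹ * x := commute_inv_of_commute hQ hxQ
    calc x * N = x * (Q⁻¹ * N') := by rw [← hNQ]
      _ = Q⁻¹ * (x * N') := by rw [← mul_assoc, hxQi, mul_assoc]
      _ = Q⁻¹ * N' * x := by rw [h, mul_assoc]
      _ = N * x := by rw [← hNQ]

end Cfsg.Agent.Lib.Helper96.SPC
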