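import Mathlib
import Cfsg.Prelude.Def_SolvableStructure
import Cfsg.Prelude.Def_Transfer

/-!
# S3033: the hypothesis on two-generated subgroups `⟨x, g x g⁻¹⟩`
-/

set_option autoImplicit false

namespace Cfsg.Agent.Lib.Helper96.SS33

universe u

/-- The hypothesis of S3033: for distinct primes `p`, `q`, a `p`-element `x` and a `q`-element `g`,
`q ^ 2` does not divide the order of `⟨x, g x g⁻¹⟩`. -/
def Hyp (G : Type u) [Group G] : Prop :=
  ∀ (p q : ℕ), p.Prime → q.Prime → p ≠ q → ∀ (x g : G), (∃ a : ℕ, orderOf x = p ^ a) →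
    (∃ b : ℕ, orderOf g = q ^ b) →
      ¬ q ^ 2 ∣ Nat.card ↥(Subgroup.zpowers x ⊔ Subgroup.zpowers (g * x * g⁻¹))

end Cfsg.Agent.Lib.Helper96.SS33
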