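import Mathlib
import Cfsg.Prelude.Def_SolvableStructure

/-!
# S3033, keystone K-D2: the final linear contradiction

`Γ` acts faithfully and irreducibly on a `ZMod q`-space `V`, every element of prime power order
`p ^ a`, `p ≠ q`, acts as a quasi-scalar (`T (T v - v) = c • (T v - v)`), and `b` is a non-scalar
element of prime power order all of whose conjugates act as a scalar times a power of `b`.
Then we reach a contradiction.
-/

set_option autoImplicit false

namespace Cfsg.Agent.Lib.Helper96.SS33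

universe u

section Operator

variable {F : Type*} [Field F] {V : Type*} [AddCommGroup V] [Module F V]

/-- The quasi-scalar identity rewritten. -/
theorem qs_sq {T : V →ₗ[F] V} {lam : F} (h : ∀ v, T (T v - v) = lam • (T v - v)) (v : V) :
    T (T v) = (1 + lam) • T v - lam • v := by
  have := h v
  rw [map_sub] at this
  linear_combination (norm := module) this

/-- A quasi-scalar operator with constant `1` and of order prime to the characteristic is trivial. -/
theorem qs_one_eq_id {T : V →ₗ[F] V} (h : ∀ v, T (T v - v) = T v - v) (m : ℕ)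
    (hm : (m : F) ≠ 0) (hTm : T ^ m = 1) (v : V) : T v = v := by
  have hpow : ∀ (n : ℕ) (w : V), (T ^ n) w = w + (n : F) • (T w - w) := by
    intro n
    induction n with
    | zero => intro w; simp
    | succ n ih =>
      intro w
      rw [pow_succ, Module.End.mul_apply, ih (T w)]
      have h2 : T (T w) - T w = T w - w := by rw [← map_sub]; exact h w
      rw [h2]
      push_cast
      module
  have h1 := hpow m v
  rw [hTm, Module.End.one_apply] at h1
  have h2 : (m : F) • (T v - v) = 0 := by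
    linear_combination (norm := module) -h1
  rcases smul_eq_zero.1 h2 with h3 | h3
  · exact absurd h3 hm
  · exact sub_eq_zero.1 h3

/-- Decomposition into the two eigenspaces. -/
theorem qs_decomp {T : V →ₗ[F] V} {lam : F} (h : ∀ v, T (T v - v) = lam • (T v - v))
    (hlam : lam ≠ 1) (v : V) : ∃ v₁ v₂, T v₁ = v₁ ∧ T v₂ = lam • v₂ ∧ v = v₁ + v₂ := by
  have hne : (1 - lam) ≠ 0 := sub_ne_zero.2 (Ne.symm hlam)
  refine ⟨(1 - lam)⁻¹ • (T v - lam • v), -((1 - lam)⁻¹ • (T v - v)), ?_, ?_, ?_⟩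
  · rw [map_smul, map_sub, map_smul, qs_sq h]
    congr 1
    module
  · rw [map_neg, map_smul, h]
    module
  · have : (1 - lam)⁻¹ • (T v - lam • v) + -((1 - lam)⁻¹ • (T v - v)) =
        ((1 - lam)⁻¹ * (1 - lam)) • v := by module
    rw [this, inv_mul_cancel₀ hne, one_smul]

/-- The two eigenspaces meet trivially. -/
theorem eig_disj {T : V →ₗ[F] V} {lam : F} (hlam : lam ≠ 1) {v : V} (h1 : T v = v)
    (h2 : T v = lam • v) : v = 0 := by
  have : (1 - lam) • v = 0 := by
    rw [sub_smul, one_smul, ← h2, h1, sub_self]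
  rcases smul_eq_zero.1 this with h3 | h3
  · exact absurd (sub_eq_zero.1 h3).symm hlam
  · exact h3

/-- Uniqueness of the decomposition. -/
theorem eig_uniq {T : V →ₗ[F] V} {lam : F} (hlam : lam ≠ 1) {x y : V} (hx : T x = x)
    (hy : T y = lam • y) (hxy : x + y = 0) : x = 0 ∧ y = 0 := by
  have hyx : y = -x := eq_neg_of_add_eq_zero_right hxy
  have h1 : T y = y := by rw [hyx, map_neg, hx]
  have hy0 : y = 0 := eig_disj hlam h1 hy
  refine ⟨?_, hy0⟩
  rw [hy0, add_zero] at hxy
  exact hxy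

/-- `A` preserves both eigenspaces of `T`. -/
def Pres (T A : V →ₗ[F] V) (lam : F) : Prop :=
  (∀ v, T v = v → T (A v) = A v) ∧ (∀ v, T v = lam • v → T (A v) = lam • A v)

/-- `A` swaps the two eigenspaces of `T`. -/
def Swap (T A : V →ₗ[F] V) (lam : F) : Prop :=
  (∀ v, T v = v → T (A v) = lam • A v) ∧ (∀ v, T v = lam • v → T (A v) = A v)

theorem swap_mul_swap {T A B : V →ₗ[F] V} {lam : F} (hA : Swap T A lam) (hB : Swap T B lam) :
    Pres T (A * B) lam :=
  ⟨fun v hv => hA.2 _ (hB.1 v hv), fun v hv => hA.1 _ (hB.2 v hv)⟩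

theorem pres_mul_swap {T A B : V →ₗ[F] V} {lam : F} (hA : Pres T A lam) (hB : Swap T B lam) :
    Swap T (A * B) lam :=
  ⟨fun v hv => hA.2 _ (hB.1 v hv), fun v hv => hA.1 _ (hB.2 v hv)⟩

theorem pres_one {T : V →ₗ[F] V} {lam : F} : Pres T (1 : V →ₗ[F] V) lam :=
  ⟨fun _ hv => hv, fun _ hv => hv⟩

theorem pow_apply_of_fix {T : V →ₗ[F] V} {w : V} (h : T w = w) (k : ℕ) : (T ^ k) w = w := by
  induction k with
  | zero => simp
  | succ k ih => rw [pow_succ, Module.End.mul_apply, h, ih]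

theorem pow_apply_of_eig {T : V →ₗ[F] V} {lam : F} {w : V} (h : T w = lam • w) (k : ℕ) :
    (T ^ k) w = lam ^ k • w := by
  induction k with
  | zero => simp
  | succ k ih => rw [pow_succ, Module.End.mul_apply, h, map_smul, ih, smul_smul, pow_succ, mul_comm]

/-- The dichotomy: an invertible operator `A` conjugating `T` to a scalar multiple of a power of `T`
either preserves or swaps the two eigenspaces of `T`. -/
theorem pres_or_swap {T A A' U : V →ₗ[F] V} {lam μ : F} {k : ℕ} (hlam1 : lam ≠ 1)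
    (hdec : ∀ v, ∃ v₁ v₂, T v₁ = v₁ ∧ T v₂ = lam • v₂ ∧ v = v₁ + v₂)
    (hUA : ∀ v, U (A v) = A (T v)) (hU : ∀ v, U v = μ • (T ^ k) v) (hA'A : ∀ v, A' (A v) = v)
    (hAinj : ∀ v, A v = 0 → v = 0) (v₀ : V) (hv₀C : T v₀ = v₀) (hv₀ : v₀ ≠ 0)
    (hns : ¬ ∀ v, T v = v) : Pres T A lam ∨ Swap T A lam := by
  set ν : F := μ * lam ^ k with hν_def
  have hUC : ∀ w, T w = w → U w = μ • w := by
    intro w hw
    rw [hU, pow_apply_of_fix hw]
  have hUL : ∀ w, T w = lam • w → U w = ν • w := by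
    intro w hw
    rw [hU, pow_apply_of_eig hw, smul_smul]
  by_cases hμ : μ = 1
  · left
    have hν : ν ≠ 1 := by
      intro hν
      apply hns
      intro v
      have hUid : ∀ w, U w = w := by
        intro w
        obtain ⟨w₁, w₂, h1, h2, rfl⟩ := hdec w
        rw [map_add, hUC _ h1, hUL _ h2, hμ, hν, one_smul, one_smul]
      have h3 := hUA v
      rw [hUid] at h3
      have h4 := congrArg A' h3
      rw [hA'A, hA'A] at h4
      exact h4.symm
    constructor
    · intro v hv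
      obtain ⟨w₁, w₂, h1, h2, hw⟩ := hdec (A v)
      have hfix : U (A v) = A v := by rw [hUA, hv]
      rw [hw, map_add, hUC _ h1, hUL _ h2, hμ, one_smul] at hfix
      have h3 : (ν - 1) • w₂ = 0 := by linear_combination (norm := module) hfix
      have hw₂ : w₂ = 0 := (smul_eq_zero.1 h3).resolve_left (sub_ne_zero.2 hν)
      rw [hw, hw₂, add_zero]
      exact h1
    · intro v hv
      obtain ⟨w₁, w₂, h1, h2, hw⟩ := hdec (A v)
      have hfix : U (A v) = lam • A v := by rw [hUA, hv, map_smul]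
      rw [hw, map_add, hUC _ h1, hUL _ h2, hμ, one_smul, smul_add] at hfix
      have h3 : (1 - lam) • w₁ + (ν - lam) • w₂ = 0 := by
        linear_combination (norm := module) hfix
      have hx : T ((1 - lam) • w₁) = (1 - lam) • w₁ := by rw [map_smul, h1]
      have hy : T ((ν - lam) • w₂) = lam • ((ν - lam) • w₂) := by rw [map_smul, h2, smul_comm]
      obtain ⟨h4, -⟩ := eig_uniq hlam1 hx hy h3
      have hw₁ : w₁ = 0 :=
        (smul_eq_zero.1 h4).resolve_left (sub_ne_zero.2 (Ne.symm hlam1))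
      rw [hw, hw₁, zero_add]
      exact h2
  · right
    have hCL : ∀ v, T v = v → T (A v) = lam • A v ∧ (ν - 1) • A v = 0 := by
      intro v hv
      obtain ⟨w₁, w₂, h1, h2, hw⟩ := hdec (A v)
      have hfix : U (A v) = A v := by rw [hUA, hv]
      rw [hw, map_add, hUC _ h1, hUL _ h2] at hfix
      have h3 : (μ - 1) • w₁ + (ν - 1) • w₂ = 0 := by
        linear_combination (norm := module) hfix
      have hx : T ((μ - 1) • w₁) = (μ - 1) • w₁ := by rw [map_smul, h1]
      have hy : T ((ν - 1) • w₂) = lam • ((ν - 1) • w₂) := by rw [map_smul, h2, smul_comm]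
      obtain ⟨h4, h5⟩ := eig_uniq hlam1 hx hy h3
      have hw₁ : w₁ = 0 := (smul_eq_zero.1 h4).resolve_left (sub_ne_zero.2 hμ)
      rw [hw, hw₁, zero_add]
      exact ⟨h2, h5⟩
    have hν : ν = 1 := by
      obtain ⟨-, h5⟩ := hCL v₀ hv₀C
      rcases smul_eq_zero.1 h5 with h6 | h6
      · exact sub_eq_zero.1 h6
      · exact absurd (hAinj _ h6) hv₀
    constructor
    · intro v hv
      exact (hCL v hv).1
    · intro v hv
      obtain ⟨w₁, w₂, h1, h2, hw⟩ := hdec (A v)
      have hfix : U (A v) = lam • A v := by rw [hUA, hv, map_smul]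
      rw [hw, map_add, hUC _ h1, hUL _ h2, hν, one_smul, smul_add] at hfix
      have h3 : (μ - lam) • w₁ + (1 - lam) • w₂ = 0 := by
        linear_combination (norm := module) hfix
      have hx : T ((μ - lam) • w₁) = (μ - lam) • w₁ := by rw [map_smul, h1]
      have hy : T ((1 - lam) • w₂) = lam • ((1 - lam) • w₂) := by rw [map_smul, h2, smul_comm]
      obtain ⟨-, h5⟩ := eig_uniq hlam1 hx hy h3
      have hw₂ : w₂ = 0 :=
        (smul_eq_zero.1 h5).resolve_left (sub_ne_zero.2 (Ne.symm hlam1))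
      rw [hw, hw₂, add_zero]
      exact h1

end Operator

section Main

open Cfsg

/-- **K-S3033-D2.** -/
theorem false_of_nonscalar {q : ℕ} [Fact q.Prime] {Γ : Type u} [Group Γ] [Finite Γ] {V : Type u}
    [AddCommGroup V] [Module (ZMod q) V] [Finite V] (ρ : Representation (ZMod q) Γ V)
    (hinj : Function.Injective ρ)
    (hirr : ∀ W : Submodule (ZMod q) V, (∀ g : Γ, ∀ w ∈ W, ρ g w ∈ W) → W = ⊥ ∨ W = ⊤)
    (hqs : ∀ (p a : ℕ) (x : Γ), p.Prime → p ≠ q → orderOf x = p ^ a →
      ∃ c : ZMod q, ∀ v : V, ρ x (ρ x v - v) = c • (ρ x v - v))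
    (b : Γ) (p a : ℕ) (hp : p.Prime) (hpq : p ≠ q) (hb : orderOf b = p ^ a)
    (hbns : ¬ ∃ c : ZMod q, ∀ v : V, ρ b v = c • v)
    (hconj : ∀ g : Γ, ∃ (μ : ZMod q) (k : ℕ), ∀ v : V, ρ (g * b * g⁻¹) v = μ • (ρ b ^ k) v) :
    False := by
  classical
  have hq : q.Prime := Fact.out
  -- basic facts on `ρ`
  have hmul : ∀ (g h : Γ) (v : V), ρ (g * h) v = ρ g (ρ h v) := by
    intro g h v
    rw [map_mul, Module.End.mul_apply]
  have hone : ∀ v : V, ρ 1 v = v := by
    intro v
    rw [map_one, Module.End.one_apply]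
  have hinvl : ∀ (g : Γ) (v : V), ρ g⁻¹ (ρ g v) = v := by
    intro g v
    rw [← hmul, inv_mul_cancel, hone]
  have hinvr : ∀ (g : Γ) (v : V), ρ g (ρ g⁻¹ v) = v := by
    intro g v
    rw [← hmul, mul_inv_cancel, hone]
  have hρinj : ∀ (g : Γ) (v : V), ρ g v = 0 → v = 0 := by
    intro g v h
    have := hinvl g v
    rw [h, map_zero] at this
    exact this.symm
  set T : V →ₗ[ZMod q] V := ρ b with hT
  have hTpow : T ^ (p ^ a) = 1 := by
    rw [hT, ← map_pow, ← hb, pow_orderOf_eq_one, map_one]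
  obtain ⟨lam, hlam⟩ := hqs p a b hp hpq hb
  have hpa_ne : ((p ^ a : ℕ) : ZMod q) ≠ 0 := by
    rw [Ne, ZMod.natCast_eq_zero_iff]
    intro h
    have := (Nat.prime_dvd_prime_iff_eq hq hp).1 (hq.dvd_of_dvd_pow h)
    exact hpq this.symm
  -- `lam ≠ 1`
  have hlam1 : lam ≠ 1 := by
    intro h1
    apply hbns
    refine ⟨1, fun v => ?_⟩
    rw [one_smul]
    refine qs_one_eq_id (T := T) ?_ (p ^ a) hpa_ne hTpow v
    intro w
    have := hlam w
    rwa [h1, one_smul] at this
  have hdec := qs_decomp hlam hlam1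
  -- nonzero vectors in both eigenspaces
  obtain ⟨v₀, hv₀C, hv₀⟩ : ∃ v₀, T v₀ = v₀ ∧ v₀ ≠ 0 := by
    by_contra hcon
    push Not at hcon
    apply hbns
    refine ⟨lam, fun v => ?_⟩
    have h1 : T (T v - lam • v) = T v - lam • v := by
      rw [map_sub, map_smul, qs_sq hlam]
      module
    exact sub_eq_zero.1 (hcon _ h1)
  obtain ⟨u₀, hu₀L, hu₀⟩ : ∃ u₀, T u₀ = lam • u₀ ∧ u₀ ≠ 0 := by
    by_contra hcon
    push Not at hcon
    apply hbns
    refine ⟨1, fun v => ?_⟩
    rw [one_smul]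
    exact sub_eq_zero.1 (hcon _ (hlam v))
  have hlam0 : lam ≠ 0 := by
    intro h0
    rw [h0, zero_smul] at hu₀L
    exact hu₀ (hρinj b u₀ hu₀L)
  have hTns : ¬ ∀ v, T v = v := fun h => hbns ⟨1, fun v => by rw [one_smul]; exact h v⟩
  -- the dichotomy
  have hdich : ∀ g : Γ, Pres T (ρ g) lam ∨ Swap T (ρ g) lam := by
    intro g
    obtain ⟨μ, k, hU⟩ := hconj g
    refine pres_or_swap (U := ρ (g * b * g⁻¹)) (A' := ρ g⁻¹) hlam1 hdec ?_ hU (hinvl g) (hρinj g)
      v₀ hv₀C hv₀ hTns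
    intro v
    rw [← hmul, ← hmul]
    congr 2
    group
  -- some element swaps
  obtain ⟨t₀, ht₀⟩ : ∃ t₀ : Γ, Swap T (ρ t₀) lam := by
    by_contra hcon
    push Not at hcon
    have hpres : ∀ g : Γ, Pres T (ρ g) lam := fun g => (hdich g).resolve_right (hcon g)
    have hW := hirr (LinearMap.ker (T - 1)) (by
      intro g w hw
      rw [LinearMap.mem_ker, LinearMap.sub_apply, Module.End.one_apply, sub_eq_zero] at hw ⊢
      exact (hpres g).1 w hw)
    rcases hW with hW | hW
    · have : v₀ ∈ LinearMap.ker (T - 1) := by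
        rw [LinearMap.mem_ker, LinearMap.sub_apply, Module.End.one_apply, sub_eq_zero]
        exact hv₀C
      rw [hW] at this
      exact hv₀ ((Submodule.mem_bot _).1 this)
    · apply hTns
      intro v
      have : v ∈ LinearMap.ker (T - 1) := by rw [hW]; exact Submodule.mem_top
      rwa [LinearMap.mem_ker, LinearMap.sub_apply, Module.End.one_apply, sub_eq_zero] at this
  -- odd powers of a swapping element swap
  have hoddpow : ∀ j : ℕ, Pres T (ρ (t₀ ^ (2 * j))) lam ∧ Swap T (ρ (t₀ ^ (2 * j + 1))) lam := by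
    intro j
    induction j with
    | zero =>
      constructor
      · rw [Nat.mul_zero, pow_zero, map_one]; exact pres_one
      · rw [Nat.mul_zero, Nat.zero_add, pow_one]; exact ht₀
    | succ j ih =>
      have h1 : Pres T (ρ (t₀ ^ (2 * (j + 1)))) lam := by
        have : t₀ ^ (2 * (j + 1)) = t₀ ^ (2 * j + 1) * t₀ := by rw [← pow_succ]; congr 1
        rw [this, map_mul]
        exact swap_mul_swap ih.2 ht₀
      refine ⟨h1, ?_⟩
      have : t₀ ^ (2 * (j + 1) + 1) = t₀ ^ (2 * (j + 1)) * t₀ := by rw [← pow_succ]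
      rw [this, map_mul]
      exact pres_mul_swap h1 ht₀
  -- a swapping `2`-element
  obtain ⟨t, e, ht, hts⟩ : ∃ (t : Γ) (e : ℕ), orderOf t = 2 ^ e ∧ Swap T (ρ t) lam := by
    have hn : orderOf t₀ ≠ 0 := (orderOf_pos t₀).ne'
    obtain ⟨e, m, hm, hnm⟩ := Nat.exists_eq_two_pow_mul_odd hn
    obtain ⟨j, hj⟩ := hm
    refine ⟨t₀ ^ m, e, ?_, ?_⟩
    · have hm0 : m ≠ 0 := by omega
      rw [orderOf_pow' t₀ hm0, hnm]
      have : Nat.gcd (2 ^ e * m) m = m := Nat.gcd_eq_right (Dvd.intro_left _ rfl)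
      rw [this]
      exact Nat.mul_div_cancel _ (Nat.pos_of_ne_zero hm0)
    · rw [hj]
      exact (hoddpow j).2
  set S : V →ₗ[ZMod q] V := ρ t with hS
  -- the inverse of `t` swaps as well
  have htinv : Swap T (ρ t⁻¹) lam := by
    refine (hdich t⁻¹).resolve_left ?_
    intro hP
    have h1 := hts.1 v₀ hv₀C
    have h2 := hP.2 _ h1
    rw [hinvl] at h2
    exact hv₀ (eig_disj hlam1 hv₀C h2)
  -- the conjugate of `b` by `t`
  obtain ⟨bt, hbt⟩ : ∃ bt : Γ, bt = t * b * t⁻¹ := ⟨_, rfl⟩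
  have hUC : ∀ v, T v = v → ρ bt v = lam • v := by
    intro v hv
    rw [hbt, hmul, hmul]
    have h1 := htinv.1 v hv
    show ρ t (T (ρ t⁻¹ v)) = lam • v
    rw [h1, map_smul, hinvr]
  have hUL : ∀ v, T v = lam • v → ρ bt v = v := by
    intro v hv
    rw [hbt, hmul, hmul]
    have h1 := htinv.2 v hv
    show ρ t (T (ρ t⁻¹ v)) = v
    rw [h1, hinvr]
  have hcomm : b * bt = bt * b := by
    apply hinj
    apply LinearMap.ext
    intro v
    obtain ⟨v₁, v₂, h1, h2, rfl⟩ := hdec v
    rw [hmul, hmul, map_add, map_add, map_add, map_add]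
    show T (ρ bt v₁) + T (ρ bt v₂) = ρ bt (T v₁) + ρ bt (T v₂)
    rw [hUC _ h1, hUL _ h2, h1, h2, map_smul, map_smul, hUC _ h1, hUL _ h2, h1]
  -- `lam ^ 2 = 1`
  have hlam2 : lam * lam = 1 := by
    have hbpow : b ^ (p ^ a) = 1 := by rw [← hb]; exact pow_orderOf_eq_one b
    have hbtpow : bt ^ (p ^ a) = 1 := by
      rw [hbt, conj_pow, hbpow, mul_one, mul_inv_cancel]
    have hy1 : (b * b * bt) ^ (p ^ a) = 1 := by
      have hc : Commute (b * b) bt := Commute.mul_left hcomm hcomm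
      rw [hc.mul_pow, hbtpow, mul_one, (Commute.refl b).mul_pow, hbpow, one_mul]
    obtain ⟨a', -, ha'⟩ := (Nat.dvd_prime_pow hp).1 (orderOf_dvd_of_pow_eq_one hy1)
    obtain ⟨c', hc'⟩ := hqs p a' (b * b * bt) hp hpq ha'
    have hY : ∀ v, ρ (b * b * bt) v = T (T (ρ bt v)) := by
      intro v
      rw [hmul, hmul]
    have hYv : ρ (b * b * bt) v₀ = lam • v₀ := by
      rw [hY, hUC _ hv₀C, map_smul, map_smul, hv₀C, hv₀C]
    have hYu : ρ (b * b * bt) u₀ = (lam * lam) • u₀ := by
      rw [hY, hUL _ hu₀L, hu₀L, map_smul, hu₀L, smul_smul]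
    have h1 := hc' v₀
    rw [hYv] at h1
    have h1' : ρ (b * b * bt) (lam • v₀ - v₀) = (lam - 1) • lam • v₀ := by
      rw [map_sub, map_smul, hYv]
      module
    rw [h1'] at h1
    have h2 : ((lam - 1) * (lam - c')) • v₀ = 0 := by
      linear_combination (norm := module) h1
    have hc'eq : c' = lam := by
      rcases smul_eq_zero.1 h2 with h3 | h3
      · rcases mul_eq_zero.1 h3 with h4 | h4
        · exact absurd (sub_eq_zero.1 h4) hlam1
        · exact (sub_eq_zero.1 h4).symm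
      · exact absurd h3 hv₀
    have h3 := hc' u₀
    rw [hYu, hc'eq] at h3
    have h3' : ρ (b * b * bt) ((lam * lam) • u₀ - u₀) = (lam * lam - 1) • (lam * lam) • u₀ := by
      rw [map_sub, map_smul, hYu]
      module
    rw [h3'] at h3
    have h4 : ((lam * lam - 1) * (lam * (lam - 1))) • u₀ = 0 := by
      linear_combination (norm := module) h3
    rcases smul_eq_zero.1 h4 with h5 | h5
    · rcases mul_eq_zero.1 h5 with h6 | h6
      · exact sub_eq_zero.1 h6
      · rcases mul_eq_zero.1 h6 with h7 | h7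
        · exact absurd h7 hlam0
        · exact absurd (sub_eq_zero.1 h7) hlam1
    · exact absurd h5 hu₀
  -- `2 ≠ q`
  have h2q : (2 : ℕ) ≠ q := by
    intro h
    have h2 : (2 : ZMod q) = 0 := by
      have hdvd : q ∣ 2 := Dvd.intro 1 (by rw [mul_one]; exact h.symm)
      have := (ZMod.natCast_eq_zero_iff 2 q).2 hdvd
      exact_mod_cast this
    have h3 : (lam - 1) * (lam + 1) = 0 := by linear_combination hlam2
    rcases mul_eq_zero.1 h3 with h4 | h4
    · exact hlam1 (sub_eq_zero.1 h4)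
    · apply hlam1
      linear_combination h4 - h2
  -- `ρ t` is an involution
  have hSS : ∀ v, S (S v) = v := by
    obtain ⟨μ', hμ'⟩ := hqs 2 e t Nat.prime_two h2q ht
    have hsq := qs_sq hμ'
    have h1 := hsq v₀
    have hSv₀L : T (S v₀) = lam • S v₀ := hts.1 v₀ hv₀C
    have hSSv₀C : T (S (S v₀)) = S (S v₀) := hts.2 _ hSv₀L
    have h2 : (1 + μ') • S v₀ = S (S v₀) + μ' • v₀ := by
      linear_combination (norm := module) -h1
    have hx : T ((1 + μ') • S v₀) = (1 + μ') • S v₀ := by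
      rw [h2, map_add, map_smul, hSSv₀C, hv₀C]
    have hy : T ((1 + μ') • S v₀) = lam • ((1 + μ') • S v₀) := by
      rw [map_smul, hSv₀L, smul_comm]
    have h3 := eig_disj hlam1 hx hy
    have hμ'1 : 1 + μ' = 0 := by
      rcases smul_eq_zero.1 h3 with h4 | h4
      · exact h4
      · exact absurd (hρinj t v₀ h4) hv₀
    intro v
    have h5 := hsq v
    rw [hμ'1, zero_smul, zero_sub] at h5
    have h6 : -μ' = 1 := by linear_combination (-1 : ZMod q) * hμ'1
    rw [h5, ← neg_smul, h6, one_smul]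
  -- the element `w = t * b`
  have hWW : ∀ v, ρ (t * b) (ρ (t * b) v) = lam • v := by
    intro v
    obtain ⟨v₁, v₂, h1, h2, rfl⟩ := hdec v
    have hW : ∀ x, ρ (t * b) x = S (T x) := fun x => hmul t b x
    rw [map_add, map_add, smul_add]
    congr 1
    · rw [hW, hW, h1, hts.1 v₁ h1, map_smul, hSS]
    · rw [hW, hW, h2, map_smul, map_smul, hts.2 v₂ h2, map_smul, hSS]
  have hw4 : (t * b) ^ 4 = 1 := by
    apply hinj
    apply LinearMap.ext
    intro v
    have : (t * b) ^ 4 = (t * b) * (t * b) * ((t * b) * (t * b)) := by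
      rw [pow_succ, pow_succ, pow_succ, pow_one, mul_assoc, mul_assoc]
    rw [this, hmul, hmul (t * b) (t * b), hmul (t * b) (t * b), hWW, hWW, smul_smul, hlam2,
      one_smul, map_one, Module.End.one_apply]
  obtain ⟨e', -, he'⟩ := (Nat.dvd_prime_pow Nat.prime_two).1
    (orderOf_dvd_of_pow_eq_one (show (t * b) ^ (2 ^ 2) = 1 from hw4))
  obtain ⟨ν, hν⟩ := hqs 2 e' (t * b) Nat.prime_two h2q he'
  have hWv₀ : ρ (t * b) v₀ = S v₀ := by rw [hmul]; show S (T v₀) = S v₀; rw [hv₀C]
  have hSv₀L : T (S v₀) = lam • S v₀ := hts.1 v₀ hv₀C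
  have h1 := hν v₀
  rw [map_sub, hWW, hWv₀] at h1
  have h2 : (lam + ν) • v₀ + (-(1 + ν)) • S v₀ = 0 := by
    linear_combination (norm := module) h1
  have hx : T ((lam + ν) • v₀) = (lam + ν) • v₀ := by rw [map_smul, hv₀C]
  have hy : T ((-(1 + ν)) • S v₀) = lam • ((-(1 + ν)) • S v₀) := by
    rw [map_smul, hSv₀L, smul_comm]
  obtain ⟨h3, h4⟩ := eig_uniq hlam1 hx hy h2
  have hν1 : 1 + ν = 0 := by
    rcases smul_eq_zero.1 h4 with h5 | h5
    · exact neg_eq_zero.1 h5
    · exact absurd (hρinj t v₀ h5) hv₀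
  have hν2 : lam + ν = 0 := (smul_eq_zero.1 h3).resolve_right hv₀
  apply hlam1
  linear_combination hν2 - hν1

end Main

end Cfsg.Agent.Lib.Helper96.SS33
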