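import Mathlib
import Cfsg.Prelude.Def_SolvableStructure
import Cfsg.Agent.Lib.Helper96.SS33D2
import Cfsg.Agent.Lib.Helper67.SS33D1

/-!
# S3033, keystone K-D: the linear main theorem

A finite supersolvable group acting faithfully and irreducibly on a finite `ZMod q`-space in which
every element of prime power order `p ^ a`, `p ≠ q`, is a quasi-scalar, acts on a space of dimension
at most one.
-/

set_option autoImplicit false

namespace Cfsg.Agent.Lib.Helper96.SS33

open Cfsg

universe u

/-- **K-S3033-D.** -/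
theorem lin_main {q : ℕ} [Fact q.Prime] {Γ : Type u} [Group Γ] [Finite Γ] {V : Type u}
    [AddCommGroup V] [Module (ZMod q) V] [Finite V] (ρ : Representation (ZMod q) Γ V)
    (hinj : Function.Injective ρ) (hsup : IsSupersolvable Γ)
    (hirr : ∀ W : Submodule (ZMod q) V, (∀ g : Γ, ∀ w ∈ W, ρ g w ∈ W) → W = ⊥ ∨ W = ⊤)
    (hqs : ∀ (p a : ℕ) (x : Γ), p.Prime → p ≠ q → orderOf x = p ^ a →
      ∃ c : ZMod q, ∀ v : V, ρ x (ρ x v - v) = c • (ρ x v - v)) :
    ∀ v w : V, v ≠ 0 → ∃ c : ZMod q, w = c • v := by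
  by_cases hall : ∀ g : Γ, ∃ c : ZMod q, ∀ v : V, ρ g v = c • v
  · intro v w hv
    have hW := hirr (Submodule.span (ZMod q) {v}) (by
      intro g w hw
      obtain ⟨c, hc⟩ := hall g
      rw [hc]
      exact Submodule.smul_mem _ c hw)
    rcases hW with hW | hW
    · exfalso
      apply hv
      have : v ∈ Submodule.span (ZMod q) {v} := Submodule.mem_span_singleton_self v
      rw [hW] at this
      exact (Submodule.mem_bot _).1 this
    · have : w ∈ Submodule.span (ZMod q) {v} := by rw [hW]; exact Submodule.mem_top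
      obtain ⟨c, hc⟩ := Submodule.mem_span_singleton.1 this
      exact ⟨c, hc.symm⟩
  · exfalso
    obtain ⟨b, p, a, hp, hpq, hb, hbns, hconj⟩ :=
      Cfsg.Agent.Lib.Helper67.SS33.exists_nonscalar ρ hinj hsup hirr hall
    exact false_of_nonscalar ρ hinj hirr hqs b p a hp hpq hb hbns hconj

end Cfsg.Agent.Lib.Helper96.SS33
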