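import Mathlib

/-!
# Keystone K-TT68-Q1 (S5559 pack of helper94): order of the quotient `G ⧸ Q` for `G = <a> R Q`
-/

set_option autoImplicit false

namespace Cfsg.Agent.Lib.Helper96.TT68

open scoped Pointwise

theorem card_quotient_eq {G : Type*} [Group G] [Finite G] (Q : Subgroup G) [Q.Normal] (hQ : IsPGroup 2 Q)
    (R : Subgroup G) (hR : IsPGroup 3 R) (a : G) (ha : a * a = 1) (haQ : a ∉ Q)
    (haR : ∀ x ∈ R, a * x * a ∈ R) (htop : Subgroup.zpowers a ⊔ R ⊔ Q = ⊤) :
    Nat.card (G ⧸ Q) = 2 * Nat.card R := by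
  classical
  obtain ⟨π, hπdef⟩ : ∃ π : G →* G ⧸ Q, π = QuotientGroup.mk' Q := ⟨_, rfl⟩
  have hπsurj : Function.Surjective π := by rw [hπdef]; exact QuotientGroup.mk'_surjective Q
  have hπker : ∀ x : G, π x = 1 ↔ x ∈ Q := by
    intro x
    rw [hπdef, QuotientGroup.mk'_apply, QuotientGroup.eq_one_iff]
  have h23 : Nat.Coprime 3 2 := by norm_num
  have h32 : Nat.Coprime 2 3 := by norm_num
  -- the image of `a`
  have hb2 : π a * π a = 1 := by rw [← map_mul, ha, map_one]
  have hb1 : π a ≠ 1 := fun h => haQ ((hπker a).mp h)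
  have hbinv : (π a)⁻¹ = π a := inv_eq_of_mul_eq_one_right hb2
  have hord : orderOf (π a) = 2 := by
    apply orderOf_eq_prime
    · rw [pow_two]; exact hb2
    · exact hb1
  -- the image of `R`
  have hRQ : Disjoint R Q := IsPGroup.disjoint_of_coprime hR hQ h23
  have hcardR : Nat.card ↥(R.map π) = Nat.card ↥R := by
    have hinj : Function.Injective (π.comp R.subtype) := by
      rw [injective_iff_map_eq_one]
      intro x hx
      have hxQ : (x : G) ∈ Q := (hπker _).mp hx
      have : (x : G) ∈ R ⊓ Q := ⟨x.2, hxQ⟩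
      rw [hRQ.eq_bot, Subgroup.mem_bot] at this
      exact Subtype.ext this
    have hrange : (π.comp R.subtype).range = R.map π := by
      rw [MonoidHom.range_comp, Subgroup.range_subtype]
    rw [← hrange]
    exact (Nat.card_congr (MonoidHom.ofInjective hinj).toEquiv).symm
  have hR3 : IsPGroup 3 ↥(R.map π) := hR.map π
  have hZ2 : IsPGroup 2 ↥(Subgroup.zpowers (π a)) := by
    rw [IsPGroup.iff_card, Nat.card_zpowers, hord]
    exact ⟨1, by norm_num⟩
  -- the quotient is generated by the two images
  have hsup : Subgroup.zpowers (π a) ⊔ R.map π = ⊤ := by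
    have h1 := congrArg (Subgroup.map π) htop
    rw [Subgroup.map_sup, Subgroup.map_sup, MonoidHom.map_zpowers,
      Subgroup.map_top_of_surjective π hπsurj] at h1
    have h2 : Q.map π = ⊥ := by rw [hπdef]; exact QuotientGroup.map_mk'_self Q
    rw [h2, sup_bot_eq] at h1
    exact h1
  -- the image of `R` is normal
  have hconj : ∀ y ∈ R.map π, π a * y * (π a)⁻¹ ∈ R.map π := by
    rintro _ ⟨x, hx, rfl⟩
    rw [hbinv, ← map_mul, ← map_mul]
    exact ⟨a * x * a, haR x hx, rfl⟩
  have hnorm : (R.map π).Normal := by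
    rw [← Subgroup.normalizer_eq_top_iff, eq_top_iff, ← hsup]
    apply sup_le
    · rw [Subgroup.zpowers_le, Subgroup.mem_normalizer_iff]
      intro y
      constructor
      · exact hconj y
      · intro hy
        have h3 := hconj _ hy
        rw [hbinv] at h3
        have h4 : π a * (π a * y * π a) * π a = y := by
          calc π a * (π a * y * π a) * π a = (π a * π a) * y * (π a * π a) := by group
            _ = y := by rw [hb2, one_mul, mul_one]
        rw [hbinv] at hy
        rw [h4] at h3
        exact h3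
    · exact Subgroup.le_normalizer
  have hdisj : Disjoint (Subgroup.zpowers (π a)) (R.map π) :=
    IsPGroup.disjoint_of_coprime hZ2 hR3 h32
  have hmul : ((Subgroup.zpowers (π a) : Subgroup (G ⧸ Q)) : Set (G ⧸ Q)) * ((R.map π : Subgroup (G ⧸ Q)) : Set (G ⧸ Q)) =
      Set.univ := by
    rw [← Subgroup.mul_normal, hsup, Subgroup.coe_top]
  have hcompl := Subgroup.isComplement'_of_disjoint_and_mul_eq_univ hdisj hmul
  have hcard := hcompl.card_mul_card
  rw [Nat.card_zpowers, hord, hcardR] at hcard
  exact hcard.symm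

end Cfsg.Agent.Lib.Helper96.TT68
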