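import Mathlib

/-!
# Keystone K-S0459-D2 (Rudvalis pack of helper95): stabiliser glue, pure Mathlib
-/

set_option autoImplicit false

namespace Cfsg.Agent.Lib.Helper96.RuKey

theorem exists_subgroup_stabilizer_equiv {n : ℕ} [NeZero n] (H T₀ : Subgroup (Equiv.Perm (Fin n))) (hT : T₀ ≤ H)
    (hfix : ∀ g ∈ T₀, g 0 = 0) :
    ∃ T : Subgroup ↥(MulAction.stabilizer ↥H (0 : Fin n)), Nonempty (↥T ≃* ↥T₀) := by
  let φ : ↥(MulAction.stabilizer ↥H (0 : Fin n)) →* Equiv.Perm (Fin n) :=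
    (Subgroup.subtype H).comp (Subgroup.subtype (MulAction.stabilizer ↥H (0 : Fin n)))
  have hφ : Function.Injective φ :=
    (Subgroup.subtype_injective H).comp
      (Subgroup.subtype_injective (MulAction.stabilizer ↥H (0 : Fin n)))
  have hle : T₀ ≤ φ.range := by
    intro g hg
    have hmem : (⟨g, hT hg⟩ : ↥H) ∈ MulAction.stabilizer ↥H (0 : Fin n) := by
      rw [MulAction.mem_stabilizer_iff]
      exact hfix g hg
    exact ⟨⟨⟨g, hT hg⟩, hmem⟩, rfl⟩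
  refine ⟨T₀.comap φ, ⟨?_⟩⟩
  have e2 : (T₀.comap φ).map φ = T₀ := Subgroup.map_comap_eq_self hle
  exact ((T₀.comap φ).equivMapOfInjective φ hφ).trans (MulEquiv.subgroupCongr e2)

theorem orbit_eq_univ_of_base {n : ℕ} [NeZero n] (H : Subgroup (Equiv.Perm (Fin n)))
    (htrans : ∀ x : Fin n, ∃ g ∈ H, g 0 = x) :
    MulAction.orbit ↥H (0 : Fin n) = Set.univ := by
  rw [Set.eq_univ_iff_forall]
  intro x
  obtain ⟨g, hg, hgx⟩ := htrans x
  exact ⟨⟨g, hg⟩, hgx⟩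

theorem card_stabilizer_mul {n : ℕ} [NeZero n] (H : Subgroup (Equiv.Perm (Fin n)))
    (htrans : ∀ x : Fin n, ∃ g ∈ H, g 0 = x) :
    Nat.card ↥(MulAction.stabilizer ↥H (0 : Fin n)) * n = Nat.card ↥H := by
  have h1 := Subgroup.card_mul_index (MulAction.stabilizer ↥H (0 : Fin n))
  rw [MulAction.index_stabilizer, orbit_eq_univ_of_base H htrans, Set.ncard_univ,
    Nat.card_fin] at h1
  exact h1

theorem isPretransitive_of_base {n : ℕ} [NeZero n] (H : Subgroup (Equiv.Perm (Fin n)))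
    (htrans : ∀ x : Fin n, ∃ g ∈ H, g 0 = x) : MulAction.IsPretransitive ↥H (Fin n) := by
  constructor
  intro x y
  obtain ⟨gx, hgx, hx⟩ := htrans x
  obtain ⟨gy, hgy, hy⟩ := htrans y
  refine ⟨⟨gy * gx⁻¹, H.mul_mem hgy (H.inv_mem hgx)⟩, ?_⟩
  change (gy * gx⁻¹) x = y
  rw [Equiv.Perm.mul_apply, ← hx]
  have h3 : gx⁻¹ (gx 0) = 0 := by
    rw [← Equiv.Perm.mul_apply, inv_mul_cancel, Equiv.Perm.one_apply]
  rw [h3, hy]

end Cfsg.Agent.Lib.Helper96.RuKey
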