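import Mathlib
import Cfsg.Agent.Lib.Helper72.A4ODefs
import Cfsg.Agent.S0144

/-! K-A4O leaf L1a (S4068): a nonsolvable finite group has at least three prime divisors. -/

set_option autoImplicit false

namespace Cfsg.Agent.Lib.Helper96.A4O

open Cfsg.Agent.Lib.Helper72.A4O

universe u

/-- 406801 A4O-L1a: nonsolvable => at least three prime divisors. -/
theorem three_le_primeFactors {G : Type u} [Group G] [Finite G] (hns : ¬ Group.IsSolvable G) :
    3 ≤ (Nat.card G).primeFactors.card := by
  by_contra hlt
  apply hns
  have hpos : Nat.card G ≠ 0 := Nat.card_pos.ne'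
  have hprod := Nat.prod_factorization_pow_eq_self hpos
  rw [Finsupp.prod, Nat.support_factorization] at hprod
  have hle : (Nat.card G).primeFactors.card ≤ 2 := by omega
  rcases Nat.lt_or_ge (Nat.card G).primeFactors.card 1 with h0 | h1
  · -- no prime factor
    have h : (Nat.card G).primeFactors = ∅ := Finset.card_eq_zero.mp (by omega)
    rw [h, Finset.prod_empty] at hprod
    exact Cfsg.Agent.S0144.result 2 3 0 0 Nat.prime_two Nat.prime_three
      (by rw [← hprod, pow_zero, pow_zero, mul_one])
  · rcases Nat.lt_or_ge (Nat.card G).primeFactors.card 2 with h1' | h2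
    · -- one prime factor
      obtain ⟨a, ha⟩ := Finset.card_eq_one.mp (by omega : (Nat.card G).primeFactors.card = 1)
      have hap : a.Prime := Nat.prime_of_mem_primeFactors (by rw [ha]; exact Finset.mem_singleton_self a)
      rw [ha, Finset.prod_singleton] at hprod
      exact Cfsg.Agent.S0144.result a a ((Nat.card G).factorization a) 0 hap hap
        (by rw [pow_zero, mul_one]; exact hprod.symm)
    · -- two prime factors
      obtain ⟨x, y, hxy, hs⟩ := Finset.card_eq_two.mp (by omega : (Nat.card G).primeFactors.card = 2)
      have hxp : x.Prime := Nat.prime_of_mem_primeFactors (by rw [hs]; simp)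
      have hyp : y.Prime := Nat.prime_of_mem_primeFactors (by rw [hs]; simp)
      rw [hs, Finset.prod_pair hxy] at hprod
      exact Cfsg.Agent.S0144.result x y _ _ hxp hyp hprod.symm

end Cfsg.Agent.Lib.Helper96.A4O
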