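import Mathlib
import Cfsg.Agent.Lib.Helper96.BG1310Iaux
import Cfsg.Agent.Lib.Helper32.BG1310A
import Cfsg.Agent.Lib.Helper90.BG1310B

/-!
# Keystone 131009 (K-BG1310-I): `NR.sub_tau1_of_reg` = (D1) step 2
-/

set_option autoImplicit false

namespace Cfsg.Agent.Lib.Helper96.BG1310

open Cfsg Cfsg.Agent.Lib.Helper55 Cfsg.Agent.Lib.Helper31.BG134 Cfsg.Agent.Lib.Helper71.BG1310

variable {G : Type*} [Group G] [Finite G]

theorem NR.sub_tau1_of_reg {M E E₁ E₃ : Subgroup G} (c : NR M E E₁ E₃) (hreg : CP M E₁ = ⊥)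
    {S₀ H : Subgroup G} (hS₀ : S₀ ≤ E₃) (hS₀c : (Nat.card S₀).Prime)
    (hH : IsCoatom H) (hNH : Subgroup.normalizer (S₀ : Set G) ≤ H) :
    ∀ u : ℕ, u.Prime → u ∣ Nat.card E₁ → u ∈ tau1 H := by
  have hs3 : Nat.card S₀ ∈ tau3 M := c.hE₃.2.1 _ hS₀c (Subgroup.card_dvd_of_le hS₀)
  have hS₀1 : S₀ ≠ ⊥ := by
    intro h
    rw [h, Subgroup.card_bot] at hS₀c
    exact Nat.not_prime_one hS₀c
  obtain ⟨-, hnc, hMH⟩ := Cfsg.Agent.Lib.Helper32.BG1310.local_facts c.hG c.hM hH (Or.inr hs3)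
    (hS₀.trans (c.hE₃.1.trans c.hE.1)) rfl hNH
  have hB := Cfsg.Agent.Lib.Helper90.BG1310.prime_action_tau3 c.hG c.hM c.hE c.hE₃ hS₀ hS₀1
  exact NR.sub_tau1_of_reg_aux c hreg hS₀ hH hNH hnc (hMH.trans hB)

end Cfsg.Agent.Lib.Helper96.BG1310
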