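import Mathlib
import Cfsg.Agent.Lib.Helper02.BG1310Defs
import Cfsg.Agent.Lib.Helper13.BG12B
import Cfsg.Agent.Lib.Helper54.BG134A3a
import Cfsg.Agent.Lib.Helper71.BG10Sub
import Cfsg.Agent.Lib.Helper29.Sup
import Cfsg.Agent.S1350

/-!
# Keystone 143111 (K-LD2-IIa23): type (II), `E₁` centralizes `C₃`, `p ∈ τ₂(H) ∪ τ₃(H)` is impossible
-/

set_option autoImplicit false

namespace Cfsg.Agent.Lib.Helper96.BG1310

open Cfsg Cfsg.Agent.Lib.Helper55 Cfsg.Agent.Lib.Helper31.BG134 Cfsg.Agent.Lib.Helper15.BG139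
  Cfsg.Agent.Lib.Helper02.BG1310

variable {G : Type*} [Group G] [Finite G]

theorem typeII_fixes_tau23_false (hTX : HTX G) (hP4 : HP4 G) (hC : HC G) (hS : HNRS G)
    (h28 : H1428 G) {M E E₁ E₃ S₀ H : Subgroup G}
    (d : NRS M E E₁ E₃) (hII : TypeII M E₁ E₃)
    (hc : CP M E₃ ≤ Subgroup.centralizer (E₁ : Set G))
    (hS₀ : S₀ ≤ E₃) (hS₀c : (Nat.card S₀).Prime) (hH : IsCoatom H)
    (hNH : Subgroup.normalizer (S₀ : Set G) ≤ H)
    (hp23 : Nat.card E₁ ∈ tau2 H ∨ Nat.card E₁ ∈ tau3 H) : False := by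
  classical
  have hG := d.nr.hG
  have hM := d.nr.hM
  obtain ⟨hEH, hnc, hMH⟩ := d.hH S₀ H hS₀ hS₀c hH hNH
  have hpp : (Nat.card E₁).Prime := hII.1
  have hpσ : Nat.card E₁ ∉ sigma H := by
    rcases hp23 with h | h
    · exact h.2.1
    · exact h.2.1
  have hS₀1 : S₀ ≠ ⊥ := by
    intro h
    rw [h, Subgroup.card_bot] at hS₀c
    exact Nat.not_prime_one hS₀c
  have hE₁1 : E₁ ≠ ⊥ := by
    intro h
    rw [h, Subgroup.card_bot] at hpp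
    exact Nat.not_prime_one hpp
  have hs3 : Nat.card S₀ ∈ tau3 M := d.nr.hE₃.2.1 _ hS₀c (Subgroup.card_dvd_of_le hS₀)
  have hCS : CP M S₀ = CP M E₃ := d.hC₃ S₀ hS₀ hS₀1
  have hC₃1 : CP M E₃ ≠ ⊥ := by
    obtain ⟨S', hS'le, hS'c, hS'ne⟩ := d.nr.hnr
    have hS'1 : S' ≠ ⊥ := by
      intro h
      rw [h, Subgroup.card_bot] at hS'c
      exact Nat.not_prime_one hS'c
    rw [← d.hC₃ S' hS'le hS'1]
    exact hS'ne
  have hS₀M : S₀ ≤ M := hS₀.trans (d.nr.hE₃.1.trans d.nr.hE.1)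
  have hS₀H : S₀ ≤ H := Subgroup.le_normalizer.trans hNH
  have hsσ : Nat.card S₀ ∈ sigma H :=
    hTX M H S₀ _ hM hH (Or.inr hs3) hS₀M rfl (by rw [hCS]; exact hC₃1) hNH
  have hHallH := (Cfsg.Agent.S1350.result hG H hH).1
  have hnH : H ≤ Subgroup.normalizer (sigmaCore H : Set G) :=
    Cfsg.Agent.Lib.Helper31.le_normalizer_piCoreOf (sigma H) H
  have hS₀σ : S₀ ≤ sigmaCore H := by
    apply Cfsg.Agent.Lib.Helper71.BG10.le_of_isPiHallOf_normal hHallH hnH hS₀H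
    intro q hq hqd
    have : q = Nat.card S₀ := (Nat.prime_dvd_prime_iff_eq hq hS₀c).mp hqd
    rw [this]; exact hsσ
  have hS₀P : ¬ S₀ ≤ Subgroup.centralizer (E₁ : Set G) := by
    intro h
    apply hS₀1
    have : S₀ ≤ E₃ ⊓ Subgroup.centralizer (E₁ : Set G) := le_inf hS₀ h
    rw [hII.2.1] at this
    exact le_bot_iff.mp this
  -- a subgroup `Y₀ ≤ C₃` of prime order
  obtain ⟨y, hy, hyd⟩ := Nat.exists_prime_and_dvd
    (fun h => hC₃1 (Subgroup.card_eq_one.mp h) : Nat.card ↥(CP M E₃) ≠ 1)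
  have : Fact y.Prime := ⟨hy⟩
  obtain ⟨x, hx⟩ := exists_prime_orderOf_dvd_card' (G := ↥(CP M E₃)) y hyd
  have hxy : orderOf (x : G) = y := by rw [Subgroup.orderOf_coe]; exact hx
  have hY₀C : Subgroup.zpowers (x : G) ≤ CP M E₃ := Subgroup.zpowers_le.mpr x.2
  have hY₀c : Nat.card (Subgroup.zpowers (x : G)) = y := by rw [Nat.card_zpowers, hxy]
  generalize Subgroup.zpowers (x : G) = Y₀ at hY₀C hY₀c
  have hY₀1 : Y₀ ≠ ⊥ := by
    intro h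
    rw [h, Subgroup.card_bot] at hY₀c
    exact hy.ne_one hY₀c.symm
  have hY₀p : (Nat.card Y₀).Prime := by rw [hY₀c]; exact hy
  have hy13 : Nat.card Y₀ ∈ tau1 H ∨ Nat.card Y₀ ∈ tau3 H :=
    hP4 M H S₀ Y₀ _ hM hH (Or.inr hs3) hS₀M rfl hNH (by rw [hCS]; exact hY₀C) hY₀p
  have hyσ : Nat.card Y₀ ∉ sigma H := by
    rcases hy13 with h | h
    · exact h.2.1
    · exact h.2.1
  have hY₀H : Y₀ ≤ H := by
    have : Y₀ ≤ sigmaCore M ⊓ H := by rw [hMH]; exact hY₀C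
    exact this.trans inf_le_right
  have hE₁H : E₁ ≤ H := d.nr.hE₁.1.trans hEH
  -- `Y₀` and `E₁` commute
  have hY₀E₁ : Y₀ ≤ Subgroup.centralizer (E₁ : Set G) := hY₀C.trans hc
  have hE₁Y₀ : E₁ ≤ Subgroup.centralizer (Y₀ : Set G) := by
    intro e he
    rw [Subgroup.mem_centralizer_iff]
    intro z hz
    exact ((Subgroup.mem_centralizer_iff.mp (hY₀E₁ hz)) e he).symm
  -- `S₀ ≤ C_{Hσ}(Y₀)`
  have hS₀Y₀ : S₀ ≤ CP H Y₀ := by
    refine le_inf hS₀σ ?_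
    intro z hz
    rw [Subgroup.mem_centralizer_iff]
    intro w hw
    have hw' : w ∈ Subgroup.centralizer (E₃ : Set G) := (Subgroup.mem_inf.mp (hY₀C hw)).2
    exact ((Subgroup.mem_centralizer_iff.mp hw') z (hS₀ hz)).symm
  have hCPY₀ : CP H Y₀ ≠ ⊥ := fun h => hS₀1 (le_bot_iff.mp (h ▸ hS₀Y₀))
  -- a complement `EH ≥ Y₀ ⊔ E₁`
  have hsupH : Y₀ ⊔ E₁ ≤ H := sup_le hY₀H hE₁H
  have hsupπ : ∀ q : ℕ, q.Prime → q ∣ Nat.card ↥(Y₀ ⊔ E₁) → q ∉ sigma H := by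
    intro q hq hqd
    have h1 : Nat.card ↥(Y₀ ⊔ E₁) ∣ Nat.card Y₀ * Nat.card E₁ :=
      Cfsg.Agent.Lib.Helper29.card_sup_dvd_of_le_normalizer Y₀ E₁
        (hE₁Y₀.trans (Subgroup.centralizer_le_normalizer _))
    rcases (Nat.Prime.dvd_mul hq).mp (hqd.trans h1) with h | h
    · rw [(Nat.prime_dvd_prime_iff_eq hq hY₀p).mp h]; exact hyσ
    · rw [(Nat.prime_dvd_prime_iff_eq hq hpp).mp h]; exact hpσ
  obtain ⟨EH, hEHc, hsupEH⟩ :=
    Cfsg.Agent.Lib.Helper13.BG12.exists_complIn_ge hG hH hHallH hsupH hsupπ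
  have hY₀EH : Y₀ ≤ EH := le_sup_left.trans hsupEH
  have hE₁EH : E₁ ≤ EH := le_sup_right.trans hsupEH
  rcases hy13 with hy1 | hy3
  · -- `y ∈ τ₁(H)`: 13.4 for `H`
    have h := h28 H hH EH hEHc _ hy1 Y₀ hY₀EH rfl E₁ (le_inf hE₁EH hE₁Y₀) hpp
    exact hS₀P ((hS₀Y₀.trans h).trans inf_le_right)
  · -- `y ∈ τ₃(H)`: `H` is nonregular
    have hEHtop : EH ≠ ⊤ := fun h => hH.1 (top_le_iff.mp (h ▸ hEHc.1))
    have hsolv : Group.IsSolvable ↥EH := Cfsg.Agent.Lib.Helper55.ms_solvable hG hEHtop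
    obtain ⟨F₃, hF₃, hY₀F₃⟩ := Cfsg.Agent.Lib.Helper54.BG134.exists_isPiHallOf_ge hsolv (tau3 H)
      hY₀EH (by
        intro q hq hqd
        rw [(Nat.prime_dvd_prime_iff_eq hq hY₀p).mp hqd]; exact hy3)
    obtain ⟨F₁, hF₁, -⟩ := Cfsg.Agent.Lib.Helper54.BG134.exists_isPiHallOf_ge hsolv (tau1 H)
      (K := (⊥ : Subgroup G)) bot_le (by
        intro q hq hqd
        rw [Subgroup.card_bot] at hqd
        exact absurd (Nat.dvd_one.mp hqd) hq.ne_one)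
    have nrH : NR H EH F₁ F₃ := ⟨hG, hH, hEHc, hF₁, hF₃, Y₀, hY₀F₃, hY₀p, hCPY₀⟩
    have dH : NRS H EH F₁ F₃ := hS H EH F₁ F₃ nrH
    rcases hp23 with hp2 | hp3
    · exact dH.hτ2 _ hp2
    · have hE₁F₃ : E₁ ≤ F₃ := by
        apply Cfsg.Agent.Lib.Helper71.BG10.le_of_isPiHallOf_normal hF₃ dH.hE₃n hE₁EH
        intro q hq hqd
        rw [(Nat.prime_dvd_prime_iff_eq hq hpp).mp hqd]; exact hp3
      have h1 : CP H Y₀ = CP H F₃ := dH.hC₃ Y₀ hY₀F₃ hY₀1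
      have h2 : CP H E₁ = CP H F₃ := dH.hC₃ E₁ hE₁F₃ hE₁1
      have h3 : S₀ ≤ CP H E₁ := by rw [h2, ← h1]; exact hS₀Y₀
      exact hS₀P (h3.trans inf_le_right)

end Cfsg.Agent.Lib.Helper96.BG1310
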