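import Mathlib
import Cfsg.Agent.Lib.Helper15.BG1379Defs
import Cfsg.Agent.Lib.Helper68.BG144G2

/-!
# K-1379 LEAF V8 (keystone 137908, architect helper15, S1379), parallel hand: `mem_kappa_cj`

`κ(cj h M) ⊆ κ(M)`: transport of the definition of `kappa` along the isomorphism `M ≃* cj h M`.
-/

set_option autoImplicit false

namespace Cfsg.Agent.Lib.Helper96.BG1379

open Cfsg Subgroup Cfsg.Agent.Lib.Helper11.BG14D Cfsg.Agent.Lib.Helper11.BG144
  Cfsg.Agent.Lib.Helper15.BG1379

variable {G : Type*} [Group G] [Finite G]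

/-- LEAF V8 (137908) -/
theorem mem_kappa_cj (hG : IsMinSimpleOddOrder G) {M : Subgroup G} (hM : IsCoatom M) (h : G) {q : ℕ}
    (hq : q ∈ kappa (M.map (MulAut.conj h).toMonoidHom)) : q ∈ kappa M := by
  obtain ⟨hqp, hqd, hqσ, hS⟩ := hq
  have : Fact q.Prime := ⟨hqp⟩
  let e : ↥M ≃* ↥(M.map (MulAut.conj h).toMonoidHom) :=
    Subgroup.equivMapOfInjective M (MulAut.conj h).toMonoidHom (MulAut.conj h).injective
  have he : ∀ x : M, ((e x : ↥(M.map (MulAut.conj h).toMonoidHom)) : G) = h * x * h⁻¹ :=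
    fun x => rfl
  have hσ : sigmaCore (M.map (MulAut.conj h).toMonoidHom) =
      (sigmaCore M).map (MulAut.conj h).toMonoidHom :=
    Cfsg.Agent.Lib.Helper68.BG144.sigmaCore_cj hG hM h
  refine ⟨hqp, ?_, ?_, ?_⟩
  · rwa [Nat.card_congr e.toEquiv]
  · intro hc
    exact hqσ ((Cfsg.Agent.Lib.Helper01.BG134.mem_sigma_cj_iff h).2 hc)
  · intro P
    obtain ⟨hcyc, x', hx', hx'1, y', hy', hy'1, hcomm⟩ :=
      hS (P.mapSurjective (f := e.toMonoidHom) e.surjective)
    change x' ∈ (P : Subgroup ↥M).map e.toMonoidHom at hx'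
    obtain ⟨x, hxP, rfl⟩ := hx'
    constructor
    · -- `P` embeds in its image
      let φ : ↥(P : Subgroup ↥M) →* ↥((P : Subgroup ↥M).map e.toMonoidHom) :=
        (e.toMonoidHom.comp (P : Subgroup ↥M).subtype).codRestrict _
          (fun z => Subgroup.mem_map_of_mem _ z.2)
      have hφ : Function.Injective φ := by
        intro a b hab
        have h1 : e (a : ↥M) = e (b : ↥M) := congrArg Subtype.val hab
        exact Subtype.ext (e.injective h1)
      have : IsCyclic ↥((P : Subgroup ↥M).map e.toMonoidHom) := hcyc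
      exact isCyclic_of_injective φ hφ
    · refine ⟨x, hxP, ?_, ?_⟩
      · intro hx1
        apply hx'1
        rw [hx1]
        exact map_one _
      · rw [hσ] at hy'
        obtain ⟨y, hy, rfl⟩ := hy'
        refine ⟨y, hy, ?_, ?_⟩
        · intro hy1
          apply hy'1
          rw [hy1]
          exact map_one _
        · have h1 : h * (x : G) * h⁻¹ * (h * y * h⁻¹) = h * y * h⁻¹ * (h * (x : G) * h⁻¹) := hcomm
          have h2 : h * ((x : G) * y) * h⁻¹ = h * (y * (x : G)) * h⁻¹ := by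
            calc h * ((x : G) * y) * h⁻¹ = h * (x : G) * h⁻¹ * (h * y * h⁻¹) := by group
              _ = h * y * h⁻¹ * (h * (x : G) * h⁻¹) := h1
              _ = h * (y * (x : G)) * h⁻¹ := by group
          exact mul_left_cancel (mul_right_cancel h2)

end Cfsg.Agent.Lib.Helper96.BG1379
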