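import Mathlib

/-!
# Chevalley–Warning for quadratic maps between elementary abelian 2-groups

Discrete-derivative calculus for `ZMod 2`-valued functions on additive groups of exponent 2,
giving: a "quadratic" map `q : A → M` between finite elementary abelian 2-groups with
`|M|^2 < |A|` has an even number of zeros, hence a nontrivial zero.
-/

set_option autoImplicit false

namespace Cfsg.Agent.Lib.Helper96.CW2

section calculus

variable {A : Type*} [AddCommGroup A]

/-- discrete derivative in direction `a` -/
def der (a : A) (f : A → ZMod 2) : A → ZMod 2 := fun x => f (x + a) + f x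

/-- `Deg d f`: all `d`-fold discrete derivatives of `f` vanish ("degree `< d`"). -/
def Deg : ℕ → (A → ZMod 2) → Prop
  | 0, f => f = 0
  | d + 1, f => ∀ a, Deg d (der a f)

@[simp] lemma der_zero (a : A) : der a (0 : A → ZMod 2) = 0 := by
  funext x; simp [der]

lemma der_add (a : A) (f g : A → ZMod 2) : der a (f + g) = der a f + der a g := by
  funext x; simp only [der, Pi.add_apply]; ring

lemma deg_zero_fun : ∀ d : ℕ, Deg d (0 : A → ZMod 2)
  | 0 => rfl
  | d + 1 => fun a => by rw [der_zero]; exact deg_zero_fun d

lemma deg_succ : ∀ (d : ℕ) (f : A → ZMod 2), Deg d f → Deg (d + 1) f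
  | 0, f, h => by
      intro a
      have : f = 0 := h
      subst this
      rw [der_zero]; rfl
  | d + 1, f, h => fun a => deg_succ d (der a f) (h a)

lemma deg_mono {d e : ℕ} (hde : d ≤ e) {f : A → ZMod 2} (h : Deg d f) : Deg e f := by
  induction hde with
  | refl => exact h
  | step _ ih => exact deg_succ _ _ ih

lemma deg_add : ∀ (d : ℕ) (f g : A → ZMod 2), Deg d f → Deg d g → Deg d (f + g)
  | 0, f, g, hf, hg => by
      have hf' : f = 0 := hf
      have hg' : g = 0 := hg
      subst hf' hg'
      show (0 + 0 : A → ZMod 2) = 0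
      simp
  | d + 1, f, g, hf, hg => fun a => by
      rw [der_add]; exact deg_add d _ _ (hf a) (hg a)

lemma deg_const (c : ZMod 2) : Deg 1 (fun _ : A => c) := by
  intro a
  show der a (fun _ : A => c) = 0
  funext x
  simp only [der, Pi.zero_apply]
  exact CharTwo.add_self_eq_zero c

/-- composition with an additive homomorphism -/
lemma deg_comp_hom {B : Type*} [AddCommGroup B] (ι : B →+ A) :
    ∀ (d : ℕ) (f : A → ZMod 2), Deg d f → Deg d (f ∘ ι)
  | 0, f, h => by
      have : f = 0 := h
      subst this
      rfl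
  | d + 1, f, h => fun b => by
      have : der b (f ∘ ι) = (der (ι b) f) ∘ ι := by
        funext y; simp [der, map_add]
      rw [this]
      exact deg_comp_hom ι d _ (h (ι b))

lemma deg_translate (b : A) : ∀ (d : ℕ) (f : A → ZMod 2), Deg d f → Deg d (fun x => f (x + b))
  | 0, f, h => by
      have : f = 0 := h
      subst this
      rfl
  | d + 1, f, h => fun a => by
      have : der a (fun x => f (x + b)) = fun x => (der a f) (x + b) := by
        funext y; simp only [der]; rw [add_right_comm]
      rw [this]
      exact deg_translate b d _ (h a)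

lemma der_mul (a : A) (f g : A → ZMod 2) :
    der a (f * g) = der a f * (fun x => g (x + a)) + f * der a g := by
  funext x
  simp only [der, Pi.mul_apply, Pi.add_apply]
  have h2 : ∀ z : ZMod 2, z + z = 0 := CharTwo.add_self_eq_zero
  have : (f (x + a) + f x) * g (x + a) + f x * (g (x + a) + g x)
      = f (x + a) * g (x + a) + f x * g x + (f x * g (x + a) + f x * g (x + a)) := by
    ring
  rw [this, h2, add_zero]

lemma deg_mul_aux : ∀ (n d e : ℕ), d + e = n → ∀ f g : A → ZMod 2,
    Deg (d + 1) f → Deg (e + 1) g → Deg (d + e + 1) (f * g) := by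
  intro n
  induction n using Nat.strong_induction_on with
  | _ n ih =>
    intro d e hde f g hf hg a
    rw [der_mul]
    apply deg_add
    · -- der a f * translate g
      rcases d with _ | d'
      · have h0 : der a f = 0 := hf a
        rw [h0, zero_mul]
        exact deg_zero_fun _
      · have := ih (d' + e) (by omega) d' e rfl (der a f) (fun x => g (x + a)) (hf a)
          (deg_translate a _ _ hg)
        have h2 : d' + 1 + e = d' + e + 1 := by omega
        rw [h2]; exact this
    · rcases e with _ | e'
      · have h0 : der a g = 0 := hg a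
        rw [h0, mul_zero]
        exact deg_zero_fun _
      · have := ih (d + e') (by omega) d e' rfl f (der a g) hf (hg a)
        have h2 : d + (e' + 1) = d + e' + 1 := by omega
        rw [h2]; exact this

lemma deg_mul {d e : ℕ} {f g : A → ZMod 2} (hf : Deg (d + 1) f) (hg : Deg (e + 1) g) :
    Deg (d + e + 1) (f * g) :=
  deg_mul_aux (d + e) d e rfl f g hf hg

lemma deg_prod {ι : Type*} (c : ℕ) (s : Finset ι) (F : ι → A → ZMod 2)
    (hF : ∀ i ∈ s, Deg (c + 1) (F i)) : Deg (c * s.card + 1) (∏ i ∈ s, F i) := by
  classical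
  induction s using Finset.induction_on with
  | empty =>
    simp only [Finset.prod_empty, Finset.card_empty, mul_zero, zero_add]
    exact deg_const (1 : ZMod 2)
  | insert i s hi ih =>
    rw [Finset.prod_insert hi, Finset.card_insert_of_notMem hi]
    have h1 := hF i (Finset.mem_insert_self i s)
    have h2 := ih (fun j hj => hF j (Finset.mem_insert_of_mem hj))
    have := deg_mul h1 h2
    have e : c * (s.card + 1) + 1 = c + c * s.card + 1 := by ring
    rw [e]; exact this

end calculus


section summation

/-- embedding of `Fin n → ZMod 2` into `Fin (n+1) → ZMod 2` with first coordinate `0` -/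
def consHom (n : ℕ) : (Fin n → ZMod 2) →+ (Fin (n + 1) → ZMod 2) where
  toFun y := Fin.cons 0 y
  map_zero' := by
    funext i
    refine Fin.cases ?_ (fun j => ?_) i <;> simp
  map_add' y y' := by
    funext i
    refine Fin.cases ?_ (fun j => ?_) i <;> simp

lemma cons_one_eq (n : ℕ) (y : Fin n → ZMod 2) :
    (Fin.cons 1 y : Fin (n + 1) → ZMod 2) = consHom n y + Fin.cons 1 0 := by
  funext i
  refine Fin.cases ?_ (fun j => ?_) i <;> simp [consHom]

lemma sum_eq_zero_pi : ∀ (n d : ℕ) (f : (Fin n → ZMod 2) → ZMod 2), Deg d f → d ≤ n →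
    ∑ x, f x = 0
  | 0, d, f, hf, hd => by
      have hd0 : d = 0 := by omega
      subst hd0
      have : f = 0 := hf
      subst this
      simp
  | n + 1, 0, f, hf, _ => by
      have : f = 0 := hf
      subst this
      simp
  | n + 1, d + 1, f, hf, hd => by
      have e := (Fin.consEquiv (fun _ : Fin (n + 1) => ZMod 2))
      have h1 : ∑ x, f x = ∑ p : ZMod 2 × (Fin n → ZMod 2), f (Fin.cons p.1 p.2) := by
        symm
        exact Fintype.sum_equiv (Fin.consEquiv (fun _ : Fin (n + 1) => ZMod 2)) _ _ (fun p => rfl)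
      rw [h1, Fintype.sum_prod_type]
      have h2 : ∀ g : ZMod 2 → ZMod 2, ∑ a : ZMod 2, g a = g 0 + g 1 := by
        intro g
        exact Fin.sum_univ_two g
      rw [h2, ← Finset.sum_add_distrib]
      have h3 : ∀ y : Fin n → ZMod 2,
          f (Fin.cons 0 y) + f (Fin.cons 1 y) = ((der (Fin.cons 1 0) f) ∘ consHom n) y := by
        intro y
        simp only [Function.comp, der]
        rw [cons_one_eq, add_comm]
        rfl
      simp only [h3]
      exact sum_eq_zero_pi n d _ (deg_comp_hom (consHom n) d _ (hf _)) (by omega)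

end summation

section transport

/-- a finite additive group of exponent 2 is `(ZMod 2)^n` -/
lemma exists_addEquiv_pi (A : Type*) [AddCommGroup A] [Finite A] (hA : ∀ a : A, a + a = 0) :
    ∃ n : ℕ, Nonempty (A ≃+ (Fin n → ZMod 2)) := by
  classical
  let _ : Module (ZMod 2) A := AddCommGroup.zmodModule (n := 2) (fun x => by rw [two_nsmul]; exact hA x)
  have : Module.Finite (ZMod 2) A := Module.Finite.of_finite
  let b := Module.finBasis (ZMod 2) A
  exact ⟨_, ⟨b.equivFun.toAddEquiv⟩⟩

lemma card_of_addEquiv_pi {A : Type*} [AddCommGroup A] {n : ℕ} (e : A ≃+ (Fin n → ZMod 2)) :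
    Nat.card A = 2 ^ n := by
  rw [Nat.card_congr e.toEquiv, Nat.card_eq_fintype_card, Fintype.card_fun, ZMod.card,
    Fintype.card_fin]

lemma sum_eq_zero_of_deg {A : Type*} [AddCommGroup A] [Fintype A] {n : ℕ}
    (e : A ≃+ (Fin n → ZMod 2)) {d : ℕ} (f : A → ZMod 2) (hf : Deg d f) (hd : d ≤ n) :
    ∑ x, f x = 0 := by
  have h := sum_eq_zero_pi n d (f ∘ e.symm.toAddMonoidHom) (deg_comp_hom _ d f hf) hd
  rw [← h]
  exact Fintype.sum_equiv e.toEquiv _ _ (fun x => by simp)

end transport

section main

variable {A M : Type*} [AddCommGroup A] [AddCommGroup M]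

/-- third differences of a coordinate of a quadratic map vanish -/
lemma deg_three_of_quadratic (q : A → M)
    (hq : ∀ x y z : A, q (x + y + z) + q (x + y) + q z
      = (q (x + z) + q x + q z) + (q (y + z) + q y + q z))
    (l : M →+ ZMod 2) : Deg 3 (fun x => l (q x)) := by
  intro a b c
  show der c (der b (der a fun x => l (q x))) = 0
  funext x
  simp only [der, Pi.zero_apply]
  have h2 : (2 : ZMod 2) = 0 := by decide
  have E1 := congrArg l (hq (x + a) b c)
  have E2 := congrArg l (hq x b c)
  simp only [map_add] at E1 E2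
  have r1 : x + c + b + a = x + a + b + c := by abel
  have r2 : x + c + b = x + b + c := by abel
  have r3 : x + c + a = x + a + c := by abel
  have r4 : x + b + a = x + a + b := by abel
  rw [r1, r2, r3, r4]
  linear_combination E1 + E2 + (l (q (x + a + c)) + l (q (x + a)) + l (q (x + c)) + l (q x)
    + l (q (b + c)) + l (q b) + l (q c)) * h2

variable [Finite A] [Finite M]

/-- **Chevalley–Warning for quadratic maps over `𝔽₂`**: the number of zeros is even. -/
theorem two_dvd_card_zeros (hA : ∀ a : A, a + a = 0) (hM : ∀ y : M, y + y = 0) (q : A → M)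
    (hq : ∀ x y z : A, q (x + y + z) + q (x + y) + q z
      = (q (x + z) + q x + q z) + (q (y + z) + q y + q z))
    (hcard : Nat.card M ^ 2 < Nat.card A) : 2 ∣ Nat.card {x : A // q x = 0} := by
  classical
  obtain ⟨n, ⟨eA⟩⟩ := exists_addEquiv_pi A hA
  obtain ⟨m, ⟨eM⟩⟩ := exists_addEquiv_pi M hM
  have cA := card_of_addEquiv_pi eA
  have cM := card_of_addEquiv_pi eM
  rw [cA, cM, ← pow_mul] at hcard
  have hmn : m * 2 < n := (Nat.pow_lt_pow_iff_right (by norm_num)).1 hcard
  have : Fintype A := Fintype.ofFinite A
  let l : Fin m → (M →+ ZMod 2) := fun i => (Pi.evalAddMonoidHom (fun _ : Fin m => ZMod 2) i).comp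
    eM.toAddMonoidHom
  have hl : ∀ y : M, y = 0 ↔ ∀ i, l i y = 0 := by
    intro y
    constructor
    · rintro rfl i; simp
    · intro h
      have : eM y = 0 := by
        funext i
        exact h i
      simpa using this
  let ind : A → ZMod 2 := ∏ i : Fin m, (fun x => 1 + l i (q x))
  have hdeg : Deg (2 * m + 1) ind := by
    have := deg_prod (A := A) 2 (Finset.univ : Finset (Fin m)) (fun i x => 1 + l i (q x)) (by
      intro i _
      have h1 : Deg 3 (fun _ : A => (1 : ZMod 2)) := deg_mono (by norm_num) (deg_const 1)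
      exact deg_add 3 _ _ h1 (deg_three_of_quadratic q hq (l i)))
    simpa using this
  have hsum : ∑ x, ind x = 0 := sum_eq_zero_of_deg eA ind hdeg (by omega)
  have hind : ∀ x, ind x = if q x = 0 then 1 else 0 := by
    intro x
    simp only [ind, Finset.prod_apply]
    split_ifs with h
    · apply Finset.prod_eq_one
      intro i _
      rw [h]; simp
    · have : ¬ ∀ i, l i (q x) = 0 := fun h' => h ((hl _).2 h')
      push Not at this
      obtain ⟨i, hi⟩ := this
      apply Finset.prod_eq_zero (Finset.mem_univ i)
      have h01 : ∀ z : ZMod 2, z ≠ 0 → 1 + z = 0 := by decide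
      exact h01 _ hi
  simp only [hind] at hsum
  rw [Finset.sum_boole] at hsum
  rw [Nat.card_eq_fintype_card, Fintype.card_subtype]
  exact (ZMod.natCast_eq_zero_iff _ 2).1 hsum

omit [Finite A] [Finite M] in
lemma quadratic_map_zero (hM : ∀ y : M, y + y = 0) (q : A → M)
    (hq : ∀ x y z : A, q (x + y + z) + q (x + y) + q z
      = (q (x + z) + q x + q z) + (q (y + z) + q y + q z)) : q 0 = 0 := by
  have h := hq 0 0 0
  simp only [add_zero] at h
  have h2 := hM (q 0)
  -- h : q0 + q0 + q0 = (q0+q0+q0) + (q0+q0+q0)
  rw [h2, zero_add] at h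
  rw [h2] at h
  exact h

/-- nontrivial zero of a quadratic map `A → M` when `|M|^2 < |A|`. -/
theorem exists_ne_zero_of_card_lt (hA : ∀ a : A, a + a = 0) (hM : ∀ y : M, y + y = 0) (q : A → M)
    (hq : ∀ x y z : A, q (x + y + z) + q (x + y) + q z
      = (q (x + z) + q x + q z) + (q (y + z) + q y + q z))
    (hcard : Nat.card M ^ 2 < Nat.card A) : ∃ a : A, a ≠ 0 ∧ q a = 0 := by
  classical
  have hdvd := two_dvd_card_zeros hA hM q hq hcard
  have h0 := quadratic_map_zero hM q hq
  by_contra hcon
  push Not at hcon
  have : Nat.card {x : A // q x = 0} = 1 := by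
    rw [Nat.card_eq_one_iff_unique]
    refine ⟨⟨?_⟩, ⟨⟨0, h0⟩⟩⟩
    rintro ⟨a, ha⟩ ⟨b, hb⟩
    have ha0 : a = 0 := by
      by_contra h; exact hcon a h ha
    have hb0 : b = 0 := by
      by_contra h; exact hcon b h hb
    subst ha0 hb0
    rfl
  rw [this] at hdvd
  omega

end main

section multiplicative

/-- commutativity of a group of exponent 2 -/
lemma mul_comm_of_sq {A : Type*} [Group A] (hA : ∀ a : A, a * a = 1) (a b : A) : a * b = b * a := by
  have hinv : ∀ x : A, x⁻¹ = x := fun x => inv_eq_of_mul_eq_one_left (hA x)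
  calc a * b = (a * b)⁻¹ := (hinv _).symm
    _ = b⁻¹ * a⁻¹ := mul_inv_rev a b
    _ = b * a := by rw [hinv, hinv]

/-- multiplicative form of `two_dvd_card_zeros` -/
theorem two_dvd_card_zeros_mul {A M : Type*} [Group A] [Group M] [Finite A] [Finite M]
    (hA : ∀ a : A, a * a = 1) (hM : ∀ y : M, y * y = 1) (q : A → M)
    (hq : ∀ x y z : A, q (x * y * z) * q (x * y) * q z
      = (q (x * z) * q x * q z) * (q (y * z) * q y * q z))
    (hcard : Nat.card M ^ 2 < Nat.card A) : 2 ∣ Nat.card {x : A // q x = 1} := by
  let _ : CommGroup A := { (inferInstance : Group A) with mul_comm := mul_comm_of_sq hA }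
  let _ : CommGroup M := { (inferInstance : Group M) with mul_comm := mul_comm_of_sq hM }
  exact two_dvd_card_zeros (A := Additive A) (M := Additive M) (fun a => hA a.toMul)
    (fun y => hM y.toMul) (fun a => Additive.ofMul (q a.toMul)) (fun x y z => hq x.toMul y.toMul z.toMul)
    hcard

/-- multiplicative form of `exists_ne_zero_of_card_lt` -/
theorem exists_ne_one_of_card_lt {A M : Type*} [Group A] [Group M] [Finite A] [Finite M]
    (hA : ∀ a : A, a * a = 1) (hM : ∀ y : M, y * y = 1) (q : A → M)
    (hq : ∀ x y z : A, q (x * y * z) * q (x * y) * q z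
      = (q (x * z) * q x * q z) * (q (y * z) * q y * q z))
    (hcard : Nat.card M ^ 2 < Nat.card A) : ∃ a : A, a ≠ 1 ∧ q a = 1 := by
  let _ : CommGroup A := { (inferInstance : Group A) with mul_comm := mul_comm_of_sq hA }
  let _ : CommGroup M := { (inferInstance : Group M) with mul_comm := mul_comm_of_sq hM }
  obtain ⟨a, ha, hqa⟩ := exists_ne_zero_of_card_lt (A := Additive A) (M := Additive M)
    (fun a => hA a.toMul) (fun y => hM y.toMul) (fun a => Additive.ofMul (q a.toMul))
    (fun x y z => hq x.toMul y.toMul z.toMul) hcard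
  exact ⟨a.toMul, ha, hqa⟩

end multiplicative

end Cfsg.Agent.Lib.Helper96.CW2
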