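import Mathlib
import Cfsg.Agent.Lib.Helper96.FC91Defs

/-!
# S4291: small common lemmas
-/

set_option autoImplicit false

namespace Cfsg.Agent.Lib.Helper96.FC91

universe u

theorem oneInv_subgroup {K : Type u} [Group K] (hinv : OneInv K) (T : Subgroup K) : OneInv T := by
  intro s t hs ht
  apply Subtype.ext
  apply hinv
  · rw [Subgroup.orderOf_coe, hs]
  · rw [Subgroup.orderOf_coe, ht]

theorem ker_equiv_comp {G : Type u} [Group G] {Q Q' : Type*} [Group Q] [Group Q'] (f : G →* Q)
    (e : Q ≃* Q') : (e.toMonoidHom.comp f).ker = f.ker := by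
  ext x
  simp only [MonoidHom.mem_ker, MonoidHom.comp_apply, MulEquiv.coe_toMonoidHom,
    MulEquiv.map_eq_one_iff]

end Cfsg.Agent.Lib.Helper96.FC91
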