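import Mathlib
import Cfsg.Prelude.Def_Solvable
import Cfsg.Agent.Lib.Helper96.FC91Defs
import Cfsg.Agent.Lib.Helper01.FrobPackage
import Cfsg.Agent.Lib.Helper01.FrobComplNilp
import Cfsg.Agent.S0035
import Cfsg.Agent.S0068

/-!
# S4291, K-FACTS: a Frobenius complement has cyclic odd Sylow subgroups and at most one involution
-/

set_option autoImplicit false

namespace Cfsg.Agent.Lib.Helper96.FC91

open Cfsg

universe u

/-- K-FACTS. -/
theorem facts_of_frobeniusComplement {G : Type u} [Group G] [Finite G]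
    (hFC : ∃ (L : Type) (_ : Group L) (_ : Finite L) (H : Subgroup L),
      Cfsg.IsFrobeniusComplement H ∧ Nonempty (G ≃* H)) : OddCyc G ∧ OneInv G := by
  obtain ⟨L, instG, instF, H, hH, ⟨e⟩⟩ := hFC
  obtain ⟨Kn, hKn, -, -⟩ := Cfsg.Agent.S0035.result H hH
  have pkg := Cfsg.Agent.Lib.Helper01.frobPkg_of H Kn hH hKn
  have hKnn : Kn.Normal := pkg.normal
  refine ⟨?_, ?_⟩
  · intro p hp hp2 Q hQ
    have : Fact p.Prime := ⟨hp⟩
    have hQ' : IsPGroup p (Q.map e.toMonoidHom) := hQ.map _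
    obtain ⟨P, hP⟩ := hQ'.exists_le_sylow
    have hPc : IsCyclic P :=
      Cfsg.Agent.Lib.Helper01.sylow_cyclic_of_fpf_of_odd Kn H pkg.compl pkg.N_ne pkg.fpf p hp2 P
    have hQc : IsCyclic (Q.map e.toMonoidHom) := Subgroup.isCyclic_of_le hP
    let e1 := Subgroup.equivMapOfInjective Q e.toMonoidHom e.injective
    exact isCyclic_of_surjective e1.symm e1.symm.surjective
  · intro s t hs ht
    have hs' : orderOf ((e s : H) : L) = 2 := by
      rw [Subgroup.orderOf_coe, MulEquiv.orderOf_eq, hs]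
    have ht' : orderOf ((e t : H) : L) = 2 := by
      rw [Subgroup.orderOf_coe, MulEquiv.orderOf_eq, ht]
    have heven : 2 ∣ Nat.card H := by
      have h1 : orderOf (e s) = 2 := by rw [MulEquiv.orderOf_eq, hs]
      rw [← h1]; exact orderOf_dvd_natCard _
    obtain ⟨⟨s₀, -, -, huniq, -⟩, -⟩ :=
      Cfsg.Agent.S0068.result Kn H pkg.compl pkg.N_ne pkg.fpf heven
    have h1 := huniq _ (e s).2 hs'
    have h2 := huniq _ (e t).2 ht'
    have h3 : (e s : H) = e t := Subtype.ext (h1.trans h2.symm)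
    exact e.injective h3

end Cfsg.Agent.Lib.Helper96.FC91
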