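import Mathlib
import Cfsg.Prelude.Def_Solvable
import Cfsg.Agent.Lib.Helper96.FC91Defs
import Cfsg.Agent.Lib.Helper14.FC91MNorm
import Cfsg.Agent.Lib.Helper30.FC91TwoGen
import Cfsg.Agent.Lib.Helper48.FC91E8
import Cfsg.Agent.Lib.Helper67.FC91S5
import Cfsg.Agent.Lib.Helper96.FC91Basic
import Cfsg.Agent.Lib.Helper01.Basic
import Cfsg.Agent.Lib.Helper01.FCStructA
import Cfsg.Agent.Lib.Helper07.SL2Sylow
import Cfsg.Agent.Lib.Helper07.Order60
import Cfsg.Agent.Lib.Helper62.Small120

/-!
# S4291, K-NONSOLV: existence of the good normal subgroup in the non-solvable case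
-/

set_option autoImplicit false

namespace Cfsg.Agent.Lib.Helper96.FC91

open Cfsg

universe u

theorem card_SL25' : Nat.card (Matrix.SpecialLinearGroup (Fin 2) (ZMod 5)) = 120 := by
  have : Fact (Nat.Prime 5) := ⟨by norm_num⟩
  rw [Cfsg.Agent.Lib.Helper07.card_SL_two', ZMod.card]
  norm_num

theorem isSolvable_of_card_le_two {Q : Type*} [Group Q] [Finite Q] (h : Nat.card Q ≤ 2) :
    Group.IsSolvable Q := by
  have hpos : 0 < Nat.card Q := Nat.card_pos
  have h12 : Nat.card Q = 1 ∨ Nat.card Q = 2 := by omega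
  rcases h12 with h1 | h2
  · have : Subsingleton Q := (Nat.card_eq_one_iff_unique.1 h1).1
    infer_instance
  · have : Fact (Nat.Prime 2) := ⟨Nat.prime_two⟩
    have hc : IsCyclic Q := isCyclic_of_prime_card (p := 2) h2
    exact Group.isSolvable_of_comm (fun a b => hc.isMulCommutative.is_comm.comm a b)

theorem isSolvable_of_normal {X : Type*} [Group X] (A : Subgroup X) [A.Normal]
    [Group.IsSolvable A] [Group.IsSolvable (X ⧸ A)] : Group.IsSolvable X := by
  apply Group.isSolvable_of_ker_le_range A.subtype (QuotientGroup.mk' A)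
  rw [QuotientGroup.ker_mk', Subgroup.range_subtype]

theorem zpowers_normal_of_oneInv {G : Type u} [Group G] (hinv : OneInv G) (z : G)
    (hz : orderOf z = 2) : (Subgroup.zpowers z).Normal := by
  constructor
  intro x hx g
  obtain ⟨k, rfl⟩ := Subgroup.mem_zpowers_iff.1 hx
  have h1 : g * z * g⁻¹ = z := by
    apply hinv _ _ _ hz
    have := (MulAut.conj g).orderOf_eq z
    rw [MulAut.conj_apply] at this
    rw [this, hz]
  rw [← conj_zpow, h1]
  exact Subgroup.zpow_mem_zpowers z k

theorem isCyclic_of_card_le_two {Q : Type*} [Group Q] [Finite Q] (h : Nat.card Q ≤ 2) :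
    IsCyclic Q := by
  have hpos : 0 < Nat.card Q := Nat.card_pos
  have h12 : Nat.card Q = 1 ∨ Nat.card Q = 2 := by omega
  rcases h12 with h1 | h2
  · have : Subsingleton Q := (Nat.card_eq_one_iff_unique.1 h1).1
    exact isCyclic_of_subsingleton
  · have : Fact (Nat.Prime 2) := ⟨Nat.prime_two⟩
    exact isCyclic_of_prime_card (p := 2) h2

/-- K-NONSOLV: existence in the non-solvable case, from the conclusion of S3359. -/
theorem exists_good_of_data {G : Type u} [Group G] [Finite G] (hns : ¬ Group.IsSolvable G)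
    (hodd : OddCyc G) (hinv : OneInv G) (G₀ : Subgroup G) (hG₀ : G₀.Normal)
    (hidx : G₀.index = 1 ∨ G₀.index = 2) (S M : Subgroup G) (hsup : S ⊔ M = G₀)
    (hinf : S ⊓ M = ⊥) (hcomm : ∀ s ∈ S, ∀ x ∈ M, s * x = x * s)
    (hS : Nonempty (S ≃* Matrix.SpecialLinearGroup (Fin 2) (ZMod 5)))
    (hM : (Nat.card M).Coprime 30) : ∃ N : Subgroup G, Good N := by
  obtain ⟨eS⟩ := hS
  have hS120 : Nat.card S = 120 := by rw [Nat.card_congr eS.toEquiv]; exact card_SL25'
  have hMn : M.Normal :=
    Cfsg.Agent.Lib.Helper14.FC91.normal_of_coprime_thirty G₀ S M hG₀ hsup hcomm hS120 hM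
  have : Fact (Nat.Prime 2) := ⟨Nat.prime_two⟩
  obtain ⟨z₀, hz₀⟩ := exists_prime_orderOf_dvd_card' (G := S) 2 (by rw [hS120]; norm_num)
  obtain ⟨z, hzdef⟩ : ∃ z : G, z = (z₀ : G) := ⟨_, rfl⟩
  have hz : orderOf z = 2 := by rw [hzdef, Subgroup.orderOf_coe]; exact hz₀
  have hzS : z ∈ S := hzdef ▸ z₀.2
  obtain ⟨Z, hZdef⟩ : ∃ Z : Subgroup G, Z = Subgroup.zpowers z := ⟨_, rfl⟩
  have hZcard : Nat.card Z = 2 := by rw [hZdef, Nat.card_zpowers, hz]
  have hZn : Z.Normal := hZdef ▸ zpowers_normal_of_oneInv hinv z hz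
  have hZS : Z ≤ S := by rw [hZdef, Subgroup.zpowers_le]; exact hzS
  obtain ⟨N, hNdef⟩ : ∃ N : Subgroup G, N = Z ⊔ M := ⟨_, rfl⟩
  have hNn : N.Normal := hNdef ▸ Subgroup.sup_normal Z M
  have hMcop2 : (Nat.card M).Coprime 2 := Nat.Coprime.coprime_dvd_right (by norm_num) hM
  have hMcop120 : (Nat.card M).Coprime 120 :=
    Nat.Coprime.coprime_dvd_right (by norm_num : 120 ∣ 30 ^ 3) (hM.pow_right 3)
  have hNcard : Nat.card N = Nat.card M * 2 := by
    rw [hNdef, ← hZcard]
    exact Cfsg.Agent.Lib.Helper01.card_sup_of_coprime M Z (by rw [hZcard]; exact hMcop2)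
  have hG₀card : Nat.card G₀ = Nat.card M * 120 := by
    rw [← hsup, ← hS120]
    exact Cfsg.Agent.Lib.Helper01.card_sup_of_coprime M S (by rw [hS120]; exact hMcop120)
  have hNG₀ : N ≤ G₀ := by
    rw [hNdef, ← hsup]
    exact sup_le_sup_right hZS M
  have hMpos : 0 < Nat.card M := Nat.card_pos
  -- Sylow subgroups of N
  have hNsyl : SylCyc N := by
    intro p hp P
    apply Cfsg.Agent.Lib.Helper01.sylow_cyclic_of_subgroups_cyclic N _ p P
    intro q hq Q hQle hQq
    by_cases h2 : q = 2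
    · subst h2
      apply isCyclic_of_card_le_two
      obtain ⟨m, hm⟩ := (IsPGroup.iff_card (p := 2) (G := Q)).1 hQq
      have hdvd : Nat.card Q ∣ Nat.card M * 2 := hNcard ▸ Subgroup.card_dvd_of_le hQle
      have hcop : (Nat.card Q).Coprime (Nat.card M) := by
        rw [hm]; exact Nat.Coprime.pow_left m hMcop2.symm
      have hdvd2 : Nat.card Q ∣ 2 := hcop.dvd_of_dvd_mul_left hdvd
      exact Nat.le_of_dvd (by norm_num) hdvd2
    · exact hodd q hq h2 Q hQq
  have hNZ : IsZGroup N := (sylCyc_iff_isZGroup N).1 hNsyl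
  -- the quotient
  set π := QuotientGroup.mk' N with hπ
  have hπs : Function.Surjective π := QuotientGroup.mk'_surjective N
  have hπk : π.ker = N := QuotientGroup.ker_mk' N
  obtain ⟨A, hAdef⟩ : ∃ A : Subgroup (G ⧸ N), A = G₀.map π := ⟨_, rfl⟩
  have hAn : A.Normal := hAdef ▸ Subgroup.Normal.map hG₀ π hπs
  have hA60 : Nat.card A = 60 := by
    have h1 := Cfsg.Agent.Lib.Helper01.card_map_mul_card_ker_of_le π G₀ (by rw [hπk]; exact hNG₀)
    rw [hπk, hNcard, hG₀card, ← hAdef] at h1
    have h2 : Nat.card A * 2 * Nat.card M = 120 * Nat.card M := by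
      rw [mul_assoc, mul_comm 2, h1, mul_comm]
    have h3 := Nat.eq_of_mul_eq_mul_right hMpos h2
    omega
  have hAidx : A.index = G₀.index := by
    rw [hAdef]; exact Subgroup.index_map_eq G₀ hπs (by rw [hπk]; exact hNG₀)
  have hAns : ¬ Group.IsSolvable A := by
    intro hAs
    apply hns
    have h1 : Group.IsSolvable ((G ⧸ N) ⧸ A) := by
      apply isSolvable_of_card_le_two
      have : Nat.card ((G ⧸ N) ⧸ A) = A.index := rfl
      rw [this, hAidx]
      rcases hidx with h | h <;> omega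
    have h2 : Group.IsSolvable (G ⧸ N) := isSolvable_of_normal A
    exact isSolvable_of_normal N
  have hAsimple : IsSimpleGroup A := Cfsg.Agent.Lib.Helper62.Small120.isSimpleGroup_of_card_sixty hA60 hAns
  obtain ⟨e⟩ := Cfsg.Agent.Lib.Helper07.nonempty_mulEquiv_alternatingGroup_five_of_card_eq_sixty hA60
  refine ⟨N, hNn, hNsyl, ?_⟩
  rcases hidx with h1 | h2
  · -- index 1
    have hAtop : A = ⊤ := by
      rw [← Subgroup.index_eq_one, hAidx, h1]
    let e' : (G ⧸ N) ≃* alternatingGroup (Fin 5) :=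
      (Subgroup.topEquiv.symm.trans (MulEquiv.subgroupCongr hAtop.symm)).trans e
    right; right; right; right; left
    exact ⟨e'.toMonoidHom.comp π, e'.surjective.comp hπs, (ker_equiv_comp π e').trans hπk⟩
  · -- index 2
    have hX120 : Nat.card (G ⧸ N) = 120 := by
      rw [← A.card_mul_index, hA60, hAidx, h2]
    have hC : Subgroup.centralizer (A : Set (G ⧸ N)) = ⊥ := by
      by_contra hne
      obtain ⟨⟨c, hc⟩, hc1⟩ := (Subgroup.ne_bot_iff_exists_ne_one).1 hne
      have hc1' : c ≠ 1 := fun h => hc1 (Subtype.ext h)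
      obtain ⟨E, hE8, hEexp⟩ :=
        Cfsg.Agent.Lib.Helper48.FC91.exists_eight_of_centralizer A e (hAidx.trans h2) c hc hc1'
      obtain ⟨L, hLdef⟩ : ∃ L : Subgroup G, L = E.comap π := ⟨_, rfl⟩
      have hLinv : OneInv L := oneInv_subgroup hinv L
      have hmem : ∀ y ∈ L, π y ∈ E := by
        intro y hy
        rw [hLdef] at hy
        exact hy
      have hKn : (N.subgroupOf L).Normal := Subgroup.normal_subgroupOf
      have hle := Cfsg.Agent.Lib.Helper30.FC91.index_le_four_of_sq_mem hLinv (N.subgroupOf L) (by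
        intro x
        rw [Subgroup.mem_subgroupOf, Subgroup.coe_pow, ← hπk, MonoidHom.mem_ker, map_pow]
        exact hEexp _ (hmem x x.2))
      have h8 : (N.subgroupOf L).index = 8 := by
        change N.relIndex L = 8
        have hNc : N = (⊥ : Subgroup (G ⧸ N)).comap π := by
          rw [MonoidHom.comap_bot, hπk]
        have h9 : ((⊥ : Subgroup (G ⧸ N)).comap π).relIndex L = 8 := by
          rw [Subgroup.relIndex_comap, hLdef,
            Subgroup.map_comap_eq_self_of_surjective hπs, Subgroup.relIndex_bot_left, hE8]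
        rw [← hNc] at h9
        exact h9
      omega
    obtain ⟨e'⟩ := Cfsg.Agent.Lib.Helper67.FC91.equiv_perm_five A e hX120 hC
    right; right; right; right; right
    exact ⟨e'.toMonoidHom.comp π, e'.surjective.comp hπs, (ker_equiv_comp π e').trans hπk⟩

end Cfsg.Agent.Lib.Helper96.FC91
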