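import Mathlib
import Cfsg.Prelude.Def_Solvable
import Cfsg.Agent.Lib.Helper96.FC91Defs
import Cfsg.Agent.Lib.Helper96.FC91Basic
import Cfsg.Agent.Lib.Helper72.FC91Cyc
import Cfsg.Agent.Lib.Helper47.FC91Rec24
import Cfsg.Agent.Lib.Helper38.FC91Stab
import Cfsg.Agent.Lib.Helper42.FC91Rec0
import Cfsg.Agent.Lib.Helper59.FC91Rec12
import Cfsg.Agent.Lib.Helper60.FC91Quat
import Cfsg.Agent.Lib.Helper01.Basic
import Cfsg.Agent.Lib.Helper01.PCore
import Cfsg.Agent.Lib.Helper01.PPrimeCore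
import Cfsg.Agent.Lib.Helper01.HallHigman
import Cfsg.Agent.Lib.Helper01.FCStructA

/-!
# S4291, K-SOLV: existence of the good normal subgroup in the solvable case
-/

set_option autoImplicit false

namespace Cfsg.Agent.Lib.Helper96.FC91

open Cfsg

universe u

theorem pCore_eq_top_of_isPGroup {K : Type u} [Group K] (hK : IsPGroup 2 K) :
    Cfsg.pCore 2 K = ⊤ := by
  rw [eq_top_iff]
  exact Cfsg.Agent.Lib.Helper01.le_pCore inferInstance (hK.to_subgroup ⊤)

/-- the heart of the solvable case: `O_{2'}(K) = 1`. -/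
theorem core_case {K : Type u} [Group K] [Finite K] [Group.IsSolvable K] (hinv : OneInv K)
    (hO : Cfsg.pPrimeCore 2 K = ⊥) (hnc : ¬ IsCyclic K) :
    ∃ (R : Subgroup K) (_ : R.Normal), IsCyclic R ∧ IsPGroup 2 R ∧
      (Nonempty (K ⧸ R ≃* DihedralGroup 2) ∨ Nonempty (K ⧸ R ≃* alternatingGroup (Fin 4)) ∨
        Nonempty (K ⧸ R ≃* Equiv.Perm (Fin 4))) := by
  have : Fact (Nat.Prime 2) := ⟨Nat.prime_two⟩
  obtain ⟨T, hTdef⟩ : ∃ T : Subgroup K, T = Cfsg.pCore 2 K := ⟨_, rfl⟩
  have hTn : T.Normal := hTdef ▸ Cfsg.Agent.Lib.Helper01.pCore_normal 2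
  have hT2 : IsPGroup 2 T := hTdef ▸ Cfsg.Agent.Lib.Helper01.pCore_isPGroup 2
  have hCT : Subgroup.centralizer (T : Set K) ≤ T :=
    hTdef ▸ Cfsg.Agent.Lib.Helper01.centralizer_pCore_le 2 hO
  have hTtop_of : IsPGroup 2 K → T = ⊤ := fun h => hTdef ▸ pCore_eq_top_of_isPGroup h
  have hTnc : ¬ IsCyclic T := by
    intro hc
    have hK2 : IsPGroup 2 K := Cfsg.Agent.Lib.Helper72.FC91.isPGroup_two_of_cyclic_normal T hT2 hc hCT
    have hTtop : T = ⊤ := hTtop_of hK2
    apply hnc
    rw [hTtop] at hc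
    exact isCyclic_of_surjective (Subgroup.topEquiv (G := K)) Subgroup.topEquiv.surjective
  obtain ⟨hRc, hsq, hidx⟩ :=
    Cfsg.Agent.Lib.Helper60.FC91.commutator_facts_of_oneInv hT2 (oneInv_subgroup hinv T) hTnc
  obtain ⟨R, hRdef⟩ : ∃ R : Subgroup K, R = ⁅T, T⁆ := ⟨_, rfl⟩
  have hRmap : (commutator T).map T.subtype = R := by
    rw [hRdef]; exact Subgroup.map_subtype_commutator T
  have hRn : R.Normal := hRdef ▸ Subgroup.commutator_normal T T
  have hRT : R ≤ T := hRdef ▸ Subgroup.commutator_le_left T T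
  have hRcyc : IsCyclic R := by
    rw [← hRmap]
    exact isCyclic_of_surjective ((T.subtype).subgroupMap (commutator T))
      ((T.subtype).subgroupMap_surjective (commutator T))
  have hR2 : IsPGroup 2 R := hT2.to_le hRT
  refine ⟨R, hRn, hRcyc, hR2, ?_⟩
  -- the quotient
  set f := QuotientGroup.mk' R with hf
  have hfs : Function.Surjective f := QuotientGroup.mk'_surjective R
  have hfk : f.ker = R := QuotientGroup.ker_mk' R
  set V : Subgroup (K ⧸ R) := T.map f with hV
  have hVn : V.Normal := Subgroup.Normal.map hTn f hfs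
  -- cardinalities
  have hcardR : Nat.card R = Nat.card (commutator T) := by
    rw [← hRmap]
    exact Subgroup.card_map_of_injective T.subtype_injective
  have hcardT : Nat.card T = Nat.card R * 4 := by
    rw [hcardR, ← hidx]
    exact ((commutator T).card_mul_index).symm
  have hcardV : Nat.card V = 4 := by
    have h1 := Cfsg.Agent.Lib.Helper01.card_map_mul_card_ker_of_le f T (by rw [hfk]; exact hRT)
    rw [hfk, hcardT] at h1
    have hpos : 0 < Nat.card R := Nat.card_pos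
    have : Nat.card V * Nat.card R = 4 * Nat.card R := by rw [h1, mul_comm]
    exact Nat.eq_of_mul_eq_mul_right hpos this
  have hVexp : ∀ v ∈ V, v ^ 2 = 1 := by
    rintro v ⟨t, ht, rfl⟩
    rw [← map_pow]
    rw [← MonoidHom.mem_ker, hfk, ← hRmap]
    exact ⟨⟨t, ht⟩ ^ 2, hsq ⟨t, ht⟩, rfl⟩
  -- D
  set D : Subgroup K := (Subgroup.centralizer (V : Set (K ⧸ R))).comap f with hD
  have hDn : D.Normal := Subgroup.Normal.comap Subgroup.normal_centralizer f
  have hD2 : IsPGroup 2 D := by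
    apply Cfsg.Agent.Lib.Helper38.FC91.isPGroup_two_of_stab T hT2 hCT D
    intro g hg t ht
    rw [← hRdef, ← hfk, MonoidHom.mem_ker]
    have hg' : f g ∈ Subgroup.centralizer (V : Set (K ⧸ R)) := hg
    rw [Subgroup.mem_centralizer_iff] at hg'
    have h1 := hg' (f t) ⟨t, ht, rfl⟩
    rw [map_mul, map_mul, map_mul, ← h1, map_inv, map_inv]
    group
  have hDT : D ≤ T := by
    rw [hTdef]
    exact Cfsg.Agent.Lib.Helper01.le_pCore hDn hD2
  have hCV : Subgroup.centralizer (V : Set (K ⧸ R)) ≤ V := by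
    intro y hy
    obtain ⟨g, rfl⟩ := hfs y
    exact ⟨g, hDT hy, rfl⟩
  obtain ⟨hdvd, hfree⟩ := Cfsg.Agent.Lib.Helper42.FC91.rec_basic V hcardV hVexp hCV
  have h4dvd : 4 ∣ Nat.card (K ⧸ R) := hcardV ▸ Subgroup.card_subgroup_dvd_card V
  have hcases : Nat.card (K ⧸ R) = 4 ∨ Nat.card (K ⧸ R) = 8 ∨ Nat.card (K ⧸ R) = 12 ∨
      Nat.card (K ⧸ R) = 24 := by
    have hle : Nat.card (K ⧸ R) ≤ 24 := Nat.le_of_dvd (by norm_num) hdvd
    obtain ⟨c, hc⟩ := h4dvd
    obtain ⟨d, hd⟩ := hdvd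
    have hc6 : c ≤ 6 := by omega
    interval_cases c
    · rw [hc] at hd; omega
    · left; exact hc
    · right; left; exact hc
    · right; right; left; exact hc
    · rw [hc] at hd; omega
    · rw [hc] at hd; omega
    · right; right; right; exact hc
  rcases hcases with h4 | h8 | h12 | h24
  · left
    have hexp : Monoid.exponent (K ⧸ R) = 2 := by
      have hVtop : V = ⊤ := by
        apply Subgroup.eq_top_of_card_eq
        rw [hcardV, h4]
      have hall : ∀ y : K ⧸ R, y ^ 2 = 1 := fun y => hVexp y (hVtop ▸ Subgroup.mem_top y)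
      have hd : Monoid.exponent (K ⧸ R) ∣ 2 := Monoid.exponent_dvd_of_forall_pow_eq_one hall
      rcases (Nat.dvd_prime Nat.prime_two).1 hd with h1 | h2
      · exfalso
        have hsub : Subsingleton (K ⧸ R) := Monoid.exp_eq_one_iff.1 h1
        have : Nat.card (K ⧸ R) = 1 := Nat.card_unique
        omega
      · exact h2
    have : IsKleinFour (K ⧸ R) := ⟨h4, hexp⟩
    exact IsKleinFour.nonempty_mulEquiv
  · exfalso
    have hY2 : IsPGroup 2 (K ⧸ R) := IsPGroup.of_card (n := 3) (by rw [h8]; norm_num)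
    have hK2 : IsPGroup 2 K := by
      obtain ⟨m, hm⟩ := (IsPGroup.iff_card (p := 2) (G := R)).1 hR2
      apply IsPGroup.of_card (n := 3 + m)
      rw [Subgroup.card_eq_card_quotient_mul_card_subgroup R, h8, hm, pow_add]
      norm_num
    have hTtop : T = ⊤ := hTtop_of hK2
    have hVtop : V = ⊤ := by
      rw [hV, hTtop, ← MonoidHom.range_eq_map]
      exact MonoidHom.range_eq_top.2 hfs
    rw [hVtop, Subgroup.card_top, h8] at hcardV
    omega
  · right; left
    exact Cfsg.Agent.Lib.Helper59.FC91.rec_twelve V hcardV hfree h12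
  · right; right
    exact Cfsg.Agent.Lib.Helper47.FC91.rec_twentyfour V hcardV hCV hfree h24

/-- K-SOLV: existence in the solvable case. -/
theorem exists_good_of_solvable {G : Type u} [Group G] [Finite G] (hsol : Group.IsSolvable G)
    (hodd : OddCyc G) (hinv : OneInv G) (hS : ∃ P : Sylow 2 G, ¬ IsCyclic P) :
    ∃ N : Subgroup G, Good N := by
  have : Fact (Nat.Prime 2) := ⟨Nat.prime_two⟩
  obtain ⟨O, hOdef⟩ : ∃ O : Subgroup G, O = Cfsg.pPrimeCore 2 G := ⟨_, rfl⟩
  have hOn : O.Normal := hOdef ▸ Cfsg.Agent.Lib.Helper01.pPrimeCore_normal 2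
  have hOcop : (Nat.card O).Coprime 2 := hOdef ▸ Cfsg.Agent.Lib.Helper01.pPrimeCore_card_coprime 2
  have hOodd : Odd (Nat.card O) := Nat.Coprime.odd_of_right hOcop
  have hKinv : OneInv (G ⧸ O) := Cfsg.Agent.Lib.Helper01.unique_involution_quotient O hOodd hinv
  have hKO : Cfsg.pPrimeCore 2 (G ⧸ O) = ⊥ := by
    subst hOdef
    exact Cfsg.Agent.Lib.Helper01.pPrimeCore_quotient_eq_bot 2
  set g := QuotientGroup.mk' O with hg
  have hgk : g.ker = O := QuotientGroup.ker_mk' O
  have hgs : Function.Surjective g := QuotientGroup.mk'_surjective O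
  have h2sub : ∀ Q : Subgroup G, IsPGroup 2 Q → IsCyclic (Q.map g) → IsCyclic Q := by
    intro Q hQ hc
    apply Cfsg.Agent.Lib.Helper01.isCyclic_of_map_of_coprime g Q _ hc
    rw [hgk]
    obtain ⟨m, hm⟩ := (IsPGroup.iff_card (p := 2) (G := Q)).1 hQ
    rw [hm]
    exact Nat.Coprime.pow_left m hOcop.symm
  have hKnc : ¬ IsCyclic (G ⧸ O) := by
    intro hc
    obtain ⟨P, hP⟩ := hS
    exact hP (h2sub P P.2 inferInstance)
  obtain ⟨R, hRn, hRc, hR2, hQ⟩ := core_case hKinv hKO hKnc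
  set f : G →* (G ⧸ O) ⧸ R := (QuotientGroup.mk' R).comp g with hf
  have hfs : Function.Surjective f := (QuotientGroup.mk'_surjective R).comp hgs
  refine ⟨f.ker, inferInstance, ?_, ?_⟩
  · intro p hp P
    apply Cfsg.Agent.Lib.Helper01.sylow_cyclic_of_subgroups_cyclic f.ker _ p P
    intro q hq Q hQle hQq
    by_cases h2 : q = 2
    · subst h2
      apply h2sub Q hQq
      have hle : Q.map g ≤ R := by
        rintro _ ⟨x, hx, rfl⟩
        have h1 := hQle hx
        rw [MonoidHom.mem_ker] at h1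
        exact (QuotientGroup.eq_one_iff _).1 h1
      exact Subgroup.isCyclic_of_le hle
    · exact hodd q hq h2 Q hQq
  · rcases hQ with ⟨⟨e⟩⟩ | ⟨⟨e⟩⟩ | ⟨⟨e⟩⟩
    · right; left
      exact ⟨e.toMonoidHom.comp f, e.surjective.comp hfs, ker_equiv_comp f e⟩
    · right; right; left
      exact ⟨e.toMonoidHom.comp f, e.surjective.comp hfs, ker_equiv_comp f e⟩
    · right; right; right; left
      exact ⟨e.toMonoidHom.comp f, e.surjective.comp hfs, ker_equiv_comp f e⟩

end Cfsg.Agent.Lib.Helper96.FC91
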