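import Mathlib
import Cfsg.Agent.Lib.Helper96.FC91Defs
import Cfsg.Agent.Lib.Helper01.FCStructA

/-!
# S4291, case E0: all Sylow subgroups cyclic
-/

set_option autoImplicit false

namespace Cfsg.Agent.Lib.Helper96.FC91

universe u

theorem good_top {G : Type u} [Group G] [Finite G] (hodd : OddCyc G)
    (hS : ∀ P : Sylow 2 G, IsCyclic P) : Good (⊤ : Subgroup G) := by
  refine ⟨inferInstance, ?_, Or.inl rfl⟩
  intro p hp P
  apply Cfsg.Agent.Lib.Helper01.sylow_cyclic_of_subgroups_cyclic ⊤ _ p P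
  intro q hq Q _ hQq
  by_cases h2 : q = 2
  · subst h2
    have : Fact (Nat.Prime 2) := ⟨Nat.prime_two⟩
    obtain ⟨P', hP'⟩ := hQq.exists_le_sylow
    have hc : IsCyclic P' := hS P'
    exact Subgroup.isCyclic_of_le hP'
  · exact hodd q hq h2 Q hQq

end Cfsg.Agent.Lib.Helper96.FC91
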