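import Mathlib
import Cfsg.Prelude.Def_Solvable
import Cfsg.Agent.Lib.Helper96.FC91Defs
import Cfsg.Agent.Lib.Helper30.FC91TwoGen
import Cfsg.Agent.Lib.Helper85.FC91R4
import Cfsg.Agent.Lib.Helper93.FC91R5
import Cfsg.Agent.Lib.Helper97.FC91RD

/-!
# S4291, K-UNIQ: uniqueness of the good normal subgroup
-/

set_option autoImplicit false

namespace Cfsg.Agent.Lib.Helper96.FC91

open Cfsg

universe u

variable {G : Type u} [Group G]

/-- kernel of a surjection onto a rigid group -/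
def IsRigidKer (N : Subgroup G) : Prop :=
  ∃ (Q : Type) (_ : Group Q) (_ : Finite Q) (f : G →* Q), Function.Surjective f ∧ f.ker = N ∧ Rigid Q

/-- kernel of a surjection onto the four-group -/
def IsD2Ker (N : Subgroup G) : Prop :=
  ∃ f : G →* DihedralGroup 2, Function.Surjective f ∧ f.ker = N

theorem quotOK_cases (N : Subgroup G) (h : QuotOK N) : N = ⊤ ∨ IsD2Ker N ∨ IsRigidKer N := by
  rcases h with h | h | ⟨f, hf, hk⟩ | ⟨f, hf, hk⟩ | ⟨f, hf, hk⟩ | ⟨f, hf, hk⟩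
  · exact Or.inl h
  · exact Or.inr (Or.inl h)
  · exact Or.inr (Or.inr ⟨_, inferInstance, inferInstance, f, hf, hk, Cfsg.Agent.Lib.Helper85.FC91.rigid_alt4⟩)
  · exact Or.inr (Or.inr ⟨_, inferInstance, inferInstance, f, hf, hk, Cfsg.Agent.Lib.Helper85.FC91.rigid_perm4⟩)
  · exact Or.inr (Or.inr ⟨_, inferInstance, inferInstance, f, hf, hk, Cfsg.Agent.Lib.Helper93.FC91.rigid_alt5⟩)
  · exact Or.inr (Or.inr ⟨_, inferInstance, inferInstance, f, hf, hk, Cfsg.Agent.Lib.Helper93.FC91.rigid_perm5⟩)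

theorem index_ker_of_surjective {Q : Type*} [Group Q] (f : G →* Q) (hf : Function.Surjective f) :
    f.ker.index = Nat.card Q := by
  rw [Subgroup.index_ker, MonoidHom.range_eq_top.2 hf]
  exact Nat.card_congr Subgroup.topEquiv.toEquiv

theorem le_of_rigidKer [Finite G] (N₁ N₂ : Subgroup G) (h₁ : IsRigidKer N₁) (hn : N₂.Normal)
    (hc : SylCyc N₂) : N₂ ≤ N₁ := by
  obtain ⟨Q, _, _, f, hf, hk, -, hrig⟩ := h₁
  have : IsZGroup N₂ := (sylCyc_iff_isZGroup N₂).1 hc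
  have hA : IsZGroup (N₂.map f) :=
    IsZGroup.of_surjective (f := f.subgroupMap N₂) (f.subgroupMap_surjective N₂)
  have h1 : N₂.map f = ⊥ := by
    apply hrig (N₂.map f) (Subgroup.Normal.map hn f hf)
    intro P
    exact hA.isZGroup 2 Nat.prime_two P
  rw [← hk]
  exact (Subgroup.map_eq_bot_iff N₂).1 h1

theorem false_of_d2_rigid [Finite G] (N₁ N₂ : Subgroup G) (h₁ : IsD2Ker N₁) (h₂ : IsRigidKer N₂)
    (hn : N₁.Normal) (hc : SylCyc N₁) : False := by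
  have hle : N₁ ≤ N₂ := le_of_rigidKer N₂ N₁ h₂ hn hc
  obtain ⟨f₁, hf₁, hk₁⟩ := h₁
  obtain ⟨Q, _, _, f₂, hf₂, hk₂, hcard, -⟩ := h₂
  have i1 : N₁.index = 4 := by
    rw [← hk₁, index_ker_of_surjective f₁ hf₁, DihedralGroup.nat_card]
  have i2 : N₂.index = Nat.card Q := by
    rw [← hk₂, index_ker_of_surjective f₂ hf₂]
  have hdvd : N₂.index ∣ N₁.index := Subgroup.index_dvd_of_le hle
  rw [i1, i2] at hdvd
  have := Nat.le_of_dvd (by norm_num) hdvd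
  omega

theorem eq_of_d2_d2 [Finite G] (hinv : OneInv G) (N₁ N₂ : Subgroup G) (h₁ : IsD2Ker N₁)
    (h₂ : IsD2Ker N₂) : N₁ = N₂ := by
  obtain ⟨f₁, hf₁, hk₁⟩ := h₁
  obtain ⟨f₂, hf₂, hk₂⟩ := h₂
  have hsqD : ∀ d : DihedralGroup 2, d ^ 2 = 1 := by decide
  have i1 : N₁.index = 4 := by
    rw [← hk₁, index_ker_of_surjective f₁ hf₁, DihedralGroup.nat_card]
  have i2 : N₂.index = 4 := by
    rw [← hk₂, index_ker_of_surjective f₂ hf₂, DihedralGroup.nat_card]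
  have : N₁.Normal := hk₁ ▸ inferInstance
  have : N₂.Normal := hk₂ ▸ inferInstance
  have hK : (N₁ ⊓ N₂).index ≤ 4 := by
    apply Cfsg.Agent.Lib.Helper30.FC91.index_le_four_of_sq_mem hinv (N₁ ⊓ N₂)
    intro x
    refine Subgroup.mem_inf.2 ⟨?_, ?_⟩
    · rw [← hk₁]
      exact MonoidHom.mem_ker.2 (by rw [map_pow, hsqD])
    · rw [← hk₂]
      exact MonoidHom.mem_ker.2 (by rw [map_pow, hsqD])
  have hK0 : (N₁ ⊓ N₂).index ≠ 0 := Subgroup.index_ne_zero_of_finite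
  have key : ∀ N : Subgroup G, N.index = 4 → N₁ ⊓ N₂ ≤ N → N ≤ N₁ ⊓ N₂ := by
    intro N hN hle
    have h1 := Subgroup.relIndex_mul_index hle
    rw [hN] at h1
    have h2 : (N₁ ⊓ N₂).relIndex N = 1 := by
      have h3 : (N₁ ⊓ N₂).relIndex N * 4 ≤ 4 := h1 ▸ hK
      have h4 : (N₁ ⊓ N₂).relIndex N ≠ 0 := by
        intro h0
        rw [h0, zero_mul] at h1
        exact hK0 h1.symm
      omega
    exact Subgroup.relIndex_eq_one.1 h2
  have e1 : N₁ ≤ N₁ ⊓ N₂ := key N₁ i1 inf_le_left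
  have e2 : N₂ ≤ N₁ ⊓ N₂ := key N₂ i2 inf_le_right
  exact le_antisymm (e1.trans inf_le_right) (e2.trans inf_le_left)

theorem false_of_top [Finite G] (N₂ : Subgroup G) (hc : SylCyc (⊤ : Subgroup G))
    (h₂ : IsD2Ker N₂ ∨ IsRigidKer N₂) : False := by
  have : IsZGroup (⊤ : Subgroup G) := (sylCyc_iff_isZGroup ⊤).1 hc
  have hG : IsZGroup G :=
    IsZGroup.of_surjective (f := (Subgroup.topEquiv (G := G)).toMonoidHom) Subgroup.topEquiv.surjective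
  rcases h₂ with ⟨f, hf, -⟩ | ⟨Q, _, _, f, hf, -, hcard, hrig⟩
  · have : IsZGroup (DihedralGroup 2) := IsZGroup.of_surjective hf
    have h1 := Cfsg.Agent.Lib.Helper97.FC91.card_le_two_of_dihedral ⊤ (fun P => inferInstance)
    have h2 : Nat.card (⊤ : Subgroup (DihedralGroup 2)) = 4 := by
      rw [Subgroup.card_top, DihedralGroup.nat_card]
    omega
  · have : IsZGroup Q := IsZGroup.of_surjective hf
    have h1 : (⊤ : Subgroup Q) = ⊥ := hrig ⊤ inferInstance (fun P => inferInstance)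
    have h2 : Nat.card Q = 1 := by
      rw [← Subgroup.card_top (G := Q), h1, Subgroup.card_bot]
    omega

/-- K-UNIQ. -/
theorem good_unique [Finite G] (hinv : OneInv G) (N₁ N₂ : Subgroup G)
    (h₁ : Good N₁) (h₂ : Good N₂) : N₁ = N₂ := by
  obtain ⟨hn₁, hc₁, hq₁⟩ := h₁
  obtain ⟨hn₂, hc₂, hq₂⟩ := h₂
  rcases quotOK_cases N₁ hq₁ with t₁ | d₁ | r₁
  · rcases quotOK_cases N₂ hq₂ with t₂ | d₂ | r₂
    · rw [t₁, t₂]
    · exact (false_of_top N₂ (t₁ ▸ hc₁) (Or.inl d₂)).elim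
    · exact (false_of_top N₂ (t₁ ▸ hc₁) (Or.inr r₂)).elim
  · rcases quotOK_cases N₂ hq₂ with t₂ | d₂ | r₂
    · exact (false_of_top N₁ (t₂ ▸ hc₂) (Or.inl d₁)).elim
    · exact eq_of_d2_d2 hinv N₁ N₂ d₁ d₂
    · exact (false_of_d2_rigid N₁ N₂ d₁ r₂ hn₁ hc₁).elim
  · rcases quotOK_cases N₂ hq₂ with t₂ | d₂ | r₂
    · exact (false_of_top N₁ (t₂ ▸ hc₂) (Or.inr r₁)).elim
    · exact (false_of_d2_rigid N₂ N₁ d₂ r₁ hn₂ hc₂).elim
    · exact le_antisymm (le_of_rigidKer N₂ N₁ r₂ hn₁ hc₁) (le_of_rigidKer N₁ N₂ r₁ hn₂ hc₂)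

end Cfsg.Agent.Lib.Helper96.FC91
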