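import Mathlib
import Cfsg.Prelude.Def_Solvable
import Cfsg.Agent.Lib.Helper96.FC91Defs
import Cfsg.Agent.Lib.Helper96.FC91Facts
import Cfsg.Agent.Lib.Helper96.FC91Uniq
import Cfsg.Agent.Lib.Helper96.FC91Top
import Cfsg.Agent.Lib.Helper96.FC91Solv
import Cfsg.Agent.Lib.Helper96.FC91NonSolv

/-!
# S4291 (Zassenhaus): a Frobenius complement has exactly one normal subgroup `N` with all Sylow subgroups cyclic and
`G/N` trivial, `V₄`, `A₄`, `S₄`, `A₅` or `S₅` -- conditional on the structure of non-solvable Frobenius complements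
(the conclusion of statement S3359, passed as the hypothesis `h3359`).
-/

set_option autoImplicit false

namespace Cfsg.Agent.Lib.Helper96.FC91

open Cfsg

universe u

theorem main_of_nonsolvable_structure {G : Type u} [Group G] [Finite G]
    (hFC : ∃ (L : Type) (_ : Group L) (_ : Finite L) (H : Subgroup L),
      Cfsg.IsFrobeniusComplement H ∧ Nonempty (G ≃* H))
    (h3359 : ¬ Group.IsSolvable G →
      ∃ G₀ : Subgroup G, G₀.Normal ∧ (G₀.index = 1 ∨ G₀.index = 2) ∧
        ∃ S M : Subgroup G, S ⊔ M = G₀ ∧ S ⊓ M = ⊥ ∧ (∀ s ∈ S, ∀ x ∈ M, s * x = x * s) ∧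
          Nonempty (S ≃* Matrix.SpecialLinearGroup (Fin 2) (ZMod 5)) ∧
          (∀ (p : ℕ) [Fact p.Prime] (P : Sylow p M), IsCyclic P) ∧ (Nat.card M).Coprime 30) :
    ∃! N : Subgroup G, N.Normal ∧ (∀ (p : ℕ) [Fact p.Prime] (P : Sylow p N), IsCyclic P) ∧
      (N = ⊤ ∨
        (∃ f : G →* DihedralGroup 2, Function.Surjective f ∧ f.ker = N) ∨
        (∃ f : G →* alternatingGroup (Fin 4), Function.Surjective f ∧ f.ker = N) ∨
        (∃ f : G →* Equiv.Perm (Fin 4), Function.Surjective f ∧ f.ker = N) ∨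
        (∃ f : G →* alternatingGroup (Fin 5), Function.Surjective f ∧ f.ker = N) ∨
        (∃ f : G →* Equiv.Perm (Fin 5), Function.Surjective f ∧ f.ker = N)) := by
  obtain ⟨hodd, hinv⟩ := facts_of_frobeniusComplement hFC
  have hex : ∃ N : Subgroup G, Good N := by
    by_cases hS : ∃ P : Sylow 2 G, ¬ IsCyclic P
    · by_cases hsol : Group.IsSolvable G
      · exact exists_good_of_solvable hsol hodd hinv hS
      · obtain ⟨G₀, hG₀, hidx, S, M, hsup, hinf, hcomm, hS', -, hM⟩ := h3359 hsol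
        exact exists_good_of_data hsol hodd hinv G₀ hG₀ hidx S M hsup hinf hcomm hS' hM
    · have hS' : ∀ P : Sylow 2 G, IsCyclic P := by
        intro P
        by_contra h
        exact hS ⟨P, h⟩
      exact ⟨⊤, good_top hodd hS'⟩
  obtain ⟨N, hN⟩ := hex
  exact ⟨N, hN, fun N' hN' => good_unique hinv N' N hN' hN⟩

end Cfsg.Agent.Lib.Helper96.FC91
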