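import Mathlib
import Cfsg.Prelude.Def_FusionComponents
import Cfsg.Agent.Lib.Helper87.FusionAut

/-!
# Transport of fusion systems along an isomorphism `a : S ≃* S'` (part 1)

`S ≤ Ω`, `S' ≤ Ω'` (different ambient groups allowed).  Total function `fwd a : Ω → Ω'` extending
`a`, image `img a P` of a subgroup, correspondence `Corr a φ φ'` of homomorphisms, and the
push-forward `push a E hT` of a fusion system `E` over `T ≤ S`; round trip.
-/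

set_option autoImplicit false

namespace Cfsg.Agent.Lib.Helper96.FusTr

open Cfsg Cfsg.FusionSystem Cfsg.Agent.Lib.Helper87

variable {Ω : Type*} [Group Ω] {Ω' : Type*} [Group Ω'] {S : Subgroup Ω} {S' : Subgroup Ω'}

/-- the homomorphism used in the frozen definitions -/
def iota (a : S ≃* S') : S →* Ω' := S'.subtype.comp a.toMonoidHom

theorem iota_apply (a : S ≃* S') (x : S) : iota a x = ((a x : S') : Ω') := rfl

open Classical in
/-- total version of `a` (value `1` outside `S`) -/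
noncomputable def fwd (a : S ≃* S') (x : Ω) : Ω' := if h : x ∈ S then ((a ⟨x, h⟩ : S') : Ω') else 1

theorem fwd_of_mem (a : S ≃* S') {x : Ω} (h : x ∈ S) : fwd a x = ((a ⟨x, h⟩ : S') : Ω') := dif_pos h

theorem fwd_coe (a : S ≃* S') (x : S) : fwd a (x : Ω) = ((a x : S') : Ω') := by
  rw [fwd_of_mem a x.2]

theorem fwd_mem (a : S ≃* S') (x : Ω) : fwd a x ∈ S' := by
  unfold fwd
  split_ifs with h
  · exact (a ⟨x, h⟩).2
  · exact S'.one_mem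

theorem bwd_fwd (a : S ≃* S') {x : Ω} (h : x ∈ S) : fwd a.symm (fwd a x) = x := by
  rw [fwd_of_mem a h, fwd_coe, MulEquiv.symm_apply_apply]

theorem fwd_bwd (a : S ≃* S') {y : Ω'} (h : y ∈ S') : fwd a (fwd a.symm y) = y := by
  rw [fwd_of_mem a.symm h, fwd_coe, MulEquiv.apply_symm_apply]

theorem fwd_mul (a : S ≃* S') {x y : Ω} (hx : x ∈ S) (hy : y ∈ S) :
    fwd a (x * y) = fwd a x * fwd a y := by
  rw [fwd_of_mem a hx, fwd_of_mem a hy, fwd_of_mem a (S.mul_mem hx hy)]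
  have : (⟨x * y, S.mul_mem hx hy⟩ : S) = ⟨x, hx⟩ * ⟨y, hy⟩ := rfl
  rw [this, map_mul]; rfl

theorem fwd_one (a : S ≃* S') : fwd a 1 = 1 := by
  rw [fwd_of_mem a S.one_mem]
  have : (⟨1, S.one_mem⟩ : S) = 1 := rfl
  rw [this, map_one]; rfl

theorem fwd_inv (a : S ≃* S') {x : Ω} (hx : x ∈ S) : fwd a x⁻¹ = (fwd a x)⁻¹ := by
  rw [fwd_of_mem a hx, fwd_of_mem a (S.inv_mem hx)]
  have : (⟨x⁻¹, S.inv_mem hx⟩ : S) = ⟨x, hx⟩⁻¹ := rfl
  rw [this, map_inv]; rfl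

theorem fwd_conj (a : S ≃* S') {g x : Ω} (hg : g ∈ S) (hx : x ∈ S) :
    fwd a (g * x * g⁻¹) = fwd a g * fwd a x * (fwd a g)⁻¹ := by
  rw [fwd_mul a (S.mul_mem hg hx) (S.inv_mem hg), fwd_mul a hg hx, fwd_inv a hg]

theorem fwd_injOn (a : S ≃* S') {x y : Ω} (hx : x ∈ S) (hy : y ∈ S) (h : fwd a x = fwd a y) :
    x = y := by
  have := congrArg (fwd a.symm) h
  rwa [bwd_fwd a hx, bwd_fwd a hy] at this

/-- the image of a subgroup (the frozen `imageAlong`) -/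
abbrev img (a : S ≃* S') (P : Subgroup Ω) : Subgroup Ω' := FusionSystem.imageAlong (iota a) P

theorem mem_img (a : S ≃* S') (P : Subgroup Ω) (y : Ω') :
    y ∈ img a P ↔ ∃ x, x ∈ P ∧ x ∈ S ∧ fwd a x = y := by
  show y ∈ (P.subgroupOf S).map (iota a) ↔ _
  rw [Subgroup.mem_map]
  constructor
  · rintro ⟨x, hx, rfl⟩
    exact ⟨x, Subgroup.mem_subgroupOf.1 hx, x.2, fwd_coe a x⟩
  · rintro ⟨x, hxP, hxS, rfl⟩
    exact ⟨⟨x, hxS⟩, Subgroup.mem_subgroupOf.2 hxP, (fwd_of_mem a hxS).symm⟩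

theorem fwd_mem_img (a : S ≃* S') {P : Subgroup Ω} {x : Ω} (hxP : x ∈ P) (hxS : x ∈ S) :
    fwd a x ∈ img a P := (mem_img a P _).2 ⟨x, hxP, hxS, rfl⟩

theorem img_le (a : S ≃* S') (P : Subgroup Ω) : img a P ≤ S' := by
  intro y hy
  obtain ⟨x, -, -, rfl⟩ := (mem_img a P y).1 hy
  exact fwd_mem a x

theorem mem_img_iff (a : S ≃* S') {P : Subgroup Ω} (hP : P ≤ S) (y : Ω') :
    y ∈ img a P ↔ y ∈ S' ∧ fwd a.symm y ∈ P := by
  constructor
  · intro hy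
    obtain ⟨x, hxP, hxS, rfl⟩ := (mem_img a P y).1 hy
    exact ⟨fwd_mem a x, by rwa [bwd_fwd a hxS]⟩
  · rintro ⟨hy, hb⟩
    exact (mem_img a P y).2 ⟨fwd a.symm y, hb, hP hb, fwd_bwd a hy⟩

theorem fwd_mem_img_iff (a : S ≃* S') {P : Subgroup Ω} (hP : P ≤ S) {x : Ω} (hx : x ∈ S) :
    fwd a x ∈ img a P ↔ x ∈ P := by
  rw [mem_img_iff a hP, bwd_fwd a hx]
  exact ⟨fun h => h.2, fun h => ⟨fwd_mem a x, h⟩⟩

theorem img_mono (a : S ≃* S') {P Q : Subgroup Ω} (h : P ≤ Q) : img a P ≤ img a Q := by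
  intro y hy
  obtain ⟨x, hxP, hxS, rfl⟩ := (mem_img a P y).1 hy
  exact fwd_mem_img a (h hxP) hxS

theorem img_img (a : S ≃* S') {P : Subgroup Ω} (hP : P ≤ S) : img a.symm (img a P) = P := by
  ext x
  constructor
  · intro hx
    obtain ⟨y, hy, -, rfl⟩ := (mem_img a.symm _ x).1 hx
    obtain ⟨x0, hx0P, hx0S, rfl⟩ := (mem_img a P y).1 hy
    rw [bwd_fwd a hx0S]; exact hx0P
  · intro hx
    exact (mem_img a.symm _ x).2 ⟨fwd a x, fwd_mem_img a hx (hP hx), fwd_mem a x, bwd_fwd a (hP hx)⟩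

theorem img_img' (a : S ≃* S') {P' : Subgroup Ω'} (hP' : P' ≤ S') : img a (img a.symm P') = P' := by
  ext y
  constructor
  · intro hy
    obtain ⟨x, hx, -, rfl⟩ := (mem_img a _ y).1 hy
    obtain ⟨y0, hy0P, hy0S, rfl⟩ := (mem_img a.symm P' x).1 hx
    rw [fwd_bwd a hy0S]; exact hy0P
  · intro hy
    exact (mem_img a _ y).2 ⟨fwd a.symm y, fwd_mem_img a.symm hy (hP' hy), fwd_mem a.symm y,
      fwd_bwd a (hP' hy)⟩

theorem img_le_iff (a : S ≃* S') {P Q : Subgroup Ω} (hP : P ≤ S) (hQ : Q ≤ S) :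
    img a P ≤ img a Q ↔ P ≤ Q := by
  constructor
  · intro h
    have := img_mono a.symm h
    rwa [img_img a hP, img_img a hQ] at this
  · exact img_mono a

theorem img_inj (a : S ≃* S') {P Q : Subgroup Ω} (hP : P ≤ S) (hQ : Q ≤ S) (h : img a P = img a Q) :
    P = Q :=
  le_antisymm ((img_le_iff a hP hQ).1 h.le) ((img_le_iff a hQ hP).1 h.ge)

theorem img_sup (a : S ≃* S') {P Q : Subgroup Ω} (hP : P ≤ S) (hQ : Q ≤ S) :
    img a (P ⊔ Q) = img a P ⊔ img a Q := by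
  apply le_antisymm
  · have hX : img a P ⊔ img a Q ≤ S' := sup_le (img_le a P) (img_le a Q)
    have h1 : P ⊔ Q ≤ img a.symm (img a P ⊔ img a Q) := by
      refine sup_le ?_ ?_
      · exact (img_img a hP).ge.trans (img_mono a.symm le_sup_left)
      · exact (img_img a hQ).ge.trans (img_mono a.symm le_sup_right)
    exact (img_mono a h1).trans (img_img' a hX).le
  · exact sup_le (img_mono a le_sup_left) (img_mono a le_sup_right)

theorem img_inf (a : S ≃* S') {P Q : Subgroup Ω} (_hP : P ≤ S) :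
    img a (P ⊓ Q) = img a P ⊓ img a Q := by
  apply le_antisymm
  · exact le_inf (img_mono a inf_le_left) (img_mono a inf_le_right)
  · intro y hy
    obtain ⟨x, hxP, hxS, rfl⟩ := (mem_img a P y).1 hy.1
    obtain ⟨x2, hx2Q, hx2S, h2⟩ := (mem_img a Q _).1 hy.2
    have : x2 = x := fwd_injOn a hx2S hxS h2
    subst this
    exact fwd_mem_img a ⟨hxP, hx2Q⟩ hxS

theorem img_bot (a : S ≃* S') : img a ⊥ = ⊥ := by
  rw [eq_bot_iff]
  intro y hy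
  obtain ⟨x, hx, -, rfl⟩ := (mem_img a ⊥ y).1 hy
  rw [Subgroup.mem_bot] at hx
  subst hx
  rw [fwd_one]; exact Subgroup.one_mem _

theorem img_self (a : S ≃* S') : img a S = S' := by
  apply le_antisymm (img_le a S)
  intro y hy
  exact (mem_img_iff a le_rfl y).2 ⟨hy, by
    rw [fwd_of_mem a.symm hy]; exact (a.symm ⟨y, hy⟩).2⟩

/-- the restriction of `a` to a subgroup `P ≤ S`, onto its image -/
noncomputable def resEquiv (a : S ≃* S') {P : Subgroup Ω} (hP : P ≤ S) : P ≃* img a P where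
  toFun x := ⟨fwd a x, fwd_mem_img a x.2 (hP x.2)⟩
  invFun y := ⟨fwd a.symm y, ((mem_img_iff a hP y).1 y.2).2⟩
  left_inv x := Subtype.ext (bwd_fwd a (hP x.2))
  right_inv y := Subtype.ext (fwd_bwd a (img_le a P y.2))
  map_mul' x y := Subtype.ext (fwd_mul a (hP x.2) (hP y.2))

@[simp] theorem resEquiv_apply (a : S ≃* S') {P : Subgroup Ω} (hP : P ≤ S) (x : P) :
    ((resEquiv a hP x : img a P) : Ω') = fwd a x := rfl

@[simp] theorem resEquiv_symm_apply (a : S ≃* S') {P : Subgroup Ω} (hP : P ≤ S) (y : img a P) :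
    (((resEquiv a hP).symm y : P) : Ω) = fwd a.symm y := rfl

theorem card_img (a : S ≃* S') {P : Subgroup Ω} (hP : P ≤ S) : Nat.card (img a P) = Nat.card P :=
  (Nat.card_congr (resEquiv a hP).toEquiv).symm

/-! ### correspondence of homomorphisms -/

/-- `φ' = a ∘ φ ∘ a⁻¹` on `P' = a(P)` -/
def Corr (a : S ≃* S') {P : Subgroup Ω} (φ : P →* Ω) {P' : Subgroup Ω'} (φ' : P' →* Ω') : Prop :=
  P ≤ S ∧ (∀ x : P, φ x ∈ S) ∧ P' = img a P ∧
    ∀ (x : P) (hx : fwd a x ∈ P'), φ' ⟨fwd a x, hx⟩ = fwd a (φ x)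

/-- the transported homomorphism -/
noncomputable def pushHom (a : S ≃* S') {P : Subgroup Ω} (hP : P ≤ S) (φ : P →* Ω)
    (hφ : ∀ x : P, φ x ∈ S) : img a P →* Ω' where
  toFun y := fwd a (φ ((resEquiv a hP).symm y))
  map_one' := by rw [map_one, map_one]; exact fwd_one a
  map_mul' y z := by rw [map_mul, map_mul]; exact fwd_mul a (hφ _) (hφ _)

theorem corr_pushHom (a : S ≃* S') {P : Subgroup Ω} (hP : P ≤ S) (φ : P →* Ω)
    (hφ : ∀ x : P, φ x ∈ S) : Corr a φ (pushHom a hP φ hφ) := by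
  refine ⟨hP, hφ, rfl, fun x hx => ?_⟩
  show fwd a (φ ((resEquiv a hP).symm ⟨fwd a x, hx⟩)) = _
  have : (resEquiv a hP).symm ⟨fwd a x, hx⟩ = x := by
    rw [MulEquiv.symm_apply_eq]; rfl
  rw [this]

theorem exists_corr (a : S ≃* S') {P : Subgroup Ω} (hP : P ≤ S) (φ : P →* Ω)
    (hφ : ∀ x : P, φ x ∈ S) {P' : Subgroup Ω'} (h : P' = img a P) :
    ∃ φ' : P' →* Ω', Corr a φ φ' := by
  subst h
  exact ⟨_, corr_pushHom a hP φ hφ⟩

theorem Corr.apply {a : S ≃* S'} {P : Subgroup Ω} {φ : P →* Ω} {P' : Subgroup Ω'} {φ' : P' →* Ω'}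
    (h : Corr a φ φ') (x : P) (hx : fwd a x ∈ P') : φ' ⟨fwd a x, hx⟩ = fwd a (φ x) := h.2.2.2 x hx

theorem Corr.fwd_mem {a : S ≃* S'} {P : Subgroup Ω} {φ : P →* Ω} {P' : Subgroup Ω'} {φ' : P' →* Ω'}
    (h : Corr a φ φ') (x : P) : fwd a x ∈ P' := by
  rw [h.2.2.1]; exact fwd_mem_img a x.2 (h.1 x.2)

theorem Corr.exists_rep {a : S ≃* S'} {P : Subgroup Ω} {φ : P →* Ω} {P' : Subgroup Ω'}
    {φ' : P' →* Ω'} (h : Corr a φ φ') (y : P') : ∃ x : P, fwd a x = y := by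
  have hy : (y : Ω') ∈ img a P := by rw [← h.2.2.1]; exact y.2
  obtain ⟨x, hxP, -, hx⟩ := (mem_img a P y).1 hy
  exact ⟨⟨x, hxP⟩, hx⟩

theorem Corr.apply' {a : S ≃* S'} {P : Subgroup Ω} {φ : P →* Ω} {P' : Subgroup Ω'} {φ' : P' →* Ω'}
    (h : Corr a φ φ') (x : P) (y : P') (hxy : fwd a x = y) : φ' y = fwd a (φ x) := by
  have : y = ⟨fwd a x, h.fwd_mem x⟩ := Subtype.ext hxy.symm
  rw [this]; exact h.apply x _

theorem Corr.unique {a : S ≃* S'} {P : Subgroup Ω} {φ : P →* Ω} {P' : Subgroup Ω'}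
    {φ₁ φ₂ : P' →* Ω'} (h1 : Corr a φ φ₁) (h2 : Corr a φ φ₂) : φ₁ = φ₂ := by
  ext y
  obtain ⟨x, hx⟩ := h1.exists_rep y
  rw [h1.apply' x y hx, h2.apply' x y hx]

theorem Corr.le' {a : S ≃* S'} {P : Subgroup Ω} {φ : P →* Ω} {P' : Subgroup Ω'} {φ' : P' →* Ω'}
    (h : Corr a φ φ') : P' ≤ S' := by rw [h.2.2.1]; exact img_le a P

theorem Corr.mem' {a : S ≃* S'} {P : Subgroup Ω} {φ : P →* Ω} {P' : Subgroup Ω'} {φ' : P' →* Ω'}
    (h : Corr a φ φ') (y : P') : φ' y ∈ S' := by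
  obtain ⟨x, hx⟩ := h.exists_rep y
  rw [h.apply' x y hx]; exact FusTr.fwd_mem a _

theorem Corr.symm {a : S ≃* S'} {P : Subgroup Ω} {φ : P →* Ω} {P' : Subgroup Ω'} {φ' : P' →* Ω'}
    (h : Corr a φ φ') : Corr a.symm φ' φ := by
  refine ⟨h.le', h.mem', ?_, fun y hy => ?_⟩
  · rw [h.2.2.1, img_img a h.1]
  · obtain ⟨x, hx⟩ := h.exists_rep y
    rw [h.apply' x y hx, bwd_fwd a (h.2.1 x)]
    congr 1
    apply Subtype.ext
    show fwd a.symm y = x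
    rw [← hx, bwd_fwd a (h.1 x.2)]

theorem Corr.of_symm {a : S ≃* S'} {P : Subgroup Ω} {φ : P →* Ω} {P' : Subgroup Ω'}
    {φ' : P' →* Ω'} (h : Corr a.symm φ' φ) : Corr a φ φ' := h.symm

theorem exists_corr_symm (a : S ≃* S') {P' : Subgroup Ω'} (hP' : P' ≤ S') (φ' : P' →* Ω')
    (hφ' : ∀ y : P', φ' y ∈ S') :
    ∃ φ : img a.symm P' →* Ω, Corr a φ φ' := by
  obtain ⟨φ, hφ⟩ := exists_corr a.symm hP' φ' hφ' (rfl : img a.symm P' = img a.symm P')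
  exact ⟨φ, hφ.symm⟩

theorem Corr.source_eq {a : S ≃* S'} {P₁ P₂ : Subgroup Ω} {φ₁ : P₁ →* Ω} {φ₂ : P₂ →* Ω}
    {P' : Subgroup Ω'} {φ' : P' →* Ω'} (h1 : Corr a φ₁ φ') (h2 : Corr a φ₂ φ') : P₁ = P₂ :=
  img_inj a h1.1 h2.1 (h1.2.2.1.symm.trans h2.2.2.1)

theorem Corr.unique_left {a : S ≃* S'} {P : Subgroup Ω} {φ₁ φ₂ : P →* Ω}
    {P' : Subgroup Ω'} {φ' : P' →* Ω'} (h1 : Corr a φ₁ φ') (h2 : Corr a φ₂ φ') : φ₁ = φ₂ :=
  Corr.unique h1.symm h2.symm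

theorem Corr.range {a : S ≃* S'} {P : Subgroup Ω} {φ : P →* Ω} {P' : Subgroup Ω'} {φ' : P' →* Ω'}
    (h : Corr a φ φ') : φ'.range = img a φ.range := by
  ext y'
  rw [mem_img]
  constructor
  · rintro ⟨y, rfl⟩
    obtain ⟨x, hx⟩ := h.exists_rep y
    exact ⟨φ x, ⟨x, rfl⟩, h.2.1 x, (h.apply' x y hx).symm⟩
  · rintro ⟨z, ⟨x, rfl⟩, -, rfl⟩
    exact ⟨⟨fwd a x, h.fwd_mem x⟩, h.apply x _⟩

/-- frozen `InducedAlong` in terms of `Corr` -/
theorem corr_of_inducedAlong (a : S ≃* S') {P : Subgroup Ω} {φ : P →* Ω}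
    {φ' : img a P →* Ω'} (h : FusionSystem.InducedAlong (iota a) φ φ') : Corr a φ φ' := by
  obtain ⟨hP, hφ, hP', heq⟩ := h
  refine ⟨hP, hφ, rfl, fun x hx => ?_⟩
  have e1 : fwd a (x : Ω) = iota a ⟨x, hP x.2⟩ := fwd_of_mem a (hP x.2)
  have e2 : fwd a (φ x) = iota a ⟨φ x, hφ x⟩ := fwd_of_mem a (hφ x)
  rw [e2, ← heq x]
  exact congrArg φ' (Subtype.ext e1)

theorem inducedAlong_of_corr (a : S ≃* S') {P : Subgroup Ω} {φ : P →* Ω} {P' : Subgroup Ω'}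
    {φ' : P' →* Ω'} (h : Corr a φ φ') : FusionSystem.InducedAlong (iota a) φ φ' := by
  have e1 : ∀ x : P, fwd a (x : Ω) = iota a ⟨x, h.1 x.2⟩ := fun x => fwd_of_mem a (h.1 x.2)
  have e2 : ∀ x : P, fwd a (φ x) = iota a ⟨φ x, h.2.1 x⟩ := fun x => fwd_of_mem a (h.2.1 x)
  have hP' : ∀ x : P, iota a ⟨x, h.1 x.2⟩ ∈ P' := fun x => by rw [← e1 x]; exact h.fwd_mem x
  refine ⟨h.1, h.2.1, hP', fun x => ?_⟩
  rw [← e2 x, ← h.apply x (h.fwd_mem x)]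
  exact congrArg φ' (Subtype.ext (e1 x).symm)

/-! ### the push-forward of a fusion system -/

/-- the push-forward of a fusion system `E` over `T ≤ S` along `a` -/
noncomputable def push (a : S ≃* S') {T : Subgroup Ω} (E : FusionSystem T) (hT : T ≤ S) :
    FusionSystem (img a T) where
  Hom P' := {φ' | ∃ (P : Subgroup Ω) (φ : P →* Ω), φ ∈ E.Hom P ∧ Corr a φ φ'}
  le_of_mem := by
    rintro P' φ' ⟨P, φ, hφ, hc⟩
    have hPT := (E.le_of_mem hφ).1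
    refine ⟨?_, fun y => ?_⟩
    · rw [hc.2.2.1]; exact img_mono a hPT
    · obtain ⟨x, hx⟩ := hc.exists_rep y
      rw [hc.apply' x y hx]
      exact fwd_mem_img a ((E.le_of_mem hφ).2 x) (hc.2.1 x)
  injective_of_mem := by
    rintro P' φ' ⟨P, φ, hφ, hc⟩ y₁ y₂ h
    obtain ⟨x₁, hx₁⟩ := hc.exists_rep y₁
    obtain ⟨x₂, hx₂⟩ := hc.exists_rep y₂
    rw [hc.apply' x₁ y₁ hx₁, hc.apply' x₂ y₂ hx₂] at h
    have h2 := fwd_injOn a (hc.2.1 x₁) (hc.2.1 x₂) h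
    have h3 := E.injective_of_mem hφ h2
    apply Subtype.ext
    rw [← hx₁, ← hx₂, h3]
  conj_mem := by
    intro P' g' hP' hg'
    obtain ⟨g, hgT, hgS, rfl⟩ := (mem_img a T g').1 hg'
    have hP'S : P' ≤ S' := hP'.trans (img_le a T)
    have hPT : img a.symm P' ≤ T := (img_mono a.symm hP').trans (img_img a hT).le
    have hPS : img a.symm P' ≤ S := img_le a.symm P'
    refine ⟨img a.symm P', conjHom (img a.symm P') g, E.conj_mem hPT hgT, hPS, fun x => ?_,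
      (img_img' a hP'S).symm, fun x hx => ?_⟩
    · show g * (x : Ω) * g⁻¹ ∈ S
      exact S.mul_mem (S.mul_mem hgS (hPS x.2)) (S.inv_mem hgS)
    · show fwd a g * fwd a x * (fwd a g)⁻¹ = fwd a (g * (x : Ω) * g⁻¹)
      rw [fwd_conj a hgS (hPS x.2)]
  comp_mem := by
    rintro P' Q' φ' ψ' ⟨P, φ, hφ, cφ⟩ ⟨Q, ψ, hψ, cψ⟩ h
    have hPQ : ∀ x : P, φ x ∈ Q := by
      intro x
      have h1 := h ⟨fwd a x, cφ.fwd_mem x⟩
      rw [cφ.apply x _, cψ.2.2.1] at h1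
      exact (fwd_mem_img_iff a cψ.1 (cφ.2.1 x)).1 h1
    refine ⟨P, ψ.comp (φ.codRestrict Q hPQ), E.comp_mem hφ hψ hPQ, cφ.1, fun x => cψ.2.1 _,
      cφ.2.2.1, fun x hx => ?_⟩
    show ψ' ⟨φ' ⟨fwd a x, hx⟩, _⟩ = fwd a (ψ ⟨φ x, hPQ x⟩)
    exact cψ.apply' ⟨φ x, hPQ x⟩ _ (cφ.apply x hx).symm
  inv_mem := by
    rintro P' φ' ⟨P, φ, hφ, cφ⟩
    obtain ⟨ψ, hψ, hψx⟩ := E.inv_mem hφ
    have hQS : φ.range ≤ S := by
      rintro _ ⟨x, rfl⟩; exact cφ.2.1 x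
    have hψS : ∀ y : φ.range, ψ y ∈ S := fun y => hT ((E.le_of_mem hψ).2 y)
    obtain ⟨ψ', cψ⟩ := exists_corr a hQS ψ hψS cφ.range
    refine ⟨ψ', ⟨φ.range, ψ, hψ, cψ⟩, fun y => ?_⟩
    obtain ⟨x, hx⟩ := cφ.exists_rep y
    rw [cψ.apply' ⟨φ x, ⟨x, rfl⟩⟩ _ (cφ.apply' x y hx).symm, hψx x, hx]

theorem mem_push (a : S ≃* S') {T : Subgroup Ω} (E : FusionSystem T) (hT : T ≤ S)
    {P' : Subgroup Ω'} (φ' : P' →* Ω') :
    φ' ∈ (push a E hT).Hom P' ↔ ∃ (P : Subgroup Ω) (φ : P →* Ω), φ ∈ E.Hom P ∧ Corr a φ φ' :=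
  Iff.rfl

theorem mem_push_of_corr (a : S ≃* S') {T : Subgroup Ω} (E : FusionSystem T) (hT : T ≤ S)
    {P : Subgroup Ω} {φ : P →* Ω} {P' : Subgroup Ω'} {φ' : P' →* Ω'} (h : Corr a φ φ') :
    φ' ∈ (push a E hT).Hom P' ↔ φ ∈ E.Hom P := by
  constructor
  · rintro ⟨P₂, φ₂, hφ₂, c₂⟩
    have hP : P₂ = P := c₂.source_eq h
    subst hP
    rw [← c₂.unique_left h]; exact hφ₂
  · intro hφ
    exact ⟨P, φ, hφ, h⟩

/-- two fusion systems (over possibly different subgroups of the same group) with the same maps -/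
def SameSys {T₁ T₂ : Subgroup Ω} (E₁ : FusionSystem T₁) (E₂ : FusionSystem T₂) : Prop :=
  T₁ = T₂ ∧ ∀ P : Subgroup Ω, E₁.Hom P = E₂.Hom P

theorem fusionSystem_ext' {T : Subgroup Ω} (E₁ E₂ : FusionSystem T)
    (h : ∀ P, E₁.Hom P = E₂.Hom P) : E₁ = E₂ := by
  cases E₁; cases E₂
  simp only [FusionSystem.mk.injEq]
  funext P
  exact h P

theorem SameSys.elim {T₁ T₂ : Subgroup Ω} {E₁ : FusionSystem T₁} {E₂ : FusionSystem T₂}
    (h : SameSys E₁ E₂) (C : ∀ {T : Subgroup Ω}, FusionSystem T → Prop) (h1 : C E₁) : C E₂ := by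
  obtain ⟨hT, hH⟩ := h
  subst hT
  have : E₁ = E₂ := fusionSystem_ext' E₁ E₂ hH
  subst this
  exact h1

theorem SameSys.symm {T₁ T₂ : Subgroup Ω} {E₁ : FusionSystem T₁} {E₂ : FusionSystem T₂}
    (h : SameSys E₁ E₂) : SameSys E₂ E₁ := ⟨h.1.symm, fun P => (h.2 P).symm⟩

theorem SameSys.refl {T : Subgroup Ω} (E : FusionSystem T) : SameSys E E := ⟨rfl, fun _ => rfl⟩

theorem SameSys.trans {T₁ T₂ T₃ : Subgroup Ω} {E₁ : FusionSystem T₁} {E₂ : FusionSystem T₂}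
    {E₃ : FusionSystem T₃} (h : SameSys E₁ E₂) (h' : SameSys E₂ E₃) : SameSys E₁ E₃ :=
  ⟨h.1.trans h'.1, fun P => (h.2 P).trans (h'.2 P)⟩

/-- round trip -/
theorem push_push (a : S ≃* S') {T : Subgroup Ω} (E : FusionSystem T) (hT : T ≤ S) :
    SameSys (push a.symm (push a E hT) (img_le a T)) E := by
  refine ⟨img_img a hT, fun P => ?_⟩
  ext φ
  constructor
  · rintro ⟨P', φ', hφ', c⟩
    exact (mem_push_of_corr a E hT c.symm).1 hφ'
  · intro hφ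
    have hPS : P ≤ S := (E.le_of_mem hφ).1.trans hT
    have hφS : ∀ x : P, φ x ∈ S := fun x => hT ((E.le_of_mem hφ).2 x)
    obtain ⟨φ', c⟩ := exists_corr a hPS φ hφS (rfl : img a P = img a P)
    exact ⟨img a P, φ', ⟨P, φ, hφ, c⟩, c.symm⟩

theorem push_push' (a : S ≃* S') {T' : Subgroup Ω'} (E' : FusionSystem T') (hT' : T' ≤ S') :
    SameSys (push a (push a.symm E' hT') (img_le a.symm T')) E' := by
  refine ⟨img_img' a hT', fun P' => ?_⟩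
  ext φ'
  constructor
  · rintro ⟨P, φ, hφ, c⟩
    exact (mem_push_of_corr a.symm E' hT' c.symm).1 hφ
  · intro hφ'
    have hPS : P' ≤ S' := (E'.le_of_mem hφ').1.trans hT'
    have hφS : ∀ x : P', φ' x ∈ S' := fun x => hT' ((E'.le_of_mem hφ').2 x)
    obtain ⟨φ, c⟩ := exists_corr_symm a hPS φ' hφS
    exact ⟨img a.symm P', φ, ⟨P', φ', hφ', c.symm⟩, c⟩

theorem push_mono (a : S ≃* S') {T U : Subgroup Ω} (E : FusionSystem T) (D : FusionSystem U)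
    (hT : T ≤ S) (hU : U ≤ S) (h : E.IsSubsystemOf D) :
    (push a E hT).IsSubsystemOf (push a D hU) := by
  rintro P' φ' ⟨P, φ, hφ, c⟩
  exact ⟨P, φ, h P hφ, c⟩

theorem SameSys.push (a : S ≃* S') {T₁ T₂ : Subgroup Ω} {E₁ : FusionSystem T₁}
    {E₂ : FusionSystem T₂} (h : SameSys E₁ E₂) (hT₁ : T₁ ≤ S) (hT₂ : T₂ ≤ S) :
    SameSys (FusTr.push a E₁ hT₁) (FusTr.push a E₂ hT₂) := by
  obtain ⟨hT, hH⟩ := h
  subst hT
  have : E₁ = E₂ := fusionSystem_ext' E₁ E₂ hH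
  subst this
  exact SameSys.refl _

end Cfsg.Agent.Lib.Helper96.FusTr
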