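import Cfsg.Agent.Lib.Helper96.FusTr1
import Cfsg.Agent.Lib.Helper87.SylowRel

/-!
# Transport of fusion systems along `a : S ≃* S'` (part 2): conjugacy, automizers, saturation
-/

set_option autoImplicit false

namespace Cfsg.Agent.Lib.Helper96.FusTr

open Cfsg Cfsg.FusionSystem Cfsg.Agent.Lib.Helper87

variable {Ω : Type*} [Group Ω] {Ω' : Type*} [Group Ω'] {S : Subgroup Ω} {S' : Subgroup Ω'}

section
variable (a : S ≃* S') {T : Subgroup Ω} (E : FusionSystem T) (hT : T ≤ S)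

theorem push_isConj {P Q : Subgroup Ω} (h : E.IsConj P Q) :
    (push a E hT).IsConj (img a P) (img a Q) := by
  obtain ⟨φ, hφ, hr⟩ := h
  have hPS : P ≤ S := (hom_le E hφ).trans hT
  have hφS : ∀ x : P, φ x ∈ S := fun x => hT (hom_mem E hφ x)
  obtain ⟨φ', c⟩ := exists_corr a hPS φ hφS (rfl : img a P = img a P)
  exact ⟨φ', ⟨P, φ, hφ, c⟩, by rw [c.range, hr]⟩

theorem isConj_of_push {P' Q' : Subgroup Ω'} (h : (push a E hT).IsConj P' Q') :
    ∃ P Q, P ≤ T ∧ Q ≤ T ∧ P' = img a P ∧ Q' = img a Q ∧ E.IsConj P Q := by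
  obtain ⟨φ', ⟨P, φ, hφ, c⟩, hr⟩ := h
  refine ⟨P, φ.range, hom_le E hφ, ?_, c.2.2.1, ?_, φ, hφ, rfl⟩
  · rintro _ ⟨x, rfl⟩; exact hom_mem E hφ x
  · rw [← hr, c.range]

theorem corr_aut {P : Subgroup Ω} (hP : P ≤ S) (α : MulAut P) :
    Corr a (P.subtype.comp α.toMonoidHom)
      ((img a P).subtype.comp (MulAut.congr (resEquiv a hP) α).toMonoidHom) := by
  refine ⟨hP, fun x => hP (α x).2, rfl, fun x hx => ?_⟩
  show ((resEquiv a hP (α ((resEquiv a hP).symm ⟨fwd a x, hx⟩)) : img a P) : Ω') =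
    fwd a ((α x : P) : Ω)
  have : (resEquiv a hP).symm ⟨fwd a x, hx⟩ = x := by
    rw [MulEquiv.symm_apply_eq]; rfl
  rw [this]; rfl

theorem mem_autGroup_push_iff {P : Subgroup Ω} (hP : P ≤ T) (α : MulAut P) :
    MulAut.congr (resEquiv a (hP.trans hT)) α ∈ (push a E hT).autGroup (img a P) ↔
      α ∈ E.autGroup P := by
  rw [mem_autGroup_iff _ (img_mono a hP), mem_autGroup_iff E hP]
  exact mem_push_of_corr a E hT (corr_aut a (hP.trans hT) α)

theorem autGroup_push {P : Subgroup Ω} (hP : P ≤ T) :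
    (push a E hT).autGroup (img a P) =
      (E.autGroup P).map (MulAut.congr (resEquiv a (hP.trans hT))).toMonoidHom := by
  ext α'
  rw [Subgroup.mem_map]
  constructor
  · intro h
    refine ⟨(MulAut.congr (resEquiv a (hP.trans hT))).symm α', ?_,
      (MulAut.congr (resEquiv a (hP.trans hT))).apply_symm_apply α'⟩
    rw [← mem_autGroup_push_iff a E hT hP]
    rw [MulEquiv.apply_symm_apply]; exact h
  · rintro ⟨α, hα, rfl⟩
    exact (mem_autGroup_push_iff a E hT hP α).2 hα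

theorem autInducedBy_img {K P : Subgroup Ω} (hK : K ≤ S) (hP : P ≤ S) :
    autInducedBy (img a K) (img a P) =
      (autInducedBy K P).map (MulAut.congr (resEquiv a hP)).toMonoidHom := by
  ext α'
  rw [Subgroup.mem_map, mem_autInducedBy_iff]
  constructor
  · rintro ⟨g', hg', h⟩
    obtain ⟨g, hgK, hgS, rfl⟩ := (mem_img a K g').1 hg'
    refine ⟨(MulAut.congr (resEquiv a hP)).symm α', mem_autInducedBy_iff.2 ⟨g, hgK, fun x => ?_⟩,
      (MulAut.congr (resEquiv a hP)).apply_symm_apply α'⟩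
    show fwd a.symm ((α' (resEquiv a hP x) : img a P) : Ω') = _
    rw [h, resEquiv_apply, ← fwd_conj a hgS (hP x.2),
      bwd_fwd a (S.mul_mem (S.mul_mem hgS (hP x.2)) (S.inv_mem hgS))]
  · rintro ⟨α, hα, rfl⟩
    obtain ⟨g, hgK, h⟩ := mem_autInducedBy_iff.1 hα
    refine ⟨fwd a g, fwd_mem_img a hgK (hK hgK), fun y => ?_⟩
    show fwd a ((α ((resEquiv a hP).symm y) : P) : Ω) = _
    have hyS : fwd a.symm (y : Ω') ∈ S := fwd_mem a.symm _
    rw [h, resEquiv_symm_apply, fwd_conj a (hK hgK) hyS, fwd_bwd a (img_le a P y.2)]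

end

theorem sylowRel_map {G G' : Type*} [Group G] [Group G'] {p : ℕ} (Φ : G ≃* G') (A B : Subgroup G)
    (hBA : B ≤ A) (h : ∃ R : Sylow p A, (R : Subgroup A) = B.subgroupOf A) :
    ∃ R' : Sylow p (A.map Φ.toMonoidHom),
      (R' : Subgroup (A.map Φ.toMonoidHom)) = (B.map Φ.toMonoidHom).subgroupOf (A.map Φ.toMonoidHom) := by
  rw [sylow_subgroupOf_iff _ _ hBA] at h
  rw [sylow_subgroupOf_iff _ _ (Subgroup.map_mono hBA)]
  obtain ⟨hBp, hmax⟩ := h
  refine ⟨hBp.map _, fun C' hC' hBC' hC'A => ?_⟩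
  have h1 : IsPGroup p (C'.comap Φ.toMonoidHom) := hC'.comap_of_injective _ Φ.injective
  have h2 : B ≤ C'.comap Φ.toMonoidHom := Subgroup.map_le_iff_le_comap.1 hBC'
  have h3 : C'.comap Φ.toMonoidHom ≤ A := by
    intro x hx
    obtain ⟨y, hy, hxy⟩ := hC'A hx
    have : y = x := Φ.injective hxy
    rwa [← this]
  have h4 := hmax _ h1 h2 h3
  rw [← h4, Subgroup.map_comap_eq_self_of_surjective Φ.surjective]

section
variable (a : S ≃* S') {T : Subgroup Ω} (E : FusionSystem T) (hT : T ≤ S)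

theorem push_isFullyAutomized {p : ℕ} {Q : Subgroup Ω} (h : E.IsFullyAutomized p Q) :
    (push a E hT).IsFullyAutomized p (img a Q) := by
  obtain ⟨hQ, hR⟩ := h
  refine ⟨img_mono a hQ, ?_⟩
  have := sylowRel_map (MulAut.congr (resEquiv a (hQ.trans hT))) (E.autGroup Q)
    (autInducedBy T Q) (autInducedBy_le_autGroup E hQ) hR
  rw [← autGroup_push a E hT hQ, ← autInducedBy_img a hT (hQ.trans hT)] at this
  exact this

theorem img_extender_le {T : Subgroup Ω} (hT : T ≤ S) {P : Subgroup Ω} {φ : P →* Ω}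
    {P' : Subgroup Ω'} {φ' : P' →* Ω'} (c : Corr a φ φ') :
    img a (extender T P φ) ≤ extender (img a T) P' φ' := by
  intro g' hg'
  obtain ⟨g, hg, hgS, rfl⟩ := (mem_img a _ g').1 hg'
  rw [mem_extender_iff] at hg ⊢
  obtain ⟨hgT, hgN, h, hhT, hh⟩ := hg
  refine ⟨fwd_mem_img a hgT hgS, ?_, fwd a h, fwd_mem_img a hhT (hT hhT), fun y hy => ?_⟩
  · rw [Subgroup.mem_normalizer_iff]
    intro y
    by_cases hyS : y ∈ S'
    · have hy : y = fwd a (fwd a.symm y) := (fwd_bwd a hyS).symm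
      have hbS : fwd a.symm y ∈ S := fwd_mem a.symm y
      rw [hy, ← fwd_conj a hgS hbS, c.2.2.1, fwd_mem_img_iff a c.1 hbS,
        fwd_mem_img_iff a c.1 (S.mul_mem (S.mul_mem hgS hbS) (S.inv_mem hgS))]
      exact Subgroup.mem_normalizer_iff.1 hgN _
    · constructor
      · intro h; exact absurd (c.le' h) hyS
      · intro h
        exfalso; apply hyS
        have hg' := fwd_mem a g
        have h2 := c.le' h
        have : y = (fwd a g)⁻¹ * (fwd a g * y * (fwd a g)⁻¹) * fwd a g := by group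
        rw [this]; exact S'.mul_mem (S'.mul_mem (S'.inv_mem hg') h2) hg'
  · obtain ⟨x, hx⟩ := c.exists_rep y
    have hxS := c.1 x.2
    have hconj : g * (x : Ω) * g⁻¹ ∈ P := (Subgroup.mem_normalizer_iff.1 hgN x).1 x.2
    have e1 : fwd a (g * x * g⁻¹) = fwd a g * (y : Ω') * (fwd a g)⁻¹ := by
      rw [← hx, fwd_conj a hgS hxS]
    rw [c.apply' ⟨g * x * g⁻¹, hconj⟩ ⟨_, hy⟩ e1, hh x hconj, c.apply' x y hx,
      fwd_conj a (hT hhT) (c.2.1 x)]

theorem extender_push {T : Subgroup Ω} (hT : T ≤ S) {P : Subgroup Ω} {φ : P →* Ω}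
    {P' : Subgroup Ω'} {φ' : P' →* Ω'} (c : Corr a φ φ') :
    extender (img a T) P' φ' = img a (extender T P φ) := by
  apply le_antisymm
  · have h1 := img_extender_le a.symm (img_le a T) c.symm
    rw [img_img a hT] at h1
    have hle : extender (img a T) P' φ' ≤ S' :=
      (extender_le _ _ _).trans ((normalizerIn_le _ _).trans (img_le a T))
    calc extender (img a T) P' φ' = img a (img a.symm (extender (img a T) P' φ')) :=
          (img_img' a hle).symm
      _ ≤ img a (extender T P φ) := img_mono a h1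
  · exact img_extender_le a hT c

theorem push_isReceptive {Q : Subgroup Ω} (h : E.IsReceptive Q) :
    (push a E hT).IsReceptive (img a Q) := by
  obtain ⟨hQ, hext⟩ := h
  refine ⟨img_mono a hQ, ?_⟩
  rintro P' φ' ⟨P, φ, hφ, c⟩ hr
  have hr2 : φ.range = Q := by
    apply img_inj a ?_ (hQ.trans hT)
    · rw [← c.range, hr]
    · rintro _ ⟨x, rfl⟩; exact c.2.1 x
  obtain ⟨ψ, hψ, hψx⟩ := hext P φ hφ hr2
  have hN : extender (img a T) P' φ' = img a (extender T P φ) := extender_push a hT c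
  have hNS : extender T P φ ≤ S := (hom_le E hψ).trans hT
  obtain ⟨ψ', cψ⟩ := exists_corr a hNS ψ (fun x => hT (hom_mem E hψ x)) hN
  refine ⟨ψ', ⟨_, ψ, hψ, cψ⟩, fun y hyP hyN => ?_⟩
  obtain ⟨x, hx⟩ := c.exists_rep ⟨y, hyP⟩
  have hx' : fwd a (x : Ω) = y := hx
  have hxN : (x : Ω) ∈ extender T P φ := by
    have h2 := hyN
    rw [hN, ← hx'] at h2
    exact (fwd_mem_img_iff a hNS (c.1 x.2)).1 h2
  rw [cψ.apply' ⟨x, hxN⟩ ⟨y, hyN⟩ hx', hψx x x.2 hxN, c.apply' x ⟨y, hyP⟩ hx]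

theorem push_isSaturated {p : ℕ} (h : E.IsSaturated p) : (push a E hT).IsSaturated p := by
  intro P' hP'
  have hPT : img a.symm P' ≤ T := (img_mono a.symm hP').trans (img_img a hT).le
  obtain ⟨Q, hc, hfa, hr⟩ := h _ hPT
  refine ⟨img a Q, ?_, push_isFullyAutomized a E hT hfa, push_isReceptive a E hT hr⟩
  have := push_isConj a E hT hc
  rwa [img_img' a (hP'.trans (img_le a T))] at this

end

end Cfsg.Agent.Lib.Helper96.FusTr
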