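import Cfsg.Agent.Lib.Helper96.FusTr2

/-!
# Transport of fusion systems along `a : S ≃* S'` (part 3): strongly closed subgroups,
invariant, weakly normal, normal and subnormal subsystems
-/

set_option autoImplicit false

namespace Cfsg.Agent.Lib.Helper96.FusTr

open Cfsg Cfsg.FusionSystem Cfsg.Agent.Lib.Helper87

variable {Ω : Type*} [Group Ω] {Ω' : Type*} [Group Ω'] {S : Subgroup Ω} {S' : Subgroup Ω'}

/-- restriction of `a` to `Q ≤ S` onto any subgroup equal to its image -/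
noncomputable def resEquiv' (a : S ≃* S') {Q : Subgroup Ω} (hQ : Q ≤ S) {Q' : Subgroup Ω'}
    (h : Q' = img a Q) : Q ≃* Q' :=
  (resEquiv a hQ).trans (MulEquiv.subgroupCongr h.symm)

theorem resEquiv'_apply (a : S ≃* S') {Q : Subgroup Ω} (hQ : Q ≤ S) {Q' : Subgroup Ω'}
    (h : Q' = img a Q) (x : Q) : ((resEquiv' a hQ h x : Q') : Ω') = fwd a x := rfl

theorem resEquiv'_symm_apply (a : S ≃* S') {Q : Subgroup Ω} (hQ : Q ≤ S) {Q' : Subgroup Ω'}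
    (h : Q' = img a Q) (y : Q') : (((resEquiv' a hQ h).symm y : Q) : Ω) = fwd a.symm y := rfl

theorem resEquiv'_symm_mk (a : S ≃* S') {Q : Subgroup Ω} (hQ : Q ≤ S) {Q' : Subgroup Ω'}
    (h : Q' = img a Q) (x : Q) (hx : fwd a (x : Ω) ∈ Q') :
    (resEquiv' a hQ h).symm ⟨fwd a x, hx⟩ = x := by
  rw [MulEquiv.symm_apply_eq]; rfl

theorem congr_apply_fwd (a : S ≃* S') {Q : Subgroup Ω} (hQ : Q ≤ S) {Q' : Subgroup Ω'}
    (h : Q' = img a Q) (α : MulAut Q) (x : Q) (hx : fwd a (x : Ω) ∈ Q') :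
    ((MulAut.congr (resEquiv' a hQ h) α ⟨fwd a x, hx⟩ : Q') : Ω') = fwd a ((α x : Q) : Ω) := by
  show ((resEquiv' a hQ h (α ((resEquiv' a hQ h).symm ⟨fwd a x, hx⟩)) : Q') : Ω') = _
  rw [resEquiv'_symm_mk]; rfl

theorem congr_apply_fwd' (a : S ≃* S') {Q : Subgroup Ω} (hQ : Q ≤ S) {Q' : Subgroup Ω'}
    (h : Q' = img a Q) (α : MulAut Q) (x : Q) (y : Q') (hxy : fwd a (x : Ω) = y) :
    ((MulAut.congr (resEquiv' a hQ h) α y : Q') : Ω') = fwd a ((α x : Q) : Ω) := by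
  have : y = ⟨fwd a x, hxy ▸ y.2⟩ := Subtype.ext hxy.symm
  rw [this]; exact congr_apply_fwd a hQ h α x _

theorem corr_aut' (a : S ≃* S') {Q : Subgroup Ω} (hQ : Q ≤ S) {Q' : Subgroup Ω'}
    (h : Q' = img a Q) (α : MulAut Q) :
    Corr a (Q.subtype.comp α.toMonoidHom)
      (Q'.subtype.comp (MulAut.congr (resEquiv' a hQ h) α).toMonoidHom) :=
  ⟨hQ, fun x => hQ (α x).2, h, fun x hx => congr_apply_fwd a hQ h α x hx⟩

section
variable (a : S ≃* S') {U : Subgroup Ω} (D : FusionSystem U) (hU : U ≤ S)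

theorem mem_autGroup_push_iff' {Q : Subgroup Ω} (hQ : Q ≤ U) {Q' : Subgroup Ω'}
    (h : Q' = img a Q) (α : MulAut Q) :
    MulAut.congr (resEquiv' a (hQ.trans hU) h) α ∈ (push a D hU).autGroup Q' ↔
      α ∈ D.autGroup Q := by
  have hQ' : Q' ≤ img a U := h ▸ img_mono a hQ
  rw [mem_autGroup_iff _ hQ', mem_autGroup_iff D hQ]
  exact mem_push_of_corr a D hU (corr_aut' a (hQ.trans hU) h α)

theorem exists_of_mem_autGroup_push {Q : Subgroup Ω} (hQ : Q ≤ U) {Q' : Subgroup Ω'}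
    (h : Q' = img a Q) {α' : MulAut Q'} (hα' : α' ∈ (push a D hU).autGroup Q') :
    ∃ α ∈ D.autGroup Q, MulAut.congr (resEquiv' a (hQ.trans hU) h) α = α' := by
  refine ⟨(MulAut.congr (resEquiv' a (hQ.trans hU) h)).symm α', ?_,
    (MulAut.congr (resEquiv' a (hQ.trans hU) h)).apply_symm_apply α'⟩
  rw [← mem_autGroup_push_iff' a D hU hQ h, MulEquiv.apply_symm_apply]
  exact hα'

theorem push_stronglyClosed {R : Subgroup Ω} (h : D.StronglyClosed R) :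
    (push a D hU).StronglyClosed (img a R) := by
  obtain ⟨hR, hcl⟩ := h
  refine ⟨img_mono a hR, ?_⟩
  rintro R₀' hR₀' φ' ⟨R₀, φ, hφ, c⟩ y
  have hR₀ : R₀ ≤ R := by
    rw [c.2.2.1] at hR₀'
    exact (img_le_iff a c.1 (hR.trans hU)).1 hR₀'
  obtain ⟨x, hx⟩ := c.exists_rep y
  rw [c.apply' x y hx]
  exact fwd_mem_img a (hcl R₀ hR₀ φ hφ x) (c.2.1 x)

end

/-- `α(P)` for `α ∈ Aut(T)`, as in the frozen definition of invariance -/
abbrev amap {T : Subgroup Ω} (α : MulAut T) (P : Subgroup Ω) : Subgroup Ω :=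
  (P.subgroupOf T).map (T.subtype.comp α.toMonoidHom)

theorem mem_amap {T : Subgroup Ω} (α : MulAut T) (P : Subgroup Ω) (z : Ω) :
    z ∈ amap α P ↔ ∃ t : T, (t : Ω) ∈ P ∧ ((α t : T) : Ω) = z := by
  show z ∈ (P.subgroupOf T).map (T.subtype.comp α.toMonoidHom) ↔ _
  rw [Subgroup.mem_map]
  constructor
  · rintro ⟨t, ht, rfl⟩
    exact ⟨t, Subgroup.mem_subgroupOf.1 ht, rfl⟩
  · rintro ⟨t, ht, rfl⟩
    exact ⟨t, Subgroup.mem_subgroupOf.2 ht, rfl⟩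

theorem amap_le {T : Subgroup Ω} (α : MulAut T) (P : Subgroup Ω) : amap α P ≤ T := by
  intro z hz
  obtain ⟨t, -, rfl⟩ := (mem_amap α P z).1 hz
  exact (α t).2

theorem amap_push (a : S ≃* S') {T : Subgroup Ω} (hT : T ≤ S) (α : MulAut T) {P : Subgroup Ω}
    (hP : P ≤ T) :
    amap (MulAut.congr (resEquiv' a hT (rfl : img a T = img a T)) α) (img a P) =
      img a (amap α P) := by
  ext z'
  rw [mem_amap, mem_img]
  constructor
  · rintro ⟨t', ht', rfl⟩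
    obtain ⟨x, hxP, hxS, hx⟩ := (mem_img a P _).1 ht'
    have hxT : x ∈ T := hP hxP
    refine ⟨((α ⟨x, hxT⟩ : T) : Ω), (mem_amap α P _).2 ⟨⟨x, hxT⟩, hxP, rfl⟩, hT (α ⟨x, hxT⟩).2, ?_⟩
    exact (congr_apply_fwd' a hT rfl α ⟨x, hxT⟩ t' hx).symm
  · rintro ⟨z, hz, -, rfl⟩
    obtain ⟨t, htP, rfl⟩ := (mem_amap α P z).1 hz
    refine ⟨⟨fwd a t, fwd_mem_img a t.2 (hT t.2)⟩, fwd_mem_img a htP (hT t.2), ?_⟩
    exact congr_apply_fwd a hT rfl α t _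

theorem img_centralizerIn (a : S ≃* S') {U T : Subgroup Ω} (_hU : U ≤ S) (hT : T ≤ S) :
    img a (centralizerIn U T) = centralizerIn (img a U) (img a T) := by
  ext y
  rw [mem_img, mem_centralizerIn]
  constructor
  · rintro ⟨x, hx, hxS, rfl⟩
    rw [mem_centralizerIn] at hx
    refine ⟨fwd_mem_img a hx.1 hxS, fun t' ht' => ?_⟩
    obtain ⟨t, htT, htS, rfl⟩ := (mem_img a T t').1 ht'
    rw [← fwd_mul a htS hxS, ← fwd_mul a hxS htS, hx.2 t htT]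
  · rintro ⟨hyU, hc⟩
    obtain ⟨x, hxU, hxS, rfl⟩ := (mem_img a U y).1 hyU
    refine ⟨x, mem_centralizerIn.2 ⟨hxU, fun t htT => ?_⟩, hxS, rfl⟩
    have h1 := hc (fwd a t) (fwd_mem_img a htT (hT htT))
    rw [← fwd_mul a (hT htT) hxS, ← fwd_mul a hxS (hT htT)] at h1
    exact fwd_injOn a (S.mul_mem (hT htT) hxS) (S.mul_mem hxS (hT htT)) h1

section
variable (a : S ≃* S') {T U : Subgroup Ω} (E : FusionSystem T) (D : FusionSystem U)
  (hT : T ≤ S) (hU : U ≤ S)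

theorem push_isInvariantIn (h : E.IsInvariantIn D) :
    (push a E hT).IsInvariantIn (push a D hU) := by
  obtain ⟨h1, h2, h3, h4⟩ := h
  have hTU : T ≤ U := h2.1
  refine ⟨push_mono a E D hT hU h1, push_stronglyClosed a D hU h2, ?_, ?_⟩
  · rintro P' hPT' φ' ⟨P, φ, hφ, c⟩ α' hα'
    obtain ⟨α, hα, rfl⟩ := exists_of_mem_autGroup_push a D hU hTU rfl hα'
    have hPT : P ≤ T := hom_le E hφ
    obtain ⟨χ, hχ, hχx⟩ := h3 P hPT φ hφ α hα
    have hsrc : amap (MulAut.congr (resEquiv' a (hTU.trans hU) rfl) α) P' = img a (amap α P) := by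
      rw [c.2.2.1]; exact amap_push a hT α hPT
    have hχS : ∀ z : amap α P, χ z ∈ S := fun z => hT (hom_mem E hχ z)
    obtain ⟨χ', cχ⟩ := exists_corr a ((amap_le α P).trans hT) χ hχS hsrc
    refine ⟨χ', ⟨_, χ, hχ, cχ⟩, fun y hφy hαy => ?_⟩
    obtain ⟨x, hx⟩ := c.exists_rep y
    have hφxT : φ x ∈ T := hom_mem E hφ x
    have e1 : fwd a (((α ⟨x, hPT x.2⟩ : T)) : Ω) =
        ((MulAut.congr (resEquiv' a (hTU.trans hU) rfl) α ⟨y, hPT' y.2⟩ : img a T) : Ω') :=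
      (congr_apply_fwd' a hT rfl α ⟨x, hPT x.2⟩ ⟨y, hPT' y.2⟩ hx).symm
    have hαx : ((α ⟨x, hPT x.2⟩ : T) : Ω) ∈ amap α P :=
      (mem_amap α P _).2 ⟨⟨x, hPT x.2⟩, x.2, rfl⟩
    rw [cχ.apply' ⟨_, hαx⟩ ⟨_, hαy⟩ e1, hχx x hφxT hαx]
    have e2 : fwd a (φ x) = φ' y := (c.apply' x y hx).symm
    exact (congr_apply_fwd' a hT rfl α ⟨φ x, hφxT⟩ ⟨φ' y, hφy⟩ e2).symm
  · rintro P' hPT' φ' ⟨P, φ, hφ, c⟩
    have hPT : P ≤ T := by
      rw [c.2.2.1] at hPT'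
      exact (img_le_iff a c.1 hT).1 hPT'
    obtain ⟨α, hα, φ₀, hφ₀, hφ₀x⟩ := h4 P hPT φ hφ
    obtain ⟨φ₀', c₀⟩ := exists_corr a c.1 φ₀ (fun x => hT (hom_mem E hφ₀ x)) c.2.2.1
    refine ⟨MulAut.congr (resEquiv' a (hTU.trans hU) rfl) α,
      (mem_autGroup_push_iff' a D hU hTU rfl α).2 hα, φ₀', ⟨P, φ₀, hφ₀, c₀⟩, fun y hy => ?_⟩
    obtain ⟨x, hx⟩ := c.exists_rep y
    have hφ₀xT : φ₀ x ∈ T := hom_mem E hφ₀ x
    rw [c.apply' x y hx, hφ₀x x hφ₀xT]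
    have e2 : fwd a (φ₀ x) = φ₀' y := (c₀.apply' x y hx).symm
    exact (congr_apply_fwd' a hT rfl α ⟨φ₀ x, hφ₀xT⟩ ⟨φ₀' y, hy⟩ e2).symm

theorem push_isWeaklyNormalIn {p : ℕ} (h : E.IsWeaklyNormalIn D p) :
    (push a E hT).IsWeaklyNormalIn (push a D hU) p :=
  ⟨push_isSaturated a E hT h.1, push_isSaturated a D hU h.2.1, push_isInvariantIn a E D hT hU h.2.2⟩

theorem push_isNormalIn {p : ℕ} (h : E.IsNormalIn D p) :
    (push a E hT).IsNormalIn (push a D hU) p := by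
  obtain ⟨hw, hext⟩ := h
  have hTU : T ≤ U := hw.2.2.2.1.1
  refine ⟨push_isWeaklyNormalIn a E D hT hU hw, ?_⟩
  intro α' hα'
  obtain ⟨α, hα, rfl⟩ := exists_of_mem_autGroup_push a E hT le_rfl rfl hα'
  obtain ⟨β, hβ, hβT, hβC⟩ := hext α hα
  have hC : centralizerIn (img a U) (img a T) = img a (centralizerIn U T) :=
    (img_centralizerIn a hU hT).symm
  have hCU : centralizerIn U T ≤ U := centralizerIn_le U T
  have hTCU : T ⊔ centralizerIn U T ≤ U := sup_le hTU hCU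
  have hsup : img a T ⊔ centralizerIn (img a U) (img a T) = img a (T ⊔ centralizerIn U T) := by
    rw [hC, img_sup a hT (hCU.trans hU)]
  refine ⟨MulAut.congr (resEquiv' a (hTCU.trans hU) hsup) β,
    (mem_autGroup_push_iff' a D hU hTCU hsup β).2 hβ, fun y => ?_, fun c' hc' => ?_⟩
  · obtain ⟨x, hx⟩ : ∃ x : T, fwd a (x : Ω) = y := by
      obtain ⟨x, hxT, -, hx⟩ := (mem_img a T y).1 y.2
      exact ⟨⟨x, hxT⟩, hx⟩
    have e1 : fwd a ((Subgroup.inclusion (le_sup_left : T ≤ T ⊔ centralizerIn U T) x :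
        ↥(T ⊔ centralizerIn U T)) : Ω) =
        ((Subgroup.inclusion (le_sup_left : img a T ≤ img a T ⊔ centralizerIn (img a U) (img a T)) y :
          ↥(img a T ⊔ centralizerIn (img a U) (img a T))) : Ω') := hx
    rw [congr_apply_fwd' a (hTCU.trans hU) hsup β _ _ e1, hβT x]
    exact (congr_apply_fwd' a hT rfl α x y hx).symm
  · have hc'' : (c' : Ω') ∈ img a (centralizerIn U T) := hC ▸ hc'
    obtain ⟨x, hxC, hxS, hx⟩ := (mem_img a _ _).1 hc''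
    have hxTC : x ∈ T ⊔ centralizerIn U T := (le_sup_right : centralizerIn U T ≤ _) hxC
    have e1 : fwd a ((⟨x, hxTC⟩ : ↥(T ⊔ centralizerIn U T)) : Ω) = (c' : Ω') := hx
    rw [congr_apply_fwd' a (hTCU.trans hU) hsup β ⟨x, hxTC⟩ c' e1]
    have hβx := hβC ⟨x, hxTC⟩ hxC
    have hβS : ((β ⟨x, hxTC⟩ : ↥(T ⊔ centralizerIn U T)) : Ω) ∈ S := hU (hTCU (β ⟨x, hxTC⟩).2)
    have e2 : (c' : Ω')⁻¹ * fwd a ((β ⟨x, hxTC⟩ : ↥(T ⊔ centralizerIn U T)) : Ω) =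
        fwd a (x⁻¹ * ((β ⟨x, hxTC⟩ : ↥(T ⊔ centralizerIn U T)) : Ω)) := by
      rw [fwd_mul a (S.inv_mem hxS) hβS, fwd_inv a hxS, hx]
    rw [e2]
    have hz := hβx
    rw [Subgroup.mem_inf] at hz ⊢
    have hzS : x⁻¹ * ((β ⟨x, hxTC⟩ : ↥(T ⊔ centralizerIn U T)) : Ω) ∈ S := hT hz.1
    refine ⟨fwd_mem_img a hz.1 hzS, ?_⟩
    rw [Subgroup.mem_centralizer_iff]
    intro t' ht'
    obtain ⟨t, htT, htS, rfl⟩ := (mem_img a T t').1 ht'
    rw [← fwd_mul a htS hzS, ← fwd_mul a hzS htS, (Subgroup.mem_centralizer_iff.1 hz.2) t htT]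

end

theorem push_isSubnormalIn (a : S ≃* S') {p : ℕ} {T S₀ : Subgroup Ω} {E : FusionSystem T}
    {F : FusionSystem S₀} (h : E.IsSubnormalIn F p) :
    ∀ (hT : T ≤ S) (hS₀ : S₀ ≤ S), (push a E hT).IsSubnormalIn (push a F hS₀) p := by
  induction h with
  | refl F p => intro hT hS₀; exact IsSubnormalIn.refl _ _
  | step hED hDF ih =>
    intro hT hS₀
    have hU := hDF.1.2.2.2.1.1.trans hS₀
    exact IsSubnormalIn.step (ih hT hU) (push_isNormalIn a _ _ hU hS₀ hDF)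

end Cfsg.Agent.Lib.Helper96.FusTr
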