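import Cfsg.Agent.Lib.Helper96.FusTr3

/-!
# Transport of fusion systems along `a : S ≃* S'` (part 4): centre, hyperfocal subgroup,
simple systems
-/

set_option autoImplicit false

namespace Cfsg.Agent.Lib.Helper96.FusTr

open Cfsg Cfsg.FusionSystem Cfsg.Agent.Lib.Helper87

variable {Ω : Type*} [Group Ω] {Ω' : Type*} [Group Ω'] {S : Subgroup Ω} {S' : Subgroup Ω'}

section
variable (a : S ≃* S') {U : Subgroup Ω} (C : FusionSystem U) (hU : U ≤ S)

theorem push_isCentral {Q : Subgroup Ω} (h : C.IsCentral Q) :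
    (push a C hU).IsCentral (img a Q) := by
  obtain ⟨hQ, hext⟩ := h
  refine ⟨img_mono a hQ, ?_⟩
  rintro P' φ' ⟨P, φ, hφ, c⟩
  obtain ⟨ψ, hψ, hψP, hψQ⟩ := hext P φ hφ
  have hsup : P' ⊔ img a Q = img a (P ⊔ Q) := by
    rw [c.2.2.1, img_sup a c.1 (hQ.trans hU)]
  have hPQS : P ⊔ Q ≤ S := sup_le c.1 (hQ.trans hU)
  obtain ⟨ψ', cψ⟩ := exists_corr a hPQS ψ (fun x => hU (hom_mem C hψ x)) hsup
  refine ⟨ψ', ⟨_, ψ, hψ, cψ⟩, fun y => ?_, fun y => ?_⟩
  · obtain ⟨x, hx⟩ := c.exists_rep y
    have e1 : fwd a ((Subgroup.inclusion (le_sup_left : P ≤ P ⊔ Q) x : ↥(P ⊔ Q)) : Ω) =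
        ((Subgroup.inclusion (le_sup_left : P' ≤ P' ⊔ img a Q) y : ↥(P' ⊔ img a Q)) : Ω') := hx
    rw [cψ.apply' _ _ e1, hψP x, c.apply' x y hx]
  · obtain ⟨x, hxQ, hxS, hx⟩ := (mem_img a Q y).1 y.2
    have e1 : fwd a ((Subgroup.inclusion (le_sup_right : Q ≤ P ⊔ Q) ⟨x, hxQ⟩ : ↥(P ⊔ Q)) : Ω) =
        ((Subgroup.inclusion (le_sup_right : img a Q ≤ P' ⊔ img a Q) y : ↥(P' ⊔ img a Q)) : Ω') := hx
    rw [cψ.apply' _ _ e1, hψQ ⟨x, hxQ⟩]
    exact hx

theorem center_le (C : FusionSystem U) : C.center ≤ U :=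
  sSup_le fun _ hQ => hQ.1

theorem center_push : (push a C hU).center = img a C.center := by
  apply le_antisymm
  · refine sSup_le fun Q' hQ' => ?_
    have hQ'S : Q' ≤ S' := hQ'.1.trans (img_le a U)
    have h1 := push_isCentral a.symm (push a C hU) (img_le a U) hQ'
    have h2 : C.IsCentral (img a.symm Q') :=
      (push_push a C hU).elim (fun E => E.IsCentral (img a.symm Q')) h1
    have h3 : img a.symm Q' ≤ C.center := le_sSup h2
    calc Q' = img a (img a.symm Q') := (img_img' a hQ'S).symm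
      _ ≤ img a C.center := img_mono a h3
  · have hZ'S : (push a C hU).center ≤ S' := (center_le _).trans (img_le a U)
    have h1 : C.center ≤ img a.symm (push a C hU).center := by
      refine sSup_le fun Q hQ => ?_
      have hQS : Q ≤ S := hQ.1.trans hU
      calc Q = img a.symm (img a Q) := (img_img a hQS).symm
        _ ≤ img a.symm (push a C hU).center :=
          img_mono a.symm (le_sSup (push_isCentral a C hU hQ))
    calc img a C.center ≤ img a (img a.symm (push a C hU).center) := img_mono a h1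
      _ = (push a C hU).center := img_img' a hZ'S

end

theorem pResidual_map_le' {A B : Type*} [Group A] [Group B] (p : ℕ) (f : A →* B) :
    (Cfsg.pResidual p A).map f ≤ Cfsg.pResidual p B := by
  unfold Cfsg.pResidual
  rw [MonoidHom.map_closure, Subgroup.closure_le]
  rintro _ ⟨x, hx, rfl⟩
  apply Subgroup.subset_closure
  exact Nat.Coprime.coprime_dvd_left (orderOf_map_dvd f x) hx

theorem hyperfocal_le' {T : Subgroup Ω} (E : FusionSystem T) (p : ℕ) :
    E.hyperfocalSubgroup p ≤ T := by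
  unfold hyperfocalSubgroup
  rw [Subgroup.closure_le]
  rintro y ⟨P, α, x, hPT, -, rfl⟩
  exact T.mul_mem (T.inv_mem (hPT x.2)) (hPT (Subtype.prop _))

section
variable (a : S ≃* S') {U : Subgroup Ω} (C : FusionSystem U) (hU : U ≤ S)

/-- the homomorphism `Aut_C(P) → Aut_{C'}(a P)` -/
noncomputable def autGroupHom {P : Subgroup Ω} (hP : P ≤ U) :
    C.autGroup P →* (push a C hU).autGroup (img a P) :=
  ((MulAut.congr (resEquiv' a (hP.trans hU) (rfl : img a P = img a P))).toMonoidHom.comp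
    (C.autGroup P).subtype).codRestrict _
    (fun α => (mem_autGroup_push_iff' a C hU hP rfl (α : MulAut P)).2 α.2)

theorem autGroupHom_coe {P : Subgroup Ω} (hP : P ≤ U) (α : C.autGroup P) :
    ((autGroupHom a C hU hP α : (push a C hU).autGroup (img a P)) : MulAut (img a P)) =
      MulAut.congr (resEquiv' a (hP.trans hU) rfl) (α : MulAut P) := rfl

theorem img_hyperfocal_le (p : ℕ) :
    img a (C.hyperfocalSubgroup p) ≤ (push a C hU).hyperfocalSubgroup p := by
  have key : ∀ y, y ∈ C.hyperfocalSubgroup p →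
      y ∈ S ∧ fwd a y ∈ (push a C hU).hyperfocalSubgroup p := by
    intro y hy
    unfold hyperfocalSubgroup at hy
    induction hy using Subgroup.closure_induction with
    | mem y hy =>
      obtain ⟨P, α, x, hP, hα, rfl⟩ := hy
      have hxS : (x : Ω) ∈ S := hU (hP x.2)
      have hαxS : (((α : MulAut P) x : P) : Ω) ∈ S := hU (hP (Subtype.prop _))
      refine ⟨S.mul_mem (S.inv_mem hxS) hαxS, ?_⟩
      rw [fwd_mul a (S.inv_mem hxS) hαxS, fwd_inv a hxS]
      apply Subgroup.subset_closure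
      refine ⟨img a P, autGroupHom a C hU hP α, ⟨fwd a x, fwd_mem_img a x.2 hxS⟩,
        img_mono a hP, ?_, ?_⟩
      · exact pResidual_map_le' p (autGroupHom a C hU hP) ⟨α, hα, rfl⟩
      · rw [autGroupHom_coe, congr_apply_fwd a (hP.trans hU) rfl (α : MulAut P) x]
    | one => exact ⟨S.one_mem, by rw [fwd_one]; exact Subgroup.one_mem _⟩
    | mul y z _ _ hy hz =>
      exact ⟨S.mul_mem hy.1 hz.1, by rw [fwd_mul a hy.1 hz.1]; exact Subgroup.mul_mem _ hy.2 hz.2⟩
    | inv y _ hy =>
      exact ⟨S.inv_mem hy.1, by rw [fwd_inv a hy.1]; exact Subgroup.inv_mem _ hy.2⟩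
  intro y' hy'
  obtain ⟨y, hy, -, rfl⟩ := (mem_img a _ y').1 hy'
  exact (key y hy).2

theorem hyperfocal_push_eq_top {p : ℕ} (h : C.hyperfocalSubgroup p = U) :
    (push a C hU).hyperfocalSubgroup p = img a U := by
  apply le_antisymm (hyperfocal_le' _ p)
  calc img a U = img a (C.hyperfocalSubgroup p) := by rw [h]
    _ ≤ _ := img_hyperfocal_le a C hU p

theorem push_isSimple {p : ℕ} (h : C.IsSimple p) : (push a C hU).IsSimple p := by
  obtain ⟨hsat, hne, hsim⟩ := h
  refine ⟨push_isSaturated a C hU hsat, ?_, ?_⟩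
  · intro h0
    apply hne
    have := congrArg (img a.symm) h0
    rwa [img_img a hU, img_bot] at this
  · intro T' E' hE'
    have hT'U : T' ≤ img a U := hE'.1.2.2.2.1.1
    have hT'S : T' ≤ S' := hT'U.trans (img_le a U)
    have h1 := push_isNormalIn a.symm E' (push a C hU) hT'S (img_le a U) hE'
    have h2 : (push a.symm E' hT'S).IsNormalIn C p :=
      (push_push a C hU).elim (fun D => (push a.symm E' hT'S).IsNormalIn D p) h1
    rcases hsim _ _ h2 with h3 | ⟨h3, h4⟩
    · left
      have := congrArg (img a) h3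
      rwa [img_img' a hT'S, img_bot] at this
    · right
      have hT' : T' = img a U := by
        have := congrArg (img a) h3
        rwa [img_img' a hT'S] at this
      refine ⟨hT', ?_⟩
      have hs1 : SameSys (push a.symm E' hT'S) C := ⟨h3, h4⟩
      have hs2 := hs1.push a (img_le a.symm T') hU
      have hs3 := (push_push' a E' hT'S).symm.trans hs2
      exact hs3.2

end

end Cfsg.Agent.Lib.Helper96.FusTr
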