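import Cfsg.Agent.Lib.Helper96.FusTr4

/-!
# Transport of fusion systems along `a : S ≃* S'` (part 5): factor systems, quasisimple systems,
components
-/

set_option autoImplicit false

namespace Cfsg.Agent.Lib.Helper96.FusTr

open Cfsg Cfsg.FusionSystem Cfsg.Agent.Lib.Helper87

variable {Ω : Type*} [Group Ω] {Ω' : Type*} [Group Ω'] {S : Subgroup Ω} {S' : Subgroup Ω'}

theorem mem_preimageAlong' {Γ : Type*} [Group Γ] {U : Subgroup Ω} (θ : U →* Γ) (P : Subgroup Γ)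
    (x : Ω) : x ∈ FusionSystem.preimageAlong θ P ↔ ∃ hx : x ∈ U, θ ⟨x, hx⟩ ∈ P := by
  show x ∈ (P.comap θ).map U.subtype ↔ _
  rw [Subgroup.mem_map]
  constructor
  · rintro ⟨s, hs, rfl⟩
    exact ⟨s.2, hs⟩
  · rintro ⟨hx, h⟩
    exact ⟨⟨x, hx⟩, h, rfl⟩

theorem preimageAlong_le' {Γ : Type*} [Group Γ] {U : Subgroup Ω} (θ : U →* Γ) (P : Subgroup Γ) :
    FusionSystem.preimageAlong θ P ≤ U := by
  intro x hx
  exact ((mem_preimageAlong' θ P x).1 hx).1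

section square

variable {Γ : Type*} [Group Γ] {Γ' : Type*} [Group Γ'] {V : Subgroup Γ} {V' : Subgroup Γ'}

/-- a commutative square `θ' ∘ a = b ∘ θ` -/
structure Square (a : S ≃* S') (b : V ≃* V') {U : Subgroup Ω} {U' : Subgroup Ω'} (θ : U →* Γ)
    (θ' : U' →* Γ') : Prop where
  hU : U ≤ S
  hUU' : U' = img a U
  hθV : ∀ x : U, θ x ∈ V
  compat : ∀ (x : U) (x' : U'), fwd a (x : Ω) = x' → fwd b (θ x) = θ' x'

variable {a : S ≃* S'} {b : V ≃* V'} {U : Subgroup Ω} {U' : Subgroup Ω'} {θ : U →* Γ}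
  {θ' : U' →* Γ'}

theorem Square.exists_rep (sq : Square a b θ θ') (x' : U') : ∃ x : U, fwd a (x : Ω) = x' := by
  have h : (x' : Ω') ∈ img a U := sq.hUU' ▸ x'.2
  obtain ⟨x, hxU, -, hx⟩ := (mem_img a U _).1 h
  exact ⟨⟨x, hxU⟩, hx⟩

theorem Square.hU' (sq : Square a b θ θ') : U' ≤ S' := by
  rw [sq.hUU']; exact img_le a U

theorem Square.fwd_mem (sq : Square a b θ θ') (x : U) : fwd a (x : Ω) ∈ U' := by
  rw [sq.hUU']; exact fwd_mem_img a x.2 (sq.hU x.2)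

theorem Square.symm (sq : Square a b θ θ') : Square a.symm b.symm θ' θ where
  hU := sq.hU'
  hUU' := by rw [sq.hUU', img_img a sq.hU]
  hθV := by
    intro x'
    obtain ⟨x, hx⟩ := sq.exists_rep x'
    rw [← sq.compat x x' hx]; exact FusTr.fwd_mem b _
  compat := by
    intro x' x hx
    have h1 : fwd a (x : Ω) = x' := by
      rw [← hx, fwd_bwd a (sq.hU' x'.2)]
    rw [← sq.compat x x' h1, bwd_fwd b (sq.hθV x)]

theorem induced_square (sq : Square a b θ θ') {R : Subgroup Ω} {φ : R →* Ω} {R' : Subgroup Ω'}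
    {φ' : R' →* Ω'} {P₁ : Subgroup Γ} {φ₁ : P₁ →* Γ} {P₂ : Subgroup Γ'} {φ₂ : P₂ →* Γ'}
    (c : Corr a φ φ') (c₁ : Corr b φ₁ φ₂) (h : FusionSystem.InducedAlong θ φ φ₁) :
    FusionSystem.InducedAlong θ' φ' φ₂ := by
  obtain ⟨hR, hφ, hP, heq⟩ := h
  have hR' : R' ≤ U' := by
    rw [c.2.2.1, sq.hUU']; exact img_mono a hR
  have hφ' : ∀ y : R', φ' y ∈ U' := by
    intro y
    obtain ⟨x, hx⟩ := c.exists_rep y
    rw [c.apply' x y hx, sq.hUU']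
    exact fwd_mem_img a (hφ x) (sq.hU (hφ x))
  have key : ∀ (x : R) (y : R'), fwd a (x : Ω) = y →
      θ' ⟨y, hR' y.2⟩ = fwd b (θ ⟨x, hR x.2⟩) := by
    intro x y hx
    exact (sq.compat ⟨x, hR x.2⟩ ⟨y, hR' y.2⟩ hx).symm
  have hP' : ∀ y : R', θ' ⟨y, hR' y.2⟩ ∈ P₂ := by
    intro y
    obtain ⟨x, hx⟩ := c.exists_rep y
    rw [key x y hx, c₁.2.2.1]
    exact fwd_mem_img b (hP x) (sq.hθV _)
  refine ⟨hR', hφ', hP', fun y => ?_⟩
  obtain ⟨x, hx⟩ := c.exists_rep y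
  have e1 : fwd b ((⟨θ ⟨x, hR x.2⟩, hP x⟩ : P₁) : Γ) =
      ((⟨θ' ⟨y, hR' y.2⟩, hP' y⟩ : P₂) : Γ') := (key x y hx).symm
  rw [c₁.apply' ⟨θ ⟨x, hR x.2⟩, hP x⟩ ⟨θ' ⟨y, hR' y.2⟩, hP' y⟩ e1, heq x]
  have e2 : fwd a ((⟨φ x, hφ x⟩ : U) : Ω) = ((⟨φ' y, hφ' y⟩ : U') : Ω') := (c.apply' x y hx).symm
  exact sq.compat ⟨φ x, hφ x⟩ ⟨φ' y, hφ' y⟩ e2

theorem preimage_square (sq : Square a b θ θ') {P₁ : Subgroup Γ} (hP₁ : P₁ ≤ V) :
    FusionSystem.preimageAlong θ' (img b P₁) = img a (FusionSystem.preimageAlong θ P₁) := by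
  ext y
  rw [mem_preimageAlong', mem_img]
  constructor
  · rintro ⟨hy, h⟩
    obtain ⟨x, hx⟩ := sq.exists_rep ⟨y, hy⟩
    have hx' : fwd a (x : Ω) = y := hx
    refine ⟨x, (mem_preimageAlong' θ P₁ x).2 ⟨x.2, ?_⟩, sq.hU x.2, hx'⟩
    rw [← sq.compat x ⟨y, hy⟩ hx] at h
    exact (fwd_mem_img_iff b hP₁ (sq.hθV x)).1 h
  · rintro ⟨x, hx, -, rfl⟩
    obtain ⟨hxU, hθx⟩ := (mem_preimageAlong' θ P₁ x).1 hx
    refine ⟨sq.fwd_mem ⟨x, hxU⟩, ?_⟩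
    rw [← sq.compat ⟨x, hxU⟩ ⟨fwd a x, sq.fwd_mem ⟨x, hxU⟩⟩ rfl]
    exact fwd_mem_img b hθx (sq.hθV _)

end square

/-- change the subgroup over which a fusion system lives along an equality -/
def castSys {T₁ T₂ : Subgroup Ω} (h : T₁ = T₂) (E : FusionSystem T₁) : FusionSystem T₂ := h ▸ E

theorem sameSys_castSys {T₁ T₂ : Subgroup Ω} (h : T₁ = T₂) (E : FusionSystem T₁) :
    SameSys E (castSys h E) := by
  subst h
  exact SameSys.refl E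

/-- transport of factor systems through a commutative square (general form) -/
theorem factor_square {Γ : Type*} [Group Γ] {Γ' : Type*} [Group Γ'] {V : Subgroup Γ}
    {V' : Subgroup Γ'} {a : S ≃* S'} {b : V ≃* V'} {U : Subgroup Ω} {θ : U →* Γ}
    {θ' : ↥(img a U) →* Γ'} (sq : Square a b θ θ') (C : FusionSystem U) (hU : U ≤ S)
    (Z : Subgroup Ω) (Z' : Subgroup Ω') (hZU : Z ≤ U) (hker : ∀ s : U, θ s = 1 ↔ (s : Ω) ∈ Z)
    (hrange : θ.range = V)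
    (E' : FusionSystem V') (hE' : (push a C hU).IsFactorSystem Z' θ' E') :
    C.IsFactorSystem Z θ (castSys (img_self b.symm) (push b.symm E' le_rfl)) := by
  obtain ⟨-, -, -, hiv⟩ := hE'
  refine ⟨hZU, hker, hrange, fun P₁ φ₁ => ?_⟩
  have hs := sameSys_castSys (img_self b.symm) (push b.symm E' le_rfl)
  rw [← hs.2 P₁]
  constructor
  · rintro ⟨P₂, φ₂, hφ₂, c₂⟩
    have hP₁V : P₁ ≤ V := by rw [c₂.2.2.1]; exact img_le b.symm P₂
    refine ⟨hP₁V, ?_⟩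
    obtain ⟨-, φ', ⟨R, φ, hφ, c⟩, hind⟩ := (hiv P₂ φ₂).1 hφ₂
    have c₁ : Corr b φ₁ φ₂ := c₂.symm
    have hsrc : R = FusionSystem.preimageAlong θ P₁ := by
      apply img_inj a c.1 ((preimageAlong_le' θ P₁).trans hU)
      rw [← c.2.2.1, ← preimage_square sq hP₁V, c₁.2.2.1]
    subst hsrc
    exact ⟨φ, hφ, induced_square sq.symm c.symm c₂ hind⟩
  · rintro ⟨hP₁V, φ, hφ, hind⟩
    have hφ₁V : ∀ y : P₁, φ₁ y ∈ V := by
      obtain ⟨hR, hφU, hP, heq⟩ := hind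
      intro y
      have hy : (y : Γ) ∈ θ.range := hrange ▸ hP₁V y.2
      obtain ⟨u, hu⟩ := hy
      have huR : (u : Ω) ∈ FusionSystem.preimageAlong θ P₁ :=
        (mem_preimageAlong' θ P₁ u).2 ⟨u.2, by rw [show (⟨(u : Ω), u.2⟩ : U) = u from rfl, hu]; exact y.2⟩
      have h1 := heq ⟨u, huR⟩
      have h2 : (⟨θ ⟨((⟨u, huR⟩ : FusionSystem.preimageAlong θ P₁) : Ω), hR huR⟩, hP ⟨u, huR⟩⟩ : P₁) = y :=
        Subtype.ext hu
      rw [h2] at h1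
      rw [h1]; exact sq.hθV _
    obtain ⟨φ₂, c₁⟩ := exists_corr b hP₁V φ₁ hφ₁V (rfl : img b P₁ = img b P₁)
    have hsrc := preimage_square sq hP₁V
    have hRS : FusionSystem.preimageAlong θ P₁ ≤ S := (preimageAlong_le' θ P₁).trans hU
    obtain ⟨φ', c⟩ := exists_corr a hRS φ (fun x => hU (hom_mem C hφ x)) hsrc
    have hind' := induced_square sq c c₁ hind
    have hφ₂ : φ₂ ∈ E'.Hom (img b P₁) :=
      (hiv _ φ₂).2 ⟨img_le b P₁, φ', ⟨_, φ, hφ, c⟩, hind'⟩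
    exact ⟨img b P₁, φ₂, hφ₂, c₁.symm⟩

end Cfsg.Agent.Lib.Helper96.FusTr
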