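import Cfsg.Agent.Lib.Helper96.FusTr5

/-!
# Transport of fusion systems along `a : S ≃* S'` (part 6): quasisimple systems and components
-/

set_option autoImplicit false

namespace Cfsg.Agent.Lib.Helper96.FusTr

open Cfsg Cfsg.FusionSystem Cfsg.Agent.Lib.Helper87

variable {Ω : Type*} [Group Ω] {Ω' : Type*} [Group Ω'] {S : Subgroup Ω} {S' : Subgroup Ω'}

/-- an isomorphism of groups as an isomorphism of their top subgroups -/
noncomputable def topIso {Γ : Type*} [Group Γ] {Γ' : Type*} [Group Γ'] (q : Γ ≃* Γ') :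
    (⊤ : Subgroup Γ) ≃* (⊤ : Subgroup Γ') :=
  Subgroup.topEquiv.trans (q.trans Subgroup.topEquiv.symm)

theorem fwd_topIso {Γ : Type*} [Group Γ] {Γ' : Type*} [Group Γ'] (q : Γ ≃* Γ') (x : Γ) :
    fwd (topIso q) x = q x := by
  rw [fwd_of_mem (topIso q) (Subgroup.mem_top x)]; rfl

section
variable (a : S ≃* S') {U : Subgroup Ω} (C : FusionSystem U) (hU : U ≤ S)

theorem map_center_subgroupOf :
    ((C.center).subgroupOf U).map ((resEquiv a hU : U ≃* img a U) : U →* img a U) =
      ((push a C hU).center).subgroupOf (img a U) := by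
  ext w
  rw [Subgroup.mem_map, Subgroup.mem_subgroupOf, center_push a C hU]
  constructor
  · rintro ⟨u, hu, rfl⟩
    rw [Subgroup.mem_subgroupOf] at hu
    exact fwd_mem_img a hu (hU u.2)
  · intro hw
    obtain ⟨z, hz, hzS, hzw⟩ := (mem_img a _ _).1 hw
    have hzU : z ∈ U := center_le C hz
    exact ⟨⟨z, hzU⟩, Subgroup.mem_subgroupOf.2 hz, Subtype.ext hzw⟩

/-- the isomorphism of the central quotients -/
noncomputable def centerQuot :
    (U ⧸ (C.center).subgroupOf U) ≃* (img a U ⧸ ((push a C hU).center).subgroupOf (img a U)) :=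
  QuotientGroup.congr _ _ (resEquiv a hU) (map_center_subgroupOf a C hU)

theorem square_centerQuot :
    Square a (topIso (centerQuot a C hU)) (QuotientGroup.mk' ((C.center).subgroupOf U))
      (QuotientGroup.mk' (((push a C hU).center).subgroupOf (img a U))) where
  hU := hU
  hUU' := rfl
  hθV := fun _ => Subgroup.mem_top _
  compat := by
    intro x x' hx
    rw [fwd_topIso]
    have : x' = resEquiv a hU x := Subtype.ext hx.symm
    rw [this]
    exact QuotientGroup.congr_mk _ _ _ _ x

theorem push_quasisimple {p : ℕ} (h : C.Quasisimple p) : (push a C hU).Quasisimple p := by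
  obtain ⟨hsat, hhyp, hfac⟩ := h
  refine ⟨push_isSaturated a C hU hsat, hyperfocal_push_eq_top a C hU hhyp, ?_⟩
  intro E' hE'
  have sq := square_centerQuot a C hU
  have hker : ∀ s : U, QuotientGroup.mk' ((C.center).subgroupOf U) s = 1 ↔ (s : Ω) ∈ C.center := by
    intro s
    rw [QuotientGroup.mk'_apply, QuotientGroup.eq_one_iff, Subgroup.mem_subgroupOf]
  have hrange : (QuotientGroup.mk' ((C.center).subgroupOf U)).range = ⊤ :=
    MonoidHom.range_eq_top.2 (QuotientGroup.mk'_surjective _)
  have h1 := factor_square sq C hU C.center (push a C hU).center (center_le C) hker hrange E' hE'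
  have h2 := hfac _ h1
  set b := topIso (centerQuot a C hU) with hb
  have h3 : (push b.symm E' le_rfl).IsSimple p :=
    (sameSys_castSys (img_self b.symm) (push b.symm E' le_rfl)).symm.elim
      (fun E => E.IsSimple p) h2
  have h4 := push_isSimple b (push b.symm E' le_rfl) (img_le b.symm ⊤) h3
  exact (push_push' b E' le_rfl).elim (fun E => E.IsSimple p) h4

theorem push_isComponentIn {p : ℕ} {S₀ : Subgroup Ω} (F : FusionSystem S₀) (hS₀ : S₀ ≤ S)
    (h : C.IsComponentIn F p) : (push a C hU).IsComponentIn (push a F hS₀) p :=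
  ⟨push_isSubnormalIn a h.1 hU hS₀, push_quasisimple a C hU h.2⟩

end

end Cfsg.Agent.Lib.Helper96.FusTr
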