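import Cfsg.Agent.Lib.Helper96.FusTr6

/-!
# Transport of fusion systems (part 7): composition of transports, transport along maps of the
system, conjugates of subnormal subsystems
-/

set_option autoImplicit false

namespace Cfsg.Agent.Lib.Helper96.FusTr

open Cfsg Cfsg.FusionSystem Cfsg.Agent.Lib.Helper87

variable {Ω : Type*} [Group Ω] {Ω' : Type*} [Group Ω'] {S : Subgroup Ω} {S' : Subgroup Ω'}

theorem corr_of_inducedAlong' (a : S ≃* S') {P : Subgroup Ω} {φ : P →* Ω} {P' : Subgroup Ω'}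
    {φ' : P' →* Ω'} (hP'eq : P' = img a P) (h : FusionSystem.InducedAlong (iota a) φ φ') :
    Corr a φ φ' := by
  obtain ⟨hP, hφ, hP', heq⟩ := h
  refine ⟨hP, hφ, hP'eq, fun x hx => ?_⟩
  have e1 : fwd a (x : Ω) = iota a ⟨x, hP x.2⟩ := fwd_of_mem a (hP x.2)
  have e2 : fwd a (φ x) = iota a ⟨φ x, hφ x⟩ := fwd_of_mem a (hφ x)
  rw [e2, ← heq x]
  exact congrArg φ' (Subtype.ext e1)

section comp

variable {Ω'' : Type*} [Group Ω''] {S₂ : Subgroup Ω'} {S₂' : Subgroup Ω''} {S'' : Subgroup Ω''}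
  (a : S ≃* S') (a₂ : S₂ ≃* S₂') (c : S ≃* S'')

theorem img_comp (hS' : S' ≤ S₂) (hcomp : ∀ x ∈ S, fwd c x = fwd a₂ (fwd a x)) {P : Subgroup Ω}
    (_hP : P ≤ S) : img a₂ (img a P) = img c P := by
  ext z
  rw [mem_img, mem_img]
  constructor
  · rintro ⟨y, hy, -, rfl⟩
    obtain ⟨x, hxP, hxS, rfl⟩ := (mem_img a P y).1 hy
    exact ⟨x, hxP, hxS, hcomp x hxS⟩
  · rintro ⟨x, hxP, hxS, rfl⟩
    exact ⟨fwd a x, fwd_mem_img a hxP hxS, hS' (fwd_mem a x), (hcomp x hxS).symm⟩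

theorem Corr.comp (hS' : S' ≤ S₂) (hcomp : ∀ x ∈ S, fwd c x = fwd a₂ (fwd a x))
    {P : Subgroup Ω} {φ : P →* Ω} {P' : Subgroup Ω'} {φ' : P' →* Ω'} {P'' : Subgroup Ω''}
    {φ'' : P'' →* Ω''} (h1 : Corr a φ φ') (h2 : Corr a₂ φ' φ'') : Corr c φ φ'' := by
  refine ⟨h1.1, h1.2.1, ?_, fun x hx => ?_⟩
  · rw [h2.2.2.1, h1.2.2.1, img_comp a a₂ c hS' hcomp h1.1]
  · have e1 : fwd a₂ ((⟨fwd a x, h1.fwd_mem x⟩ : P') : Ω') = ((⟨fwd c x, hx⟩ : P'') : Ω'') :=
      (hcomp x (h1.1 x.2)).symm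
    rw [h2.apply' ⟨fwd a x, h1.fwd_mem x⟩ ⟨fwd c x, hx⟩ e1, h1.apply x _, hcomp _ (h1.2.1 x)]

theorem Corr.comp_right (hS' : S' ≤ S₂) (hcomp : ∀ x ∈ S, fwd c x = fwd a₂ (fwd a x))
    {P : Subgroup Ω} {φ : P →* Ω} {P' : Subgroup Ω'} {φ' : P' →* Ω'} {P'' : Subgroup Ω''}
    {φ'' : P'' →* Ω''} (h1 : Corr a φ φ') (h3 : Corr c φ φ'') : Corr a₂ φ' φ'' := by
  refine ⟨h1.le'.trans hS', fun y => hS' (h1.mem' y), ?_, fun y hy => ?_⟩
  · rw [h3.2.2.1, h1.2.2.1, img_comp a a₂ c hS' hcomp h1.1]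
  · obtain ⟨x, hx⟩ := h1.exists_rep y
    have e1 : fwd c (x : Ω) = ((⟨fwd a₂ y, hy⟩ : P'') : Ω'') := by
      rw [hcomp x (h1.1 x.2), hx]
    rw [h3.apply' x ⟨fwd a₂ y, hy⟩ e1, h1.apply' x y hx, hcomp _ (h1.2.1 x)]

theorem push_comp (hS' : S' ≤ S₂) (hcomp : ∀ x ∈ S, fwd c x = fwd a₂ (fwd a x))
    {T : Subgroup Ω} (E : FusionSystem T) (hT : T ≤ S) :
    SameSys (push a₂ (push a E hT) ((img_le a T).trans hS')) (push c E hT) := by
  refine ⟨img_comp a a₂ c hS' hcomp hT, fun P'' => Set.ext fun φ'' => ⟨?_, ?_⟩⟩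
  · rintro ⟨P', φ', ⟨P, φ, hφ, c1⟩, c2⟩
    exact ⟨P, φ, hφ, Corr.comp a a₂ c hS' hcomp c1 c2⟩
  · rintro ⟨P, φ, hφ, c3⟩
    obtain ⟨φ', c1⟩ := exists_corr a c3.1 φ c3.2.1 (rfl : img a P = img a P)
    exact ⟨img a P, φ', ⟨P, φ, hφ, c1⟩, Corr.comp_right a a₂ c hS' hcomp c1 c3⟩

end comp

/-! ### transport along a map of the system -/

section alongHom

variable {S₀ : Subgroup Ω}

theorem fwd_ofInjective {T : Subgroup Ω} (γ : T →* Ω) (hinj : Function.Injective γ) {x : Ω}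
    (hx : x ∈ T) : fwd (MonoidHom.ofInjective hinj) x = γ ⟨x, hx⟩ := by
  rw [fwd_of_mem _ hx]; rfl

theorem iota_ofInjective {T : Subgroup Ω} (γ : T →* Ω) (hinj : Function.Injective γ) :
    iota (MonoidHom.ofInjective hinj) = γ := by
  ext x; rfl

/-- if `γ ∈ Hom_F(S₀, S₀)` is onto, the push-forward of `F` along `γ` is `F` -/
theorem push_ofInjective_self (F : FusionSystem S₀) (γ : S₀ →* Ω) (hγ : γ ∈ F.Hom S₀)
    (hinj : Function.Injective γ) (hr : γ.range = S₀) :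
    SameSys (push (MonoidHom.ofInjective hinj) F le_rfl) F := by
  set a := MonoidHom.ofInjective hinj with ha
  have hfa : ∀ {x : Ω} (hx : x ∈ S₀), fwd a x = γ ⟨x, hx⟩ := fun hx => fwd_ofInjective γ hinj hx
  refine ⟨(img_self a).trans hr, fun P' => Set.ext fun φ' => ⟨?_, ?_⟩⟩
  · rintro ⟨P, φ, hφ, c⟩
    have hPS : P ≤ S₀ := c.1
    -- γ restricted to P
    have hγP : γ.comp (Subgroup.inclusion hPS) ∈ F.Hom P := restrict_mem F hPS hγ
    have hrP : (γ.comp (Subgroup.inclusion hPS)).range = P' := by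
      rw [c.2.2.1]
      ext y
      rw [mem_img]
      constructor
      · rintro ⟨x, rfl⟩
        exact ⟨x, x.2, hPS x.2, hfa (hPS x.2)⟩
      · rintro ⟨x, hxP, hxS, rfl⟩
        exact ⟨⟨x, hxP⟩, (hfa hxS).symm⟩
    obtain ⟨ψ, hψ, hψx, hψr⟩ := inv_mem' F hγP hrP
    have hψP : ∀ y : P', ψ y ∈ P := fun y => hψr ▸ ⟨y, rfl⟩
    have hφS : ∀ y : P', φ ⟨ψ y, hψP y⟩ ∈ S₀ := fun y => hom_mem F hφ _
    refine comp_mem' F (comp_mem' F hψ hφ hψP (χ := φ.comp (ψ.codRestrict P hψP)) (fun _ => rfl))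
      hγ hφS (fun y => ?_)
    obtain ⟨x, hx⟩ := c.exists_rep y
    have hψy : ψ y = (x : Ω) := hψx x y (by
      show γ ⟨x, hPS x.2⟩ = y
      rw [← hfa (hPS x.2)]; exact hx)
    rw [c.apply' x y hx, hfa (c.2.1 x)]
    congr 1
    apply Subtype.ext
    show φ x = φ ⟨ψ y, hψP y⟩
    congr 1
    exact Subtype.ext hψy.symm
  · intro hφ'
    have hP'S : P' ≤ S₀ := hom_le F hφ'
    have hP'r : P' ≤ γ.range := by rw [hr]; exact hP'S
    have hφ'r : ∀ y : P', φ' y ∈ γ.range := fun y => by rw [hr]; exact hom_mem F hφ' y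
    obtain ⟨φ, c⟩ := exists_corr_symm a hP'r φ' hφ'r
    refine ⟨_, φ, ?_, c⟩
    -- φ = γ⁻¹ ∘ φ' ∘ γ
    have hPS : img a.symm P' ≤ S₀ := c.1
    have hγP : γ.comp (Subgroup.inclusion hPS) ∈ F.Hom (img a.symm P') := restrict_mem F hPS hγ
    obtain ⟨ψ, hψ, hψx⟩ := F.inv_mem hγ
    have h1 : ∀ x : img a.symm P', (γ.comp (Subgroup.inclusion hPS)) x ∈ P' := by
      intro x
      have := c.fwd_mem x
      rwa [hfa (hPS x.2)] at this
    have h2 : ∀ x : img a.symm P', φ' ⟨(γ.comp (Subgroup.inclusion hPS)) x, h1 x⟩ ∈ γ.range :=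
      fun x => hφ'r _
    refine comp_mem' F (comp_mem' F hγP hφ' h1
      (χ := φ'.comp ((γ.comp (Subgroup.inclusion hPS)).codRestrict P' h1)) (fun _ => rfl)) hψ h2
      (fun x => ?_)
    have e1 : fwd a (x : Ω) = ((⟨(γ.comp (Subgroup.inclusion hPS)) x, h1 x⟩ : P') : Ω) :=
      hfa (hPS x.2)
    have e2 := c.apply' x _ e1
    have e3 : (⟨(φ'.comp ((γ.comp (Subgroup.inclusion hPS)).codRestrict P' h1)) x, h2 x⟩ : γ.range)
        = ⟨γ ⟨φ x, c.2.1 x⟩, ⟨_, rfl⟩⟩ := by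
      apply Subtype.ext
      show φ' ⟨(γ.comp (Subgroup.inclusion hPS)) x, h1 x⟩ = γ ⟨φ x, c.2.1 x⟩
      rw [e2, hfa (c.2.1 x)]
    rw [e3, hψx]

/-- an invariant subsystem over `U` is carried to itself by every element of `Aut_F(U)` -/
theorem push_aut_invariant {U : Subgroup Ω} (F : FusionSystem S₀) (D : FusionSystem U)
    (hD : D.IsInvariantIn F) (α : MulAut U) (hα : α ∈ F.autGroup U) :
    SameSys (push (α : U ≃* U) D le_rfl) D := by
  have hsub : ∀ β : MulAut U, β ∈ F.autGroup U → (push (β : U ≃* U) D le_rfl).IsSubsystemOf D := by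
    intro β hβ
    rintro P' φ' ⟨P, φ, hφ, c⟩
    obtain ⟨χ, hχ, hχx⟩ := hD.2.2.1 P (hom_le D hφ) φ hφ β hβ
    have cχ : Corr (β : U ≃* U) φ χ := by
      refine ⟨c.1, c.2.1, rfl, fun x hx => ?_⟩
      have hφx : φ x ∈ U := hom_mem D hφ x
      rw [fwd_of_mem _ hφx]
      rw [← hχx x hφx (by rw [← fwd_of_mem (β : U ≃* U) (c.1 x.2)]; exact hx)]
      congr 1
      apply Subtype.ext
      exact fwd_of_mem _ (c.1 x.2)
    have hP' := c.2.2.1
    subst hP'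
    rw [c.unique cχ]; exact hχ
  have himg : img (α : U ≃* U) U = U := img_self _
  refine ⟨himg, fun P' => Set.Subset.antisymm (hsub α hα P') ?_⟩
  have hα' : (α : U ≃* U).symm ∈ F.autGroup U := (F.autGroup U).inv_mem hα
  have h1 := hsub _ hα'
  have h2 := push_mono (α : U ≃* U) _ D (img_le (α : U ≃* U).symm U) le_rfl h1
  have h3 := push_push' (α : U ≃* U) D le_rfl
  intro φ' hφ'
  rw [← h3.2 P'] at hφ'
  exact h2 P' hφ'

end alongHom

theorem le_of_isSubnormalIn' {p : ℕ} {T S₀ : Subgroup Ω} {C : FusionSystem T} {F : FusionSystem S₀}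
    (h : C.IsSubnormalIn F p) : T ≤ S₀ := by
  induction h with
  | refl F p => exact le_rfl
  | step _ hDF ih => exact ih.trans hDF.1.2.2.2.1.1

/-- the conjugate of a subnormal subsystem by a map of the system is subnormal -/
theorem conj_isSubnormalIn {p : ℕ} {T S₀ : Subgroup Ω} {C : FusionSystem T} {F : FusionSystem S₀}
    (h : C.IsSubnormalIn F p) :
    ∀ [Finite S₀] (γ : T →* Ω) (_ : γ ∈ F.Hom T) (hinj : Function.Injective γ),
      (push (MonoidHom.ofInjective hinj) C le_rfl).IsSubnormalIn F p := by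
  induction h with
  | refl F p =>
    intro _ γ hγ hinj
    have hr : γ.range = T := by
      have hsurj : Function.Surjective (γ.codRestrict T (fun x => hom_mem F hγ x)) :=
        Finite.surjective_of_injective (fun x y hxy => hinj (congrArg Subtype.val hxy))
      apply le_antisymm
      · rintro _ ⟨x, rfl⟩; exact hom_mem F hγ x
      · intro y hy
        obtain ⟨x, hx⟩ := hsurj ⟨y, hy⟩
        exact ⟨x, congrArg Subtype.val hx⟩
    exact (push_ofInjective_self F γ hγ hinj hr).symm.elim (fun E => E.IsSubnormalIn F p)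
      (IsSubnormalIn.refl F p)
  | @step U S₁ C D F p hCD hDF ih =>
    intro _ γ hγ hinj
    have hUS : U ≤ S₁ := hDF.1.2.2.2.1.1
    have hfinU : Finite U := finite_of_le hUS
    have hTU : T ≤ U := le_of_isSubnormalIn' hCD
    obtain ⟨α, hα, γ₀, hγ₀, hfac⟩ := hDF.1.2.2.2.2.2 T hTU γ hγ
    have hinj₀ : Function.Injective γ₀ := D.injective_of_mem hγ₀
    have ih' := ih γ₀ hγ₀ hinj₀
    have hr₀ : γ₀.range ≤ U := by
      rintro _ ⟨x, rfl⟩; exact hom_mem D hγ₀ x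
    have h1 := push_isSubnormalIn (α : U ≃* U) ih' ((img_le _ T).trans hr₀) le_rfl
    have h2 : (push (α : U ≃* U) (push (MonoidHom.ofInjective hinj₀) C le_rfl)
        ((img_le _ T).trans hr₀)).IsSubnormalIn D p :=
      (push_aut_invariant F D hDF.1.2.2 α hα).elim (fun E => IsSubnormalIn _ E p) h1
    have hcomp : ∀ x ∈ T, fwd (MonoidHom.ofInjective hinj) x =
        fwd (α : U ≃* U) (fwd (MonoidHom.ofInjective hinj₀) x) := by
      intro x hx
      rw [fwd_ofInjective γ hinj hx, fwd_ofInjective γ₀ hinj₀ hx]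
      have hx₀ : γ₀ ⟨x, hx⟩ ∈ U := hom_mem D hγ₀ _
      rw [fwd_of_mem _ hx₀]
      exact hfac ⟨x, hx⟩ hx₀
    have h3 := push_comp (MonoidHom.ofInjective hinj₀) (α : U ≃* U) (MonoidHom.ofInjective hinj)
      hr₀ hcomp C le_rfl
    have h4 := h3.elim (fun E => IsSubnormalIn E D p) h2
    exact IsSubnormalIn.step h4 hDF

end Cfsg.Agent.Lib.Helper96.FusTr
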