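import Mathlib

/-!
# K-LC-A7a (keystone 640613, helper94's S0406 pack): every linear functional on a subspace of `(ZMod 2)^24`
is a dot product
-/

set_option autoImplicit false

namespace Cfsg.Agent.Lib.Helper96.LC

theorem exists_dot_repr (C : Submodule (ZMod 2) (Fin 24 → ZMod 2)) (φ : C →ₗ[ZMod 2] ZMod 2) :
    ∃ s : Fin 24 → ZMod 2, ∀ w : C, φ w = ∑ i, s i * (w : Fin 24 → ZMod 2) i := by
  obtain ⟨ψ, hψ⟩ := LinearMap.exists_extend φ
  refine ⟨fun i => ψ (Pi.single i 1), ?_⟩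
  intro w
  have h1 : φ w = ψ (w : Fin 24 → ZMod 2) := by
    rw [← hψ]; rfl
  rw [h1, LinearMap.pi_apply_eq_sum_univ ψ (w : Fin 24 → ZMod 2)]
  apply Finset.sum_congr rfl
  intro i _
  rw [smul_eq_mul, mul_comm]
  congr 2
  ext j
  simp [Pi.single_apply, eq_comm]

end Cfsg.Agent.Lib.Helper96.LC
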