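import Mathlib

/-!
# K-3806-A (keystone 380601, S3806): `⁅γ_i, γ_j⁆ ≤ γ_{i+j}` for the lower central series
(0-indexed: `⁅L i, L j⁆ ≤ L (i + j + 1)`), via the three subgroups lemma modulo a normal subgroup.
Same argument as `Helper68.HPPoly.lcs_comm`, restated here with Mathlib as the only dependency.
-/

set_option autoImplicit false

namespace Cfsg.Agent.Lib.Helper96.MC3806

open Subgroup

/-- three subgroups lemma modulo a normal subgroup -/
theorem three_mod {G : Type*} [Group G] (N : Subgroup G) [N.Normal] {H₁ H₂ H₃ : Subgroup G}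
    (h1 : ⁅⁅H₂, H₃⁆, H₁⁆ ≤ N) (h2 : ⁅⁅H₃, H₁⁆, H₂⁆ ≤ N) : ⁅⁅H₁, H₂⁆, H₃⁆ ≤ N := by
  have hker : (⊥ : Subgroup (G ⧸ N)).comap (QuotientGroup.mk' N) = N := by
    have := QuotientGroup.ker_mk' N
    rw [MonoidHom.ker] at this
    exact this
  have key : ∀ X : Subgroup G, X ≤ N ↔ X.map (QuotientGroup.mk' N) = ⊥ := by
    intro X
    rw [← le_bot_iff, Subgroup.map_le_iff_le_comap, hker]
  rw [key, Subgroup.map_commutator, Subgroup.map_commutator] at h1 h2 ⊢
  exact Subgroup.commutator_commutator_eq_bot_of_rotate h1 h2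

theorem lcs_comm_le_aux (G : Type*) [Group G] (j : ℕ) :
    ∀ i : ℕ, ⁅(⊤ : Subgroup G).lowerCentralSeries i, (⊤ : Subgroup G).lowerCentralSeries j⁆ ≤
      (⊤ : Subgroup G).lowerCentralSeries (i + j + 1) := by
  induction j with
  | zero =>
    intro i
    exact le_of_eq rfl
  | succ j ih =>
    intro i
    rw [Subgroup.lowerCentralSeries_succ, Subgroup.commutator_comm]
    apply three_mod
    · rw [Subgroup.commutator_comm ⊤, ← Subgroup.lowerCentralSeries_succ]
      have := ih (i + 1)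
      rwa [show i + 1 + j + 1 = i + (j + 1) + 1 by omega] at this
    · calc ⁅⁅(⊤ : Subgroup G).lowerCentralSeries i, (⊤ : Subgroup G).lowerCentralSeries j⁆, ⊤⁆
          ≤ ⁅(⊤ : Subgroup G).lowerCentralSeries (i + j + 1), ⊤⁆ :=
            Subgroup.commutator_mono (ih i) le_rfl
        _ = (⊤ : Subgroup G).lowerCentralSeries (i + (j + 1) + 1) := rfl

/-- LEAF A (general, three subgroups lemma): `[γ_i, γ_j] ≤ γ_{i+j}` (0-indexed: `i + j + 1`). -/
theorem lcs_comm_le {G : Type*} [Group G] (i j : ℕ) :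
    ⁅(⊤ : Subgroup G).lowerCentralSeries i, (⊤ : Subgroup G).lowerCentralSeries j⁆ ≤
      (⊤ : Subgroup G).lowerCentralSeries (i + j + 1) :=
  lcs_comm_le_aux G j i

end Cfsg.Agent.Lib.Helper96.MC3806
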