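import Mathlib
import Cfsg.Agent.S3995
import Cfsg.Agent.S0497

/-!
# K-NSE-D6 (keystone 343115, S3431): a group of order 360 with 80 elements of order 3,
144 elements of order 5 and all element orders at most 5 is isomorphic to `A_6`.
-/

set_option autoImplicit false

namespace Cfsg.Agent.Lib.Helper96.Nse

/-- fixed point counting for an automorphism `α` with `α ^ 5 = 1` and no nontrivial fixed point,
on an `α`-invariant subgroup -/
theorem d6_fpf_card {A : Type*} [Group A] [Finite A] (α : MulAut A) (h5 : α ^ 5 = 1)
    (hfpf : ∀ a, α a = a → a = 1) (T : Subgroup A) (hT : ∀ t, t ∈ T ↔ α t ∈ T) :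
    Nat.card T ≡ 1 [MOD 5] := by
  classical
  letI : Fintype A := Fintype.ofFinite A
  have : Fact (Nat.Prime 5) := ⟨by norm_num⟩
  set g : Equiv.Perm A := MulAut.toPerm A α with hg
  have hg5 : g ^ 5 = 1 := by
    rw [hg, ← map_pow, h5, map_one]
  have hgT : ∀ x, g x ∈ T ↔ x ∈ T := fun x => (hT x).symm
  set f : Equiv.Perm T := g.subtypePerm hgT with hf
  have hf5 : f ^ 5 = 1 := by
    rw [hf, Equiv.Perm.subtypePerm_pow]
    ext t
    simp [hg5]
  set F : Function.End T := (f : T → T) with hF
  have hpow : ∀ n : ℕ, F ^ n = ((f ^ n : Equiv.Perm T) : T → T) := by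
    intro n
    induction n with
    | zero => rfl
    | succ n ih =>
      rw [pow_succ, ih, pow_succ]
      rfl
  have hF5 : F ^ 5 ^ 1 = 1 := by
    rw [pow_one, hpow 5, hf5]
    rfl
  have h1 := Equiv.Perm.card_fixedPoints_modEq (p := 5) (n := 1) hF5
  have h2 : Fintype.card (Function.fixedPoints F) = 1 := by
    rw [Fintype.card_eq_one_iff]
    refine ⟨⟨1, ?_⟩, ?_⟩
    · show f 1 = 1
      apply Subtype.ext
      show α 1 = 1
      exact map_one α
    · rintro ⟨t, ht⟩
      apply Subtype.ext
      apply Subtype.ext
      have : f t = t := ht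
      have h3 : α (t : A) = t := congrArg Subtype.val this
      exact hfpf _ h3
  rw [Nat.card_eq_fintype_card]
  rw [h2] at h1
  exact h1

open Cfsg.Agent.S3995 (s)
open scoped Pointwise

/-- `Nat.card` of an `Option` type -/
theorem d6_card_option (α : Type*) [Finite α] : Nat.card (Option α) = Nat.card α + 1 := by
  classical
  letI : Fintype α := Fintype.ofFinite α
  rw [Nat.card_eq_fintype_card, Nat.card_eq_fintype_card, Fintype.card_option]

theorem d6_simple {G : Type*} [Group G] [Finite G] (hN : Nat.card G = 360)
    (h3 : s G 3 = 80) (h5 : s G 5 = 144) (hsp : ∀ m, s G m ≠ 0 → m ≤ 5) : IsSimpleGroup G := by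
  classical
  have : Fact (Nat.Prime 5) := ⟨by norm_num⟩
  have : Fact (Nat.Prime 3) := ⟨by norm_num⟩
  have hF1 : ∀ g : G, orderOf g ≤ 5 := by
    intro g
    apply hsp
    rw [Cfsg.Agent.S3995.s_ne_zero_iff]
    exact ⟨g, rfl⟩
  haveI : Nontrivial G := by
    rw [← Finite.one_lt_card_iff_nontrivial, hN]
    norm_num
  refine ⟨fun K hK => ?_⟩
  by_contra hcon
  push Not at hcon
  obtain ⟨hKbot, hKtop⟩ := hcon
  set k := Nat.card K with hk
  have hkdvd : k ∣ 360 := hN ▸ Subgroup.card_subgroup_dvd_card K
  have hk1 : 1 < k := by
    rw [hk]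
    exact (Subgroup.one_lt_card_iff_ne_bot (H := K)).mpr hKbot
  have hk360 : k < 360 := by
    rcases Nat.lt_or_ge k 360 with h | h
    · exact h
    · exfalso
      apply hKtop
      apply Subgroup.eq_top_of_card_eq
      have := Nat.le_of_dvd (by norm_num) hkdvd
      rw [hN]
      omega
  by_cases h5k : 5 ∣ k
  · -- Case A
    have hidx : K.index * k = 360 := by
      rw [hk, mul_comm, Subgroup.card_mul_index, hN]
    have hcop : Nat.Coprime K.index 5 := by
      rw [Nat.coprime_comm, Nat.Prime.coprime_iff_not_dvd (by norm_num)]
      intro h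
      obtain ⟨a, ha⟩ := h
      obtain ⟨b, hb⟩ := h5k
      have h25 : 25 ∣ 360 := ⟨a * b, by rw [← hidx, ha, hb]; ring⟩
      norm_num at h25
    have hmem5 : ∀ y : G, orderOf y = 5 → y ∈ K := by
      intro y hy
      have h1 : y ^ K.index ∈ K := Subgroup.pow_index_mem K y
      obtain ⟨j, hj⟩ := exists_pow_eq_self_of_coprime (x := y) (n := K.index) (by rw [hy]; exact hcop)
      rw [← hj]
      exact K.pow_mem h1 j
    -- count
    let f5 : Option {g : G // orderOf g = 5} → K := fun o =>
      match o with
      | none => 1
      | some g => ⟨g.1, hmem5 g.1 g.2⟩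
    have hf5 : Function.Injective f5 := by
      intro a b hab
      have hval : ((f5 a : K) : G) = ((f5 b : K) : G) := congrArg Subtype.val hab
      rcases a with _ | g <;> rcases b with _ | g'
      · rfl
      · exfalso
        have : (1 : G) = g'.1 := hval
        have h := g'.2
        rw [← this, orderOf_one] at h
        omega
      · exfalso
        have : g.1 = (1 : G) := hval
        have h := g.2
        rw [this, orderOf_one] at h
        omega
      · have : g.1 = g'.1 := hval
        rw [Subtype.ext this]
    have hc5 := Nat.card_le_card_of_injective f5 hf5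
    rw [d6_card_option] at hc5
    have h5' : Nat.card {g : G // orderOf g = 5} = 144 := h5
    rw [h5'] at hc5
    -- k = 180
    obtain ⟨t, ht⟩ := hkdvd
    have ht2 : t ≤ 2 := by
      by_contra h
      push Not at h
      have : k * 3 ≤ k * t := Nat.mul_le_mul_left k h
      omega
    have ht1 : 2 ≤ t := by
      by_contra h
      push Not at h
      interval_cases t <;> omega
    have htt : t = 2 := le_antisymm ht2 ht1
    have hk180 : k = 180 := by rw [htt] at ht; omega
    have hidx2 : K.index = 2 := by
      rw [hk180] at hidx
      omega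
    have hmem3 : ∀ y : G, orderOf y = 3 → y ∈ K := by
      intro y hy
      have h1 : y ^ 2 ∈ K := by
        have := Subgroup.pow_index_mem K y
        rwa [hidx2] at this
      have h2 : y ^ 3 = 1 := by rw [← hy]; exact pow_orderOf_eq_one y
      have h3 : y = (y ^ 2) ^ 2 := by
        rw [← pow_mul]
        calc y = y ^ 3 * y := by rw [h2, one_mul]
          _ = y ^ (2 * 2) := by rw [← pow_succ]
      rw [h3]
      exact K.pow_mem h1 2
    let f35 : Option ({g : G // orderOf g = 5} ⊕ {g : G // orderOf g = 3}) → K := fun o =>
      match o with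
      | none => 1
      | some (Sum.inl g) => ⟨g.1, hmem5 g.1 g.2⟩
      | some (Sum.inr g) => ⟨g.1, hmem3 g.1 g.2⟩
    have hf35 : Function.Injective f35 := by
      intro a b hab
      have hval : ((f35 a : K) : G) = ((f35 b : K) : G) := congrArg Subtype.val hab
      rcases a with _ | (g | g) <;> rcases b with _ | (g' | g')
      · rfl
      · exfalso
        have : (1 : G) = g'.1 := hval
        have h := g'.2
        rw [← this, orderOf_one] at h
        omega
      · exfalso
        have : (1 : G) = g'.1 := hval
        have h := g'.2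
        rw [← this, orderOf_one] at h
        omega
      · exfalso
        have : g.1 = (1 : G) := hval
        have h := g.2
        rw [this, orderOf_one] at h
        omega
      · have : g.1 = g'.1 := hval
        rw [Subtype.ext this]
      · exfalso
        have : g.1 = g'.1 := hval
        have h := g.2
        have h' := g'.2
        rw [this, h'] at h
        omega
      · exfalso
        have : g.1 = (1 : G) := hval
        have h := g.2
        rw [this, orderOf_one] at h
        omega
      · exfalso
        have : g.1 = g'.1 := hval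
        have h := g.2
        have h' := g'.2
        rw [this, h'] at h
        omega
      · have : g.1 = g'.1 := hval
        rw [Subtype.ext this]
    have hc35 := Nat.card_le_card_of_injective f35 hf35
    rw [d6_card_option, Nat.card_sum] at hc35
    have h3' : Nat.card {g : G // orderOf g = 3} = 80 := h3
    rw [h5', h3'] at hc35
    omega
  · -- Case B
    obtain ⟨x, hx⟩ := exists_prime_orderOf_dvd_card' (G := G) 5 (by rw [hN]; norm_num)
    set α : MulAut K := MulAut.conjNormal x with hα
    have hα5 : α ^ 5 = 1 := by
      rw [hα, ← map_pow, ← hx, pow_orderOf_eq_one, map_one]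
    have hfpf : ∀ a : K, α a = a → a = 1 := by
      intro a ha
      by_contra ha1
      have hcomm : Commute x (a : G) := by
        have h1 : ((α a : K) : G) = x * a * x⁻¹ := MulAut.conjNormal_apply x a
        rw [ha] at h1
        show x * (a : G) = (a : G) * x
        calc x * (a : G) = x * a * x⁻¹ * x := by group
          _ = a * x := by rw [← h1]
      have hoa : orderOf (a : G) ∣ k := by
        rw [Subgroup.orderOf_coe]
        exact orderOf_dvd_natCard a
      have hcop : Nat.Coprime (orderOf x) (orderOf (a : G)) := by
        rw [hx, Nat.Prime.coprime_iff_not_dvd (by norm_num)]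
        intro h
        exact h5k (h.trans hoa)
      have hmul := hcomm.orderOf_mul_eq_mul_orderOf_of_coprime hcop
      have hoa2 : 2 ≤ orderOf (a : G) := by
        have hpos : 0 < orderOf (a : G) := orderOf_pos _
        have hne : orderOf (a : G) ≠ 1 := by
          rw [Ne, orderOf_eq_one_iff]
          intro h
          apply ha1
          exact Subtype.ext h
        omega
      have := hF1 (x * (a : G))
      rw [hmul, hx] at this
      nlinarith
    have hKmod : Nat.card (⊤ : Subgroup K) ≡ 1 [MOD 5] :=
      d6_fpf_card α hα5 hfpf ⊤ (fun t => by simp)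
    rw [Subgroup.card_top] at hKmod
    -- k ∣ 72
    have hk72 : k ∣ 72 := by
      have hc : Nat.Coprime k 5 := by
        rw [Nat.coprime_comm, Nat.Prime.coprime_iff_not_dvd (by norm_num)]
        exact h5k
      exact hc.dvd_of_dvd_mul_left (by simpa using hkdvd)
    have hk636 : k = 6 ∨ k = 36 := by
      have hmem : k ∈ Nat.divisors 72 := Nat.mem_divisors.mpr ⟨hk72, by norm_num⟩
      have hmod : k % 5 = 1 := hKmod
      simp only [Nat.divisors_ofNat, Finset.mem_insert, Finset.mem_singleton] at hmem
      omega
    -- a fixed Sylow 3-subgroup of K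
    have hzP : IsPGroup 5 (Subgroup.zpowers α) := by
      rw [IsPGroup.iff_card]
      refine ⟨(if α = 1 then 0 else 1), ?_⟩
      rw [Nat.card_zpowers]
      by_cases h : α = 1
      · rw [if_pos h, h, orderOf_one, pow_zero]
      · rw [if_neg h, pow_one]
        exact orderOf_eq_prime hα5 h
    have h3k : 3 ∣ k := by rcases hk636 with h | h <;> rw [h] <;> norm_num
    have hsyl_card : ∀ T : Sylow 3 K, (k = 6 ∧ Nat.card T = 3) ∨ (k = 36 ∧ Nat.card T = 9) := by
      intro T
      have h1 := T.card_eq_multiplicity
      have h2 : Nat.card K = k := rfl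
      rw [h2] at h1
      rcases hk636 with h | h
      · left
        refine ⟨h, ?_⟩
        rw [h1, h]
        have : (6 : ℕ).factorization 3 = 1 := by
          have : (6 : ℕ) = 2 * 3 := by norm_num
          rw [this, Nat.factorization_mul (by norm_num) (by norm_num)]
          simp [Nat.Prime.factorization (by norm_num : Nat.Prime 3),
            Nat.Prime.factorization (by norm_num : Nat.Prime 2)]
        rw [this, pow_one]
      · right
        refine ⟨h, ?_⟩
        rw [h1, h]
        have : (36 : ℕ).factorization 3 = 2 := by
          have : (36 : ℕ) = 2 ^ 2 * 3 ^ 2 := by norm_num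
          rw [this, Nat.factorization_mul (by norm_num) (by norm_num), Nat.factorization_pow,
            Nat.factorization_pow]
          simp [Nat.Prime.factorization (by norm_num : Nat.Prime 3),
            Nat.Prime.factorization (by norm_num : Nat.Prime 2)]
        rw [this]
        norm_num
    have hn3 : ¬ 5 ∣ Nat.card (Sylow 3 K) := by
      obtain T : Sylow 3 K := default
      have h1 : Nat.card (Sylow 3 K) ∣ (T : Subgroup K).index := Sylow.card_dvd_index T
      have h2 : Nat.card T * (T : Subgroup K).index = k := Subgroup.card_mul_index _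
      have hpos : 0 < Nat.card (Sylow 3 K) := Nat.card_pos
      have hle : (T : Subgroup K).index ≤ 4 := by
        rcases hsyl_card T with ⟨h', h⟩ | ⟨h', h⟩ <;> rw [h, h'] at h2 <;> omega
      have hipos : 0 < (T : Subgroup K).index := by
        rcases Nat.eq_zero_or_pos (T : Subgroup K).index with h | h
        · rw [h] at h2; omega
        · exact h
      have hle2 := Nat.le_of_dvd hipos h1
      intro h5
      have hle3 := Nat.le_of_dvd hpos h5
      omega
    obtain ⟨T, hTfix⟩ := IsPGroup.nonempty_fixed_point_of_prime_not_dvd_card hzP (Sylow 3 K) hn3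
    have hαT : α • T = T := hTfix ⟨α, Subgroup.mem_zpowers α⟩
    have hTinv : ∀ t : K, t ∈ (T : Subgroup K) ↔ α t ∈ (T : Subgroup K) := by
      intro t
      have hT' : α • (T : Subgroup K) = (T : Subgroup K) :=
        congrArg (fun S : Sylow 3 K => (S : Subgroup K)) hαT
      constructor
      · intro ht
        have : α • t ∈ α • (T : Subgroup K) := Subgroup.smul_mem_pointwise_smul t α _ ht
        rw [hT'] at this
        exact this
      · intro ht
        have h1 : α • t ∈ α • (T : Subgroup K) := by
          rw [hT']
          exact ht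
        exact (Subgroup.smul_mem_pointwise_smul_iff).mp h1
    have hTmod := d6_fpf_card α hα5 hfpf (T : Subgroup K) hTinv
    have hmodT : Nat.card (T : Subgroup K) % 5 = 1 := hTmod
    rcases hsyl_card T with ⟨-, h⟩ | ⟨-, h⟩
    · have : Nat.card (T : Subgroup K) = 3 := h
      omega
    · have : Nat.card (T : Subgroup K) = 9 := h
      omega

/-- LEAF D6 -/
theorem recog_A6 {G : Type*} [Group G] [Finite G] (hN : Nat.card G = 360) (h3 : Cfsg.Agent.S3995.s G 3 = 80)
    (h5 : Cfsg.Agent.S3995.s G 5 = 144) (hsp : ∀ m, Cfsg.Agent.S3995.s G m ≠ 0 → m ≤ 5) :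
    Nonempty (G ≃* ↥(alternatingGroup (Fin 6))) := by
  haveI : IsSimpleGroup G := d6_simple hN h3 h5 hsp
  exact Cfsg.Agent.S0497.result hN

end Cfsg.Agent.Lib.Helper96.Nse
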