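import Mathlib

/-!
# K-PrnA LEAF AR (keystone 222208, architect helper44, S2222), parallel hand

`ν₂(n!) = n / 2 + ν₂((n / 2)!)`.
-/

set_option autoImplicit false

namespace Cfsg.Agent.Lib.Helper96.PrnA

theorem factorization_factorial_half (n : ℕ) :
    (n.factorial).factorization 2 = n / 2 + ((n / 2).factorial).factorization 2 := by
  rcases Nat.even_or_odd' n with ⟨k, hk | hk⟩
  · subst hk
    rw [Nat.factorization_factorial_mul Nat.prime_two,
      Nat.mul_div_cancel_left k (by norm_num : 0 < 2), add_comm]
  · subst hk
    have h1 : (2 * k + 1) / 2 = k := by omega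
    rw [h1, Nat.factorial_succ, Nat.factorization_mul (by omega) (Nat.factorial_ne_zero _),
      Finsupp.coe_add, Pi.add_apply,
      Nat.factorization_eq_zero_of_not_dvd (by omega : ¬ 2 ∣ 2 * k + 1), zero_add,
      Nat.factorization_factorial_mul Nat.prime_two, add_comm]

end Cfsg.Agent.Lib.Helper96.PrnA
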