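import Mathlib

/-!
# K-PrnA LEAF NS (keystone 222210, architect helper44, S2222), parallel hand

If no nontrivial element of odd order normalises the Sylow 2-subgroup `P`, then `N(P) = P`.
-/

set_option autoImplicit false

namespace Cfsg.Agent.Lib.Helper96.PrnA

theorem normalizer_sylow_two_of_odd {G : Type*} [Group G] [Finite G] (P : Sylow 2 G)
    (hmain : ∀ g ∈ Subgroup.normalizer ((P : Subgroup G) : Set G), Odd (orderOf g) → g = 1) :
    Subgroup.normalizer ((P : Subgroup G) : Set G) = P := by
  set N := Subgroup.normalizer ((P : Subgroup G) : Set G) with hN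
  have hPN : (P : Subgroup G) ≤ N := Subgroup.le_normalizer
  have hNp : IsPGroup 2 N := by
    rintro ⟨g, hg⟩
    have hpos : 0 < orderOf g := orderOf_pos g
    obtain ⟨k, m, hm, hkm⟩ := Nat.exists_eq_two_pow_mul_odd hpos.ne'
    refine ⟨k, ?_⟩
    have hgk : g ^ 2 ^ k ∈ N := N.pow_mem hg _
    have hord : orderOf (g ^ 2 ^ k) = m := by
      rw [orderOf_pow' g (pow_ne_zero k two_ne_zero), hkm,
        Nat.gcd_eq_right (Dvd.intro _ rfl), Nat.mul_div_cancel_left _ (by positivity)]
    have h1 : g ^ 2 ^ k = 1 := hmain _ hgk (hord ▸ hm)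
    exact Subtype.ext h1
  exact P.is_maximal' hNp hPN

end Cfsg.Agent.Lib.Helper96.PrnA
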