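import Mathlib
import Cfsg.Agent.Lib.Helper73.RUDefs
import Cfsg.Agent.Lib.Helper73.RUHub
import Cfsg.Agent.Lib.Helper02.RU4Defs

/-!
# K-RU4-B (keystone 227902, S2279): the transvection `1 + l³ c₁ φ₋₁ᵀ` lies in `⟨a, v4 l⟩`
-/

set_option autoImplicit false

namespace Cfsg.Agent.Lib.Helper96.RU4B

open Matrix Cfsg.Agent.Lib.Helper73.RU Cfsg.Agent.Lib.Helper73.RUSpec

section defs
variable (m : ℕ) (F : Type*) [Field F]

/-- the index `last - 1` -/
def pen : Fin (m + 3) := ⟨m + 1, by omega⟩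

/-- `v = g a g⁻¹ = a + l E_{last,1} - l E_{last-1,0}` -/
def v4 (l : F) : Matrix (Fin (m + 3)) (Fin (m + 3)) F :=
  aMat m F + Matrix.single (Fin.last (m + 2)) 1 l - Matrix.single (pen m) 0 l

/-- `c₁ = a e_last = e_last + e_{last-1}` -/
def c1 : Fin (m + 3) → F := Pi.single (Fin.last (m + 2)) 1 + Pi.single (pen m) 1

/-- `φ₋₁ = e_0ᵀ a = e_0 + e_1` -/
def f1 : Fin (m + 3) → F := Pi.single 0 1 + Pi.single 1 1

/-- the alternating column with `a *ᵥ cm1 = e_last` -/
def cm1 : Fin (m + 3) → F := fun i => (-1) ^ (m + 2 - i.val)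

/-- the alternating row with `ph1 ᵥ* a = e_0` -/
def ph1 : Fin (m + 3) → F := fun i => (-1) ^ i.val

end defs

variable {m : ℕ} {F : Type*} [Field F]

/-- entries of `aMat *ᵥ v` -/
theorem aMat_mulVec_apply' (v : Fin (m + 3) → F) (i : Fin (m + 3)) :
    (aMat m F *ᵥ v) i = v i + (if h : i.val + 1 < m + 3 then v ⟨i.val + 1, h⟩ else 0) := by
  unfold aMat
  simp only [mulVec, dotProduct, of_apply]
  have h1 : ∀ k : Fin (m + 3), (if i = k ∨ i.val + 1 = k.val then (1 : F) else 0) * v k =
      (if i = k then v k else 0) + (if i.val + 1 = k.val then v k else 0) := by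
    intro k
    by_cases hik : i = k
    · have : ¬ (i.val + 1 = k.val) := by rw [hik]; omega
      rw [if_pos (Or.inl hik), if_pos hik, if_neg this, one_mul, add_zero]
    · by_cases hk : i.val + 1 = k.val
      · rw [if_pos (Or.inr hk), if_neg hik, if_pos hk, one_mul, zero_add]
      · rw [if_neg (by tauto), if_neg hik, if_neg hk, zero_mul, add_zero]
  rw [Finset.sum_congr rfl (fun k _ => h1 k), Finset.sum_add_distrib, Finset.sum_ite_eq]
  simp only [Finset.mem_univ, if_true]
  congr 1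
  by_cases h : i.val + 1 < m + 3
  · rw [dif_pos h]
    rw [Finset.sum_eq_single (⟨i.val + 1, h⟩ : Fin (m + 3))]
    · simp
    · intro b _ hb
      rw [if_neg]
      intro hb'
      apply hb
      ext
      exact hb'.symm
    · intro h'
      exact absurd (Finset.mem_univ _) h'
  · rw [dif_neg h]
    apply Finset.sum_eq_zero
    intro k _
    rw [if_neg]
    have := k.2
    omega

/-- entries of `w ᵥ* aMat` -/
theorem vecMul_aMat_apply' (w : Fin (m + 3) → F) (j : Fin (m + 3)) :
    (w ᵥ* aMat m F) j = w j + (if h : 0 < j.val then w ⟨j.val - 1, by omega⟩ else 0) := by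
  unfold aMat
  simp only [vecMul, dotProduct, of_apply]
  have h1 : ∀ k : Fin (m + 3), w k * (if k = j ∨ k.val + 1 = j.val then (1 : F) else 0) =
      (if k = j then w k else 0) + (if k.val + 1 = j.val then w k else 0) := by
    intro k
    by_cases hik : k = j
    · have : ¬ (k.val + 1 = j.val) := by rw [hik]; omega
      rw [if_pos (Or.inl hik), if_pos hik, if_neg this, mul_one, add_zero]
    · by_cases hk : k.val + 1 = j.val
      · rw [if_pos (Or.inr hk), if_neg hik, if_pos hk, mul_one, zero_add]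
      · rw [if_neg (by tauto), if_neg hik, if_neg hk, mul_zero, add_zero]
  rw [Finset.sum_congr rfl (fun k _ => h1 k), Finset.sum_add_distrib, Finset.sum_ite_eq']
  simp only [Finset.mem_univ, if_true]
  congr 1
  by_cases h : 0 < j.val
  · rw [dif_pos h]
    rw [Finset.sum_eq_single (⟨j.val - 1, by omega⟩ : Fin (m + 3))]
    · rw [if_pos]
      simp only
      omega
    · intro b _ hb
      rw [if_neg]
      intro hb'
      apply hb
      ext
      simp only
      omega
    · intro h'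
      exact absurd (Finset.mem_univ _) h'
  · rw [dif_neg h]
    apply Finset.sum_eq_zero
    intro k _
    rw [if_neg]
    omega

theorem aMat_mulVec_cm1 : aMat m F *ᵥ cm1 m F = Pi.single (Fin.last (m + 2)) 1 := by
  ext i
  rw [aMat_mulVec_apply']
  unfold cm1
  by_cases h : i.val + 1 < m + 3
  · rw [dif_pos h]
    have hne : i ≠ Fin.last (m + 2) := by
      intro hi
      rw [hi] at h
      simp at h
    rw [Pi.single_eq_of_ne hne]
    simp only
    have : m + 2 - i.val = (m + 2 - (i.val + 1)) + 1 := by omega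
    rw [this, pow_succ]
    ring
  · rw [dif_neg h]
    have hi : i = Fin.last (m + 2) := by
      ext
      simp
      omega
    rw [hi]
    simp

theorem aMat_mulVec_last : aMat m F *ᵥ (Pi.single (Fin.last (m + 2)) 1) = c1 m F := by
  ext i
  rw [aMat_mulVec_apply']
  unfold c1 pen
  simp only [Pi.add_apply, Pi.single_apply]
  by_cases h : i.val + 1 < m + 3
  · rw [dif_pos h]
    have hne : i ≠ Fin.last (m + 2) := by
      intro hi
      rw [hi] at h
      simp at h
    rw [if_neg hne, zero_add, zero_add]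
    by_cases hp : i.val = m + 1
    · rw [if_pos, if_pos]
      · ext; exact hp
      · ext; simp; omega
    · rw [if_neg, if_neg]
      · intro hh; apply hp; exact congrArg Fin.val hh
      · intro hh
        have := congrArg Fin.val hh
        simp at this
        omega
  · rw [dif_neg h]
    have hi : i = Fin.last (m + 2) := by
      ext
      simp
      omega
    rw [hi]
    have : (Fin.last (m + 2) : Fin (m + 3)) ≠ ⟨m + 1, by omega⟩ := by
      intro hh
      have := congrArg Fin.val hh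
      simp at this
    simp [this]

theorem ph1_vecMul_aMat : ph1 m F ᵥ* aMat m F = Pi.single 0 1 := by
  ext j
  rw [vecMul_aMat_apply']
  unfold ph1
  by_cases h : 0 < j.val
  · rw [dif_pos h]
    have hne : j ≠ 0 := by
      intro hj
      rw [hj] at h
      simp at h
    rw [Pi.single_eq_of_ne hne]
    simp only
    have : j.val = (j.val - 1) + 1 := by omega
    rw [this, pow_succ]
    simp
  · rw [dif_neg h]
    have hj : j = 0 := by
      apply Fin.ext
      rw [Fin.val_zero]
      omega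
    rw [hj]
    simp

theorem e0_vecMul_aMat' :
    (Pi.single 0 1 : Fin (m + 3) → F) ᵥ* aMat m F = f1 m F := by
  ext j
  rw [vecMul_aMat_apply']
  unfold f1
  simp only [Pi.add_apply, Pi.single_apply]
  by_cases h : 0 < j.val
  · rw [dif_pos h]
    have hne : j ≠ 0 := by
      intro hj
      rw [hj] at h
      simp at h
    rw [if_neg hne, zero_add, zero_add]
    by_cases h1 : j.val = 1
    · rw [if_pos, if_pos]
      · ext; simpa using h1
      · ext; simp; omega
    · rw [if_neg, if_neg]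
      · intro hh; apply h1; have := congrArg Fin.val hh; simpa using this
      · intro hh
        have := congrArg Fin.val hh
        simp at this
        omega
  · rw [dif_neg h]
    have hj : j = 0 := by
      apply Fin.ext
      rw [Fin.val_zero]
      omega
    rw [hj]
    simp

/-! ## the rank-three calculus `1 + C X P` -/

theorem mk_mul {n : ℕ} (C : Matrix (Fin n) (Fin 3) F) (P : Matrix (Fin 3) (Fin n) F)
    (K X Y : Matrix (Fin 3) (Fin 3) F) (hK : P * C = K) :
    (1 + C * X * P) * (1 + C * Y * P) = 1 + C * (X + Y + X * K * Y) * P := by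
  rw [← hK]
  simp only [Matrix.mul_add, Matrix.add_mul, Matrix.mul_one, Matrix.one_mul, Matrix.mul_assoc]
  abel

section mats
variable (m : ℕ) (F : Type*) [Field F]

/-- the columns `c₋₁, c₀, c₁` -/
def Cm : Matrix (Fin (m + 3)) (Fin 3) F :=
  Matrix.of fun i a =>
    ![cm1 m F i, (Pi.single (Fin.last (m + 2)) 1 : Fin (m + 3) → F) i, c1 m F i] a

/-- the rows `φ₋₁, φ₀, φ₁` -/
def Pm : Matrix (Fin 3) (Fin (m + 3)) F :=
  Matrix.of fun b j =>
    ![f1 m F j, (Pi.single 0 1 : Fin (m + 3) → F) j, ph1 m F j] b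

/-- the pairing table -/
def Km (ε ν : F) : Matrix (Fin 3) (Fin 3) F := !![0, 0, 0; ε, 0, 0; ν, ε, 0]

def X1 (l : F) : Matrix (Fin 3) (Fin 3) F := !![l, 0, 0; 0, -l, 0; 0, 0, 0]

def X0 (l : F) : Matrix (Fin 3) (Fin 3) F := !![0, 0, 0; 0, l, 0; 0, 0, -l]

def Yx (l ε ν : F) : Matrix (Fin 3) (Fin 3) F :=
  !![0, 0, 0; -(l ^ 2 * ε), 0, 0; l ^ 2 * ν + l ^ 3, -(l ^ 2 * ε), 0]

def Tx (l : F) : Matrix (Fin 3) (Fin 3) F := !![0, 0, 0; 0, 0, 0; l ^ 3, 0, 0]

end mats

theorem three_a (l ε ν : F) (hε : ε = 1 ∨ ε = -1) :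
    X1 F l + X0 F l + X1 F l * Km F ε ν * X0 F l =
      Yx F l ε ν + (X0 F l + X1 F l + X0 F l * Km F ε ν * X1 F l) +
        Yx F l ε ν * Km F ε ν * (X0 F l + X1 F l + X0 F l * Km F ε ν * X1 F l) := by
  unfold X1 X0 Km Yx
  rcases hε with rfl | rfl <;> ext a b <;> fin_cases a <;> fin_cases b <;>
    simp [Matrix.mul_apply, Fin.sum_univ_three] <;> ring

theorem three_b (l ε ν : F) (hε : ε = 1 ∨ ε = -1) :
    X1 F l + Yx F l ε ν + X1 F l * Km F ε ν * Yx F l ε ν =
      Tx F l + (Yx F l ε ν + X1 F l + Yx F l ε ν * Km F ε ν * X1 F l) +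
        Tx F l * Km F ε ν * (Yx F l ε ν + X1 F l + Yx F l ε ν * Km F ε ν * X1 F l) := by
  unfold X1 Km Yx Tx
  rcases hε with rfl | rfl <;> ext a b <;> fin_cases a <;> fin_cases b <;>
    simp [Matrix.mul_apply, Fin.sum_univ_three] <;> ring

/-! ## the pairing table -/

theorem last_ne_zero' : (Fin.last (m + 2) : Fin (m + 3)) ≠ 0 := by
  intro h
  have := congrArg Fin.val h
  simp at this

theorem last_ne_one' : (Fin.last (m + 2) : Fin (m + 3)) ≠ 1 := by
  intro h
  have := congrArg Fin.val h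
  simp at this

theorem pen_ne_zero' : pen m ≠ 0 := by
  intro h
  have := congrArg Fin.val h
  simp [pen] at this

theorem pen_ne_one' (hm : 1 ≤ m) : pen m ≠ 1 := by
  intro h
  have := congrArg Fin.val h
  simp [pen] at this
  omega

theorem last_ne_pen' : (Fin.last (m + 2) : Fin (m + 3)) ≠ pen m := by
  intro h
  have := congrArg Fin.val h
  simp [pen] at this

theorem zero_ne_one' : (0 : Fin (m + 3)) ≠ 1 := by
  intro h
  have := congrArg Fin.val h
  simp at this

theorem f1_dot (v : Fin (m + 3) → F) : f1 m F ⬝ᵥ v = v 0 + v 1 := by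
  unfold f1
  rw [add_dotProduct, single_dotProduct, single_dotProduct, one_mul, one_mul]

theorem e0_dot (v : Fin (m + 3) → F) : (Pi.single 0 1 : Fin (m + 3) → F) ⬝ᵥ v = v 0 := by
  rw [single_dotProduct, one_mul]

theorem dot_last (w : Fin (m + 3) → F) :
    w ⬝ᵥ (Pi.single (Fin.last (m + 2)) 1 : Fin (m + 3) → F) = w (Fin.last (m + 2)) := by
  rw [dotProduct_single, mul_one]

theorem dot_c1 (w : Fin (m + 3) → F) :
    w ⬝ᵥ c1 m F = w (Fin.last (m + 2)) + w (pen m) := by
  unfold c1
  rw [dotProduct_add, dotProduct_single, dotProduct_single, mul_one, mul_one]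

theorem pairing (hm : 1 ≤ m) :
    Pm m F * Cm m F = Km F ((-1) ^ (m + 2)) (ph1 m F ⬝ᵥ cm1 m F) := by
  have hc1_0 : c1 m F 0 = 0 := by
    unfold c1
    simp [Pi.single_apply, (last_ne_zero' (m := m)).symm, (pen_ne_zero' (m := m)).symm]
  have hc1_1 : c1 m F 1 = 0 := by
    unfold c1
    simp [Pi.single_apply, (last_ne_one' (m := m)).symm, (pen_ne_one' hm).symm]
  have hc0_0 : (Pi.single (Fin.last (m + 2)) 1 : Fin (m + 3) → F) 0 = 0 :=
    Pi.single_eq_of_ne (last_ne_zero' (m := m)).symm _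
  have hc0_1 : (Pi.single (Fin.last (m + 2)) 1 : Fin (m + 3) → F) 1 = 0 :=
    Pi.single_eq_of_ne (last_ne_one' (m := m)).symm _
  have hcm_0 : cm1 m F 0 = (-1) ^ (m + 2) := by
    unfold cm1
    simp
  have hcm_1 : cm1 m F 1 = -(-1) ^ (m + 2) := by
    unfold cm1
    have : ((1 : Fin (m + 3)) : ℕ) = 1 := by
      simp [Fin.val_one']
    rw [this, show m + 2 = (m + 2 - 1) + 1 by omega, pow_succ]
    simp
  have hph_last : ph1 m F (Fin.last (m + 2)) = (-1) ^ (m + 2) := by
    unfold ph1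
    simp
  have hph_pen : ph1 m F (pen m) = -(-1) ^ (m + 2) := by
    show (-1 : F) ^ (m + 1) = -(-1) ^ (m + 2)
    have h : (-1 : F) ^ (m + 2) = (-1) ^ (m + 1) * (-1) := pow_succ _ _
    rw [h]
    ring
  ext b a
  rw [Matrix.mul_apply]
  fin_cases b <;> fin_cases a
  · show ∑ j, f1 m F j * cm1 m F j = 0
    have := f1_dot (m := m) (F := F) (cm1 m F)
    unfold dotProduct at this
    rw [this, hcm_0, hcm_1, add_neg_cancel]
  · show ∑ j, f1 m F j * (Pi.single (Fin.last (m + 2)) 1 : Fin (m + 3) → F) j = 0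
    have := f1_dot (m := m) (F := F) (Pi.single (Fin.last (m + 2)) 1)
    unfold dotProduct at this
    rw [this, hc0_0, hc0_1, add_zero]
  · show ∑ j, f1 m F j * c1 m F j = 0
    have := f1_dot (m := m) (F := F) (c1 m F)
    unfold dotProduct at this
    rw [this, hc1_0, hc1_1, add_zero]
  · show ∑ j, (Pi.single 0 1 : Fin (m + 3) → F) j * cm1 m F j = (-1) ^ (m + 2)
    have := e0_dot (m := m) (F := F) (cm1 m F)
    unfold dotProduct at this
    rw [this, hcm_0]
  · show ∑ j, (Pi.single 0 1 : Fin (m + 3) → F) j *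
      (Pi.single (Fin.last (m + 2)) 1 : Fin (m + 3) → F) j = 0
    have := e0_dot (m := m) (F := F) (Pi.single (Fin.last (m + 2)) 1)
    unfold dotProduct at this
    rw [this, hc0_0]
  · show ∑ j, (Pi.single 0 1 : Fin (m + 3) → F) j * c1 m F j = 0
    have := e0_dot (m := m) (F := F) (c1 m F)
    unfold dotProduct at this
    rw [this, hc1_0]
  · rfl
  · show ∑ j, ph1 m F j * (Pi.single (Fin.last (m + 2)) 1 : Fin (m + 3) → F) j = (-1) ^ (m + 2)
    have := dot_last (m := m) (F := F) (ph1 m F)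
    unfold dotProduct at this
    rw [this, hph_last]
  · show ∑ j, ph1 m F j * c1 m F j = 0
    have := dot_c1 (m := m) (F := F) (ph1 m F)
    unfold dotProduct at this
    rw [this, hph_last, hph_pen, add_neg_cancel]

/-! ## `d₋₁ = a⁻¹ v` and `d₀ = v a⁻¹` in the calculus -/

theorem CX1P (l : F) :
    Cm m F * X1 F l * Pm m F =
      l • vecMulVec (cm1 m F) (f1 m F) -
        l • vecMulVec (Pi.single (Fin.last (m + 2)) 1 : Fin (m + 3) → F) (Pi.single 0 1) := by
  ext i j
  simp only [Matrix.mul_apply, Fin.sum_univ_three, Cm, Pm, X1, Matrix.of_apply, Matrix.sub_apply,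
    Matrix.smul_apply, vecMulVec_apply, smul_eq_mul, Matrix.cons_val_zero, Matrix.cons_val_one,
    Matrix.cons_val_two, Matrix.head_cons, Matrix.tail_cons, Matrix.cons_val', Matrix.cons_val_fin_one]
  simp
  ring

theorem CX0P (l : F) :
    Cm m F * X0 F l * Pm m F =
      l • vecMulVec (Pi.single (Fin.last (m + 2)) 1 : Fin (m + 3) → F) (Pi.single 0 1) -
        l • vecMulVec (c1 m F) (ph1 m F) := by
  ext i j
  simp only [Matrix.mul_apply, Fin.sum_univ_three, Cm, Pm, X0, Matrix.of_apply, Matrix.sub_apply,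
    Matrix.smul_apply, vecMulVec_apply, smul_eq_mul, Matrix.cons_val_zero, Matrix.cons_val_one,
    Matrix.cons_val_two, Matrix.head_cons, Matrix.tail_cons, Matrix.cons_val', Matrix.cons_val_fin_one]
  simp
  ring

theorem CTxP (l : F) :
    Cm m F * Tx F l * Pm m F = vecMulVec (l ^ 3 • c1 m F) (f1 m F) := by
  ext i j
  have h : (Cm m F * Tx F l * Pm m F) i j = c1 m F i * l ^ 3 * f1 m F j := by
    simp [Matrix.mul_apply, Fin.sum_univ_three, Cm, Pm, Tx]
  rw [h, vecMulVec_apply, Pi.smul_apply, smul_eq_mul]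
  ring

theorem w_eq (l : F) :
    l • vecMulVec (Pi.single (Fin.last (m + 2)) 1 : Fin (m + 3) → F) (f1 m F) -
        l • vecMulVec (c1 m F) (Pi.single 0 1 : Fin (m + 3) → F) =
      Matrix.single (Fin.last (m + 2)) 1 l - Matrix.single (pen m) 0 l := by
  have hlp := last_ne_pen' (m := m)
  have h01 := zero_ne_one' (m := m)
  ext i j
  simp only [Matrix.sub_apply, Matrix.smul_apply, vecMulVec_apply, smul_eq_mul, f1, c1,
    Pi.add_apply, Pi.single_apply, Matrix.single_apply]
  by_cases hi : i = Fin.last (m + 2)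
  · have hip : ¬ (i = pen m) := fun h => hlp (hi ▸ h)
    by_cases h0 : j = 0
    · have hj1 : ¬ (j = 1) := fun h => h01 (h0 ▸ h)
      subst hi
      subst h0
      simp [hlp, h01, hlp.symm, h01.symm]
    · by_cases h1 : j = 1
      · subst hi
        subst h1
        simp [hlp, h01, hlp.symm, h01.symm]
      · subst hi
        simp [hlp, h0, h1, Ne.symm h0, Ne.symm h1]
  · by_cases hp : i = pen m
    · by_cases h0 : j = 0
      · subst hp
        subst h0
        simp [hlp, h01, hlp.symm, h01.symm]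
      · subst hp
        simp [hlp, hlp.symm, h0, Ne.symm h0]
    · simp [hi, hp, Ne.symm hi, Ne.symm hp]

theorem aMat_mul_D1 (l : F) :
    aMat m F * (1 + Cm m F * X1 F l * Pm m F) = v4 m F l := by
  rw [CX1P, Matrix.mul_add, Matrix.mul_one, Matrix.mul_sub, Matrix.mul_smul, Matrix.mul_smul,
    mul_vecMulVec, mul_vecMulVec, aMat_mulVec_cm1, aMat_mulVec_last, w_eq]
  unfold v4
  abel

theorem D0_mul_aMat (l : F) :
    (1 + Cm m F * X0 F l * Pm m F) * aMat m F = v4 m F l := by
  rw [CX0P, Matrix.add_mul, Matrix.one_mul, Matrix.sub_mul, Matrix.smul_mul, Matrix.smul_mul,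
    vecMulVec_mul, vecMulVec_mul, e0_vecMul_aMat', ph1_vecMul_aMat, w_eq]
  unfold v4
  abel

/-! ## LEAF B -/

theorem tv_mem {m : ℕ} {F : Type*} [Field F] (hm : 1 ≤ m)
    {G : Subgroup (SpecialLinearGroup (Fin (m + 3)) F)} (l : F)
    (ha : InG G (aMat m F)) (hv : InG G (v4 m F l)) :
    InG G (tvm (l ^ 3 • c1 m F) (f1 m F)) := by
  set ε : F := (-1) ^ (m + 2) with hε
  set ν : F := ph1 m F ⬝ᵥ cm1 m F with hν
  have hε1 : ε = 1 ∨ ε = -1 := neg_one_pow_eq_or F (m + 2)
  have hK : Pm m F * Cm m F = Km F ε ν := pairing hm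
  set D1 := 1 + Cm m F * X1 F l * Pm m F with hD1def
  set D0 := 1 + Cm m F * X0 F l * Pm m F with hD0def
  set Ym := 1 + Cm m F * Yx F l ε ν * Pm m F with hYdef
  set Tm := 1 + Cm m F * Tx F l * Pm m F with hTdef
  have hD1 : InG G D1 := inG_of_mul_left ha (by rw [hD1def, aMat_mul_D1]; exact hv)
  have hD0 : InG G D0 := inG_of_mul_right ha (by rw [hD0def, D0_mul_aMat]; exact hv)
  have e1 : D1 * D0 = Ym * (D0 * D1) := by
    rw [hD1def, hD0def, hYdef, mk_mul _ _ _ _ _ hK, mk_mul _ _ _ _ _ hK, mk_mul _ _ _ _ _ hK,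
      three_a l ε ν hε1]
  have hY : InG G Ym := inG_of_mul_right (inG_mul hD0 hD1) (e1 ▸ inG_mul hD1 hD0)
  have e2 : D1 * Ym = Tm * (Ym * D1) := by
    rw [hD1def, hYdef, hTdef, mk_mul _ _ _ _ _ hK, mk_mul _ _ _ _ _ hK, mk_mul _ _ _ _ _ hK,
      three_b l ε ν hε1]
  have hT : InG G Tm := inG_of_mul_right (inG_mul hY hD1) (e2 ▸ inG_mul hD1 hY)
  have : Tm = tvm (l ^ 3 • c1 m F) (f1 m F) := by
    rw [hTdef, CTxP]
    rfl
  rw [← this]
  exact hT

/-- LEAF B in terms of the definitions of `Cfsg.Agent.Lib.Helper02.RU4` (the spec header) -/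
theorem tv_mem_spec {m : ℕ} {F : Type*} [Field F] (hm : 1 ≤ m)
    {G : Subgroup (SpecialLinearGroup (Fin (m + 3)) F)} (l : F)
    (ha : InG G (aMat m F)) (hv : InG G (Cfsg.Agent.Lib.Helper02.RU4.v4 m F l)) :
    InG G (tvm (l ^ 3 • Cfsg.Agent.Lib.Helper02.RU4.c1 m F)
      (Cfsg.Agent.Lib.Helper02.RU4.f1 m F)) :=
  tv_mem hm l ha hv

end Cfsg.Agent.Lib.Helper96.RU4B
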