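import Mathlib
import Cfsg.Agent.Lib.Helper96.CW2

/-!
# The squaring map on a group with central elementary abelian squares

Ambient-subgroup form of Chevalley–Warning: if `T₁ ≤ T ≤ K ≤ H` are subgroups of a finite group with
`K` central in `H` of exponent 2 and all squares of `H` in `T`, and `|T : T₁|^2 < |H : K|`, then some
`x ∈ H ∖ K` has `x^2 ∈ T₁`.
-/

set_option autoImplicit false

namespace Cfsg.Agent.Lib.Helper96.SqMap

open Cfsg.Agent.Lib.Helper96
open scoped Pointwise

variable {G : Type*} [Group G]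

/-- `(uv)² u² v² = v u v⁻¹ u⁻¹` when squares are central involutions -/
lemma sq_mul_form (H : Subgroup G)
    (hcentral : ∀ u ∈ H, ∀ w ∈ H, (u * u) * w = w * (u * u))
    (hord : ∀ u ∈ H, (u * u) * (u * u) = 1) {u v : G} (hu : u ∈ H) (hv : v ∈ H) :
    (u * v) * (u * v) * (u * u) * (v * v) = v * u * v⁻¹ * u⁻¹ := by
  have huv : u * v ∈ H := H.mul_mem hu hv
  set c := (u * v) * (u * v) * (u * u) * (v * v) with hc
  -- c commutes with u
  have hcu : c * u = u * c := by
    rw [hc]
    calc (u * v) * (u * v) * (u * u) * (v * v) * u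
        = (u * v) * (u * v) * (u * u) * ((v * v) * u) := by group
      _ = (u * v) * (u * v) * (u * u) * (u * (v * v)) := by rw [hcentral v hv u hu]
      _ = (u * v) * (u * v) * ((u * u) * u) * (v * v) := by group
      _ = (u * v) * (u * v) * (u * (u * u)) * (v * v) := by rw [hcentral u hu u hu]
      _ = ((u * v) * (u * v) * u) * (u * u) * (v * v) := by group
      _ = (u * ((u * v) * (u * v))) * (u * u) * (v * v) := by rw [hcentral (u * v) huv u hu]
      _ = u * ((u * v) * (u * v) * (u * u) * (v * v)) := by group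
  -- (uu)(vv) is its own inverse
  have hinv : (u * u) * (v * v) = v⁻¹ * v⁻¹ * u⁻¹ * u⁻¹ := by
    have h1 : ((u * u) * (v * v)) * ((u * u) * (v * v)) = 1 := by
      calc ((u * u) * (v * v)) * ((u * u) * (v * v))
          = (u * u) * ((v * v) * (u * u)) * (v * v) := by group
        _ = (u * u) * ((u * u) * (v * v)) * (v * v) := by
            rw [hcentral v hv (u * u) (H.mul_mem hu hu)]
        _ = ((u * u) * (u * u)) * ((v * v) * (v * v)) := by group
        _ = 1 := by rw [hord u hu, hord v hv, one_mul]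
    have h2 : ((u * u) * (v * v))⁻¹ = (u * u) * (v * v) := inv_eq_of_mul_eq_one_left h1
    rw [← h2]; group
  have h3 : c = u⁻¹ * c * u := by
    rw [mul_assoc, hcu]; group
  rw [h3, hc]
  calc u⁻¹ * ((u * v) * (u * v) * (u * u) * (v * v)) * u
      = u⁻¹ * ((u * v) * (u * v) * ((u * u) * (v * v))) * u := by group
    _ = u⁻¹ * ((u * v) * (u * v) * (v⁻¹ * v⁻¹ * u⁻¹ * u⁻¹)) * u := by rw [hinv]
    _ = v * u * v⁻¹ * u⁻¹ := by group

/-- the squaring map is "quadratic" -/
lemma sq_quadratic (H : Subgroup G)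
    (hcentral : ∀ u ∈ H, ∀ w ∈ H, (u * u) * w = w * (u * u))
    (hord : ∀ u ∈ H, (u * u) * (u * u) = 1) {x y z : G} (hx : x ∈ H) (hy : y ∈ H) (hz : z ∈ H) :
    (x * y * z) * (x * y * z) * ((x * y) * (x * y)) * (z * z)
      = ((x * z) * (x * z) * (x * x) * (z * z)) * ((y * z) * (y * z) * (y * y) * (z * z)) := by
  have hxy : x * y ∈ H := H.mul_mem hx hy
  have e1 := sq_mul_form H hcentral hord hxy hz
  have e2 := sq_mul_form H hcentral hord hx hz
  have e3 := sq_mul_form H hcentral hord hy hz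
  rw [e1, e2]
  -- k := (y z)² y² z² is central
  set k := (y * z) * (y * z) * (y * y) * (z * z) with hk
  have hkx : k * x = x * k := by
    rw [hk]
    have hyz : y * z ∈ H := H.mul_mem hy hz
    calc (y * z) * (y * z) * (y * y) * (z * z) * x
        = (y * z) * (y * z) * (y * y) * ((z * z) * x) := by group
      _ = (y * z) * (y * z) * (y * y) * (x * (z * z)) := by rw [hcentral z hz x hx]
      _ = (y * z) * (y * z) * ((y * y) * x) * (z * z) := by group
      _ = (y * z) * (y * z) * (x * (y * y)) * (z * z) := by rw [hcentral y hy x hx]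
      _ = ((y * z) * (y * z) * x) * (y * y) * (z * z) := by group
      _ = (x * ((y * z) * (y * z))) * (y * y) * (z * z) := by rw [hcentral (y * z) hyz x hx]
      _ = x * ((y * z) * (y * z) * (y * y) * (z * z)) := by group
  have hk' : x * k * x⁻¹ = k := by
    rw [← hkx]; group
  calc z * (x * y) * z⁻¹ * (x * y)⁻¹
      = (z * x * z⁻¹ * x⁻¹) * (x * (z * y * z⁻¹ * y⁻¹) * x⁻¹) := by group
    _ = (z * x * z⁻¹ * x⁻¹) * (x * k * x⁻¹) := by rw [e3]
    _ = (z * x * z⁻¹ * x⁻¹) * k := by rw [hk']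

/-- **Ambient Chevalley–Warning for the squaring map.** -/
theorem exists_sq_mem [Finite G] (H K T T₁ : Subgroup G)
    (hKH : K ≤ H) (hTK : T ≤ K)
    (hcent : ∀ x ∈ H, ∀ k ∈ K, x * k = k * x)
    (hK2 : ∀ k ∈ K, k * k = 1)
    (hsq : ∀ x ∈ H, x * x ∈ T)
    (hcard : (T₁.relIndex T) ^ 2 < K.relIndex H) :
    ∃ x ∈ H, x ∉ K ∧ x * x ∈ T₁ := by
  classical
  have hTH : T ≤ H := hTK.trans hKH
  have hcentral : ∀ u ∈ H, ∀ w ∈ H, (u * u) * w = w * (u * u) := fun u hu w hw =>
    (hcent w hw _ (hTK (hsq u hu))).symm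
  have hord : ∀ u ∈ H, (u * u) * (u * u) = 1 := fun u hu => hK2 _ (hTK (hsq u hu))
  have hKn : (K.subgroupOf H).Normal := by
    constructor
    intro n hn g
    rw [Subgroup.mem_subgroupOf] at hn ⊢
    have : ((g * n * g⁻¹ : ↥H) : G) = (n : G) := by
      push_cast
      rw [hcent g g.2 n hn]; group
    rw [this]; exact hn
  have hTn : (T₁.subgroupOf T).Normal := by
    constructor
    intro n hn g
    rw [Subgroup.mem_subgroupOf] at hn ⊢
    have : ((g * n * g⁻¹ : ↥T) : G) = (n : G) := by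
      push_cast
      rw [hcent g (hTH g.2) n (hTK n.2)]; group
    rw [this]; exact hn
  -- the squaring map
  let q₀ : ↥H → ↥T := fun x => ⟨(x : G) * x, hsq x x.2⟩
  have hq₀ : ∀ x y : ↥H, x⁻¹ * y ∈ K.subgroupOf H → q₀ x = q₀ y := by
    intro x y hxy
    rw [Subgroup.mem_subgroupOf] at hxy
    apply Subtype.ext
    show (x : G) * x = (y : G) * y
    set k : G := ((x⁻¹ * y : ↥H) : G) with hk
    have hy : (y : G) = x * k := by rw [hk]; push_cast; group
    rw [hy]
    have hc := hcent x x.2 k hxy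
    calc (x : G) * x = x * x * (k * k) := by rw [hK2 k hxy, mul_one]
      _ = x * (x * k) * k := by group
      _ = x * (k * x) * k := by rw [hc]
      _ = x * k * (x * k) := by group
  let q : (↥H ⧸ K.subgroupOf H) → (↥T ⧸ T₁.subgroupOf T) :=
    Quotient.lift (fun x : ↥H => (QuotientGroup.mk (q₀ x) : ↥T ⧸ T₁.subgroupOf T)) (by
      intro x y hxy
      have : x⁻¹ * y ∈ K.subgroupOf H := QuotientGroup.leftRel_apply.1 hxy
      show (QuotientGroup.mk (q₀ x) : ↥T ⧸ T₁.subgroupOf T) = QuotientGroup.mk (q₀ y)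
      rw [hq₀ x y this])
  have hqmk : ∀ x : ↥H, q (QuotientGroup.mk x) = QuotientGroup.mk (q₀ x) := fun x => rfl
  have hA : ∀ a : ↥H ⧸ K.subgroupOf H, a * a = 1 := by
    intro a
    induction a using QuotientGroup.induction_on with
    | H x =>
      rw [← QuotientGroup.mk_mul, QuotientGroup.eq_one_iff, Subgroup.mem_subgroupOf]
      exact hTK (hsq x x.2)
  have hM : ∀ y : ↥T ⧸ T₁.subgroupOf T, y * y = 1 := by
    intro y
    induction y using QuotientGroup.induction_on with
    | H t =>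
      rw [← QuotientGroup.mk_mul, QuotientGroup.eq_one_iff, Subgroup.mem_subgroupOf]
      have : ((t * t : ↥T) : G) = 1 := by
        push_cast; exact hK2 _ (hTK t.2)
      rw [this]; exact T₁.one_mem
  have hq : ∀ x y z : ↥H ⧸ K.subgroupOf H, q (x * y * z) * q (x * y) * q z
      = (q (x * z) * q x * q z) * (q (y * z) * q y * q z) := by
    intro x y z
    induction x using QuotientGroup.induction_on with
    | H x =>
    induction y using QuotientGroup.induction_on with
    | H y =>
    induction z using QuotientGroup.induction_on with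
    | H z =>
      simp only [← QuotientGroup.mk_mul, hqmk]
      congr 1
      apply Subtype.ext
      simp only [q₀, Subgroup.coe_mul]
      exact sq_quadratic H hcentral hord x.2 y.2 z.2
  have hcard' : Nat.card (↥T ⧸ T₁.subgroupOf T) ^ 2 < Nat.card (↥H ⧸ K.subgroupOf H) := hcard
  obtain ⟨a, ha, hqa⟩ := CW2.exists_ne_one_of_card_lt hA hM q hq hcard'
  induction a using QuotientGroup.induction_on with
  | H x =>
    refine ⟨x, x.2, ?_, ?_⟩
    · intro hxK
      apply ha
      rw [QuotientGroup.eq_one_iff, Subgroup.mem_subgroupOf]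
      exact hxK
    · rw [hqmk, QuotientGroup.eq_one_iff, Subgroup.mem_subgroupOf] at hqa
      exact hqa

section compl

/-- a subgroup containing all squares contains all commutators, hence every overgroup is normal -/
lemma normal_of_sq_mem {K W : Subgroup G} (hsq : ∀ x : G, x * x ∈ K) (hKW : K ≤ W) : W.Normal := by
  constructor
  intro n hn g
  have hc : n⁻¹ * g * n * g⁻¹ ∈ K := by
    have : n⁻¹ * g * n * g⁻¹ = (n⁻¹ * n⁻¹) * ((n * g) * (n * g)) * (g⁻¹ * g⁻¹) := by group
    rw [this]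
    exact K.mul_mem (K.mul_mem (hsq _) (hsq _)) (hsq _)
  have : g * n * g⁻¹ = n * (n⁻¹ * g * n * g⁻¹) := by group
  rw [this]
  exact W.mul_mem hn (hKW hc)

/-- elements of `W ⊔ ⟨x⟩` when `W` is normal and `x² ∈ W` -/
lemma mem_sup_zpowers {W : Subgroup G} (hWn : W.Normal) {x : G} (hx2 : x * x ∈ W) {g : G}
    (hg : g ∈ W ⊔ Subgroup.zpowers x) : g ∈ W ∨ g * x⁻¹ ∈ W := by
  have hset : ((W ⊔ Subgroup.zpowers x : Subgroup G) : Set G) = (W : Set G) * (Subgroup.zpowers x : Set G) :=
    Subgroup.normal_mul W (Subgroup.zpowers x)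
  have hg' : g ∈ (W : Set G) * (Subgroup.zpowers x : Set G) := by
    rw [← hset]; exact hg
  obtain ⟨w, hw, z, hz, rfl⟩ := Set.mem_mul.1 hg'
  obtain ⟨k, rfl⟩ := Subgroup.mem_zpowers_iff.1 hz
  rcases Int.even_or_odd k with ⟨j, rfl⟩ | ⟨j, rfl⟩
  · left
    have : x ^ (j + j) = (x * x) ^ j := by
      rw [← two_mul, zpow_mul, zpow_ofNat, pow_two]
    exact W.mul_mem hw (by rw [this]; exact W.zpow_mem hx2 j)
  · right
    have h1 : x ^ (2 * j + 1) = (x * x) ^ j * x := by
      rw [zpow_add, zpow_one, zpow_mul, zpow_ofNat, pow_two]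
    have : w * x ^ (2 * j + 1) * x⁻¹ = w * (x * x) ^ j := by
      rw [h1]; group
    rw [this]
    exact W.mul_mem hw (W.zpow_mem hx2 j)

end compl

section compl2

/-- In a finite group whose squares all lie in `K`, every subgroup `N' ≥ K` has a complement modulo
`K`. -/
theorem exists_compl_mod [Finite G] (K N' : Subgroup G) (hKN : K ≤ N') (hsq : ∀ x : G, x * x ∈ K) :
    ∃ W : Subgroup G, K ≤ W ∧ W ⊓ N' = K ∧ W ⊔ N' = ⊤ ∧ K.relIndex W = N'.index := by
  classical
  let S : Set (Subgroup G) := {W | K ≤ W ∧ W ⊓ N' = K}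
  have hSne : S.Nonempty := ⟨K, le_refl K, inf_eq_left.2 hKN⟩
  obtain ⟨W, hWS, hmax⟩ := Set.exists_max_image S (fun W => Nat.card W) (Set.toFinite S) hSne
  obtain ⟨hKW, hWN⟩ := hWS
  have hWn : W.Normal := normal_of_sq_mem hsq hKW
  have hN'n : N'.Normal := normal_of_sq_mem hsq hKN
  have htop : W ⊔ N' = ⊤ := by
    by_contra hne
    have hlt : W ⊔ N' < ⊤ := lt_top_iff_ne_top.2 hne
    obtain ⟨x, -, hx⟩ := SetLike.exists_of_lt hlt
    have hxW : x ∉ W := fun h => hx (Subgroup.mem_sup_left h)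
    let W' := W ⊔ Subgroup.zpowers x
    have hWW' : W ≤ W' := le_sup_left
    have hxW' : x ∈ W' := Subgroup.mem_sup_right (Subgroup.mem_zpowers x)
    have hW'S : W' ∈ S := by
      refine ⟨hKW.trans hWW', le_antisymm ?_ (le_inf (hKW.trans hWW') hKN)⟩
      intro g hg
      obtain ⟨hg1, hg2⟩ := Subgroup.mem_inf.1 hg
      rcases mem_sup_zpowers hWn (hKW (hsq x)) hg1 with h | h
      · rw [← hWN]; exact Subgroup.mem_inf.2 ⟨h, hg2⟩
      · exfalso
        apply hx
        have : x = (g * x⁻¹)⁻¹ * g := by group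
        rw [this]
        exact Subgroup.mul_mem_sup (W.inv_mem h) hg2
    have h1 : Nat.card W' ≤ Nat.card W := hmax W' hW'S
    have h2 : W < W' := lt_of_le_of_ne hWW' (fun h => hxW (h ▸ hxW'))
    exact h2.ne (Subgroup.eq_of_le_of_card_ge hWW' h1)
  refine ⟨W, hKW, hWN, htop, ?_⟩
  have e1 : N'.relIndex (W ⊔ N') = N'.relIndex W := Subgroup.relIndex_sup_right W N'
  rw [htop, Subgroup.relIndex_top_right] at e1
  rw [e1]
  conv_rhs => rw [← Subgroup.inf_relIndex_right, inf_comm, hWN]

end compl2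

end Cfsg.Agent.Lib.Helper96.SqMap
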