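import Cfsg.Agent.Lib.Helper49.StOpDefs

/-!
# K-StOp-C5a0 (keystone 254821): an isometry whose first `m` columns are upper triangular is in `B`
-/

set_option autoImplicit false
set_option linter.unusedSectionVars false
set_option linter.unusedVariables false

namespace Cfsg.Agent.Lib.Helper96.StOp

open Matrix Cfsg Cfsg.Agent.Lib.Helper49.StOp

variable {m : ℕ} {F : Type*} [Field F]

/-- the polar form of `Q(v) = ∑ x_i y_i` -/
def polarP (u v : OI m → F) : F := ∑ i : Fin m, (u (eI i) * v (fI i) + v (eI i) * u (fI i))

theorem quad_add (u v : OI m → F) :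
    Cfsg.quadFormPlus m F (u + v) =
      Cfsg.quadFormPlus m F u + Cfsg.quadFormPlus m F v + polarP u v := by
  unfold Cfsg.quadFormPlus polarP
  simp only [Pi.add_apply]
  rw [← Finset.sum_add_distrib, ← Finset.sum_add_distrib]
  refine Finset.sum_congr rfl (fun i _ => ?_)
  ring

theorem polar_mulVec (g : OG m F) (u v : OI m → F) :
    polarP (mat g *ᵥ u) (mat g *ᵥ v) = polarP u v := by
  have h1 := quad_add (mat g *ᵥ u) (mat g *ᵥ v)
  rw [← Matrix.mulVec_add, quad_mulVec, quad_mulVec, quad_mulVec, quad_add u v] at h1
  exact (add_left_cancel h1).symm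

theorem polar_single (l k : Fin m) :
    polarP (Pi.single (eI l) (1 : F)) (Pi.single (fI k) (1 : F)) = if l = k then 1 else 0 := by
  unfold polarP
  have h2 : ∀ i : Fin m, (Pi.single (fI k) (1 : F) : OI m → F) (eI i) = 0 := fun i =>
    Pi.single_eq_of_ne (by simp) _
  simp only [h2, zero_mul, add_zero]
  by_cases hlk : l = k
  · subst hlk
    rw [if_pos rfl, Finset.sum_eq_single l]
    · simp
    · intro i _ hne
      rw [Pi.single_eq_of_ne (by simpa using hne), zero_mul]
    · intro h; exact absurd (Finset.mem_univ l) h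
  · rw [if_neg hlk]
    refine Finset.sum_eq_zero (fun i _ => ?_)
    by_cases hil : i = l
    · subst hil
      have h3 : (Pi.single (fI k) (1 : F) : OI m → F) (fI i) = 0 :=
        Pi.single_eq_of_ne (by simpa using hlk) _
      rw [h3, mul_zero]
    · rw [Pi.single_eq_of_ne (by simpa using hil), zero_mul]

theorem polar_cols (g : OG m F) (l k : Fin m) :
    ∑ i : Fin m, (mat g (eI i) (eI l) * mat g (fI i) (fI k) +
      mat g (eI i) (fI k) * mat g (fI i) (eI l)) = if l = k then 1 else 0 := by
  have h := polar_mulVec g (Pi.single (eI l) (1 : F)) (Pi.single (fI k) (1 : F))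
  rw [polar_single] at h
  rw [← h]
  unfold polarP
  simp only [Matrix.mulVec_single_one, Matrix.col_apply]

/-- LEAF C5a0 -/
theorem flagStab_full_subset_B : FlagStab m F m ⊆ (Bsub m F : Set (OG m F)) := by
  intro g hg
  have hcol : ∀ (a : OI m) (l : Fin m), l.val < pos m a → mat g a (eI l) = 0 :=
    fun a l h => hg a (eI l) l.2 h
  have hfe : ∀ i l : Fin m, mat g (fI i) (eI l) = 0 := fun i l =>
    hcol (fI i) l (by
      show l.val < 2 * m - 1 - i.val
      have := i.2; have := l.2; omega)
  have hee : ∀ i l : Fin m, l < i → mat g (eI i) (eI l) = 0 := fun i l h =>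
    hcol (eI i) l h
  have hid : ∀ l k : Fin m, ∑ i : Fin m, mat g (eI i) (eI l) * mat g (fI i) (fI k) =
      if l = k then 1 else 0 := by
    intro l k
    rw [← polar_cols g l k]
    refine Finset.sum_congr rfl (fun i _ => ?_)
    rw [hfe i l, mul_zero, add_zero]
  have key : ∀ n : ℕ, ∀ l : Fin m, l.val = n →
      (mat g (eI l) (eI l) ≠ 0 ∧ ∀ k : Fin m, l < k → mat g (fI l) (fI k) = 0) := by
    intro n
    induction n using Nat.strong_induction_on with
    | _ n ih =>
      intro l hl
      have hC : ∀ i : Fin m, i < l → ∀ k : Fin m, i < k → mat g (fI i) (fI k) = 0 :=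
        fun i hi k hik => (ih i.val (by rw [← hl]; exact hi) i rfl).2 k hik
      have hsum : ∀ k : Fin m, l ≤ k →
          ∑ i : Fin m, mat g (eI i) (eI l) * mat g (fI i) (fI k) =
            mat g (eI l) (eI l) * mat g (fI l) (fI k) := by
        intro k hk
        apply Finset.sum_eq_single l
        · intro i _ hne
          rcases lt_or_gt_of_ne hne with h | h
          · rw [hC i h k (lt_of_lt_of_le h hk), mul_zero]
          · rw [hee i l h, zero_mul]
        · intro h; exact absurd (Finset.mem_univ l) h
      have hD : mat g (eI l) (eI l) ≠ 0 := by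
        intro h0
        have h1 := hid l l
        rw [hsum l le_rfl, h0, zero_mul, if_pos rfl] at h1
        exact zero_ne_one h1
      refine ⟨hD, fun k hk => ?_⟩
      have h1 := hid l k
      rw [hsum k hk.le, if_neg (ne_of_lt hk)] at h1
      exact (mul_eq_zero.mp h1).resolve_left hD
  rw [SetLike.mem_coe, mem_Bsub_iff]
  intro a b hab
  rcases b with l | k
  · exact hg a (Sum.inl l) l.2 hab
  · rcases a with i | l'
    · exfalso
      have h1 : 2 * m - 1 - k.val < i.val := hab
      have := i.2; have := k.2; omega
    · have h1 : 2 * m - 1 - k.val < 2 * m - 1 - l'.val := hab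
      have hlk : l' < k := by
        rw [Fin.lt_def]
        have := l'.2; have := k.2; omega
      exact (key l'.val l' rfl).2 k hlk

end Cfsg.Agent.Lib.Helper96.StOp
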