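import Mathlib
import Cfsg.Prelude.Def_SylowChains

set_option autoImplicit false
open Cfsg

namespace Cfsg.Agent.Lib.Helper96.SylChain

section generic

variable {H : Type*} [Group H]

/-- inductive form of the chains in `ControlsSylowIntersections` -/
inductive IChain (p : ℕ) (𝓕 : Set (Subgroup H)) (D : Subgroup H) : Sylow p H → Sylow p H → Prop
  | refl (S : Sylow p H) : IChain p 𝓕 D S S
  | step {S T U : Sylow p H} (X : Subgroup H) (x : H) :
      IChain p 𝓕 D S T → X ∈ sylowMembers p 𝓕 (T : Subgroup H) →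
      X ∈ sylowMembers p 𝓕 (U : Subgroup H) → x ∈ X →
      subgroupConjRight x (U : Subgroup H) = (T : Subgroup H) → D ≤ (U : Subgroup H) ⊓ X →
      IChain p 𝓕 D S U

theorem ichain_of_fin (p : ℕ) (𝓕 : Set (Subgroup H)) (D : Subgroup H) :
    ∀ (n : ℕ) (c : Fin (n + 1) → Sylow p H) (X : Fin n → Subgroup H) (x : Fin n → H),
      (∀ i : Fin n,
        X i ∈ sylowMembers p 𝓕 (c i.castSucc : Subgroup H) ∧
        X i ∈ sylowMembers p 𝓕 (c i.succ : Subgroup H) ∧
        x i ∈ X i ∧ subgroupConjRight (x i) (c i.succ : Subgroup H) = (c i.castSucc : Subgroup H) ∧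
        D ≤ (c i.succ : Subgroup H) ⊓ X i) →
      IChain p 𝓕 D (c 0) (c (Fin.last n)) := by
  intro n
  induction n with
  | zero =>
    intro c X x _
    exact IChain.refl _
  | succ n ih =>
    intro c X x h
    have ih' := ih (fun i => c i.castSucc) (fun i => X i.castSucc) (fun i => x i.castSucc)
      (fun i => by
        have := h i.castSucc
        rw [Fin.succ_castSucc] at this
        exact this)
    have hl := h (Fin.last n)
    have e1 : (Fin.last n).succ = Fin.last (n + 1) := Fin.succ_last n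
    rw [e1] at hl
    exact IChain.step (X (Fin.last n)) (x (Fin.last n)) ih' hl.1 hl.2.1 hl.2.2.1 hl.2.2.2.1 hl.2.2.2.2

theorem fin_of_ichain (p : ℕ) (𝓕 : Set (Subgroup H)) (D : Subgroup H) {S T : Sylow p H}
    (h : IChain p 𝓕 D S T) :
    ∃ (n : ℕ) (c : Fin (n + 1) → Sylow p H) (X : Fin n → Subgroup H) (x : Fin n → H),
      c 0 = S ∧ c (Fin.last n) = T ∧
      ∀ i : Fin n,
        X i ∈ sylowMembers p 𝓕 (c i.castSucc : Subgroup H) ∧
        X i ∈ sylowMembers p 𝓕 (c i.succ : Subgroup H) ∧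
        x i ∈ X i ∧ subgroupConjRight (x i) (c i.succ : Subgroup H) = (c i.castSucc : Subgroup H) ∧
        D ≤ (c i.succ : Subgroup H) ⊓ X i := by
  induction h with
  | refl =>
    exact ⟨0, fun _ => S, Fin.elim0, Fin.elim0, rfl, rfl, fun i => i.elim0⟩
  | @step T U X₀ x₀ _ h1 h2 h3 h4 h5 ih =>
    obtain ⟨n, c, X, x, hc0, hcl, hall⟩ := ih
    refine ⟨n + 1, Fin.snoc (α := fun _ => Sylow p H) c U,
      Fin.snoc (α := fun _ => Subgroup H) X X₀, Fin.snoc (α := fun _ => H) x x₀, ?_, ?_, ?_⟩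
    · have : (0 : Fin (n + 2)) = Fin.castSucc (0 : Fin (n + 1)) := rfl
      rw [this, Fin.snoc_castSucc]; exact hc0
    · rw [Fin.snoc_last]
    · intro i
      refine Fin.lastCases ?_ (fun j => ?_) i
      · rw [Fin.snoc_last, Fin.snoc_last, Fin.snoc_castSucc, Fin.succ_last, Fin.snoc_last, hcl]
        exact ⟨h1, h2, h3, h4, h5⟩
      · rw [Fin.snoc_castSucc, Fin.snoc_castSucc, Fin.snoc_castSucc, Fin.succ_castSucc,
          Fin.snoc_castSucc]
        exact hall j

theorem controls_iff (p : ℕ) (𝓕 : Set (Subgroup H)) :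
    ControlsSylowIntersections p 𝓕 ↔
      ∀ S T : Sylow p H, S ≠ T → (S : Subgroup H) ⊓ (T : Subgroup H) ≠ ⊥ →
        IChain p 𝓕 ((S : Subgroup H) ⊓ (T : Subgroup H)) S T := by
  constructor
  · intro h S T hne hm
    obtain ⟨n, c, X, x, h0, hl, hall⟩ := h S T hne hm
    have := ichain_of_fin p 𝓕 ((S : Subgroup H) ⊓ (T : Subgroup H)) n c X x hall
    rwa [h0, hl] at this
  · intro h S T hne hm
    exact fin_of_ichain p 𝓕 _ (h S T hne hm)

end generic

section ambient

variable {G : Type*} [Group G]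

/-- ambient description of the functor family -/
def AFam (p : ℕ) (f : Subgroup G → Set (Subgroup G)) (M : Subgroup G) : Set (Subgroup G) :=
  {X | ∃ P : Sylow p G, (P : Subgroup G) ≤ M ∧ ∃ F ∈ f (P : Subgroup G),
    X = M ⊓ Subgroup.normalizer (F : Set G)}

/-- ambient chains -/
inductive AChain (p : ℕ) (f : Subgroup G → Set (Subgroup G)) (M D : Subgroup G) :
    Sylow p G → Sylow p G → Prop
  | refl (S : Sylow p G) : AChain p f M D S S
  | step {S T U : Sylow p G} (X : Subgroup G) (x : G) :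
      AChain p f M D S T → X ∈ AFam p f M → (T : Subgroup G) ≤ X → (U : Subgroup G) ≤ X → x ∈ X →
      subgroupConjRight x (U : Subgroup G) = (T : Subgroup G) → D ≤ (U : Subgroup G) →
      AChain p f M D S U

variable {p : ℕ} {f : Subgroup G → Set (Subgroup G)} {M D : Subgroup G}

theorem AChain.trans {S T U : Sylow p G} (h1 : AChain p f M D S T) (h2 : AChain p f M D T U) :
    AChain p f M D S U := by
  induction h2 with
  | refl => exact h1
  | step X x _ hX hT hU hx hc hD ih => exact AChain.step X x ih hX hT hU hx hc hD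

theorem AChain.mono {D' : Subgroup G} (hD : D' ≤ D) {S T : Sylow p G} (h : AChain p f M D S T) :
    AChain p f M D' S T := by
  induction h with
  | refl => exact AChain.refl _
  | step X x _ hX hT hU hx hc hD2 ih => exact AChain.step X x ih hX hT hU hx hc (hD.trans hD2)

theorem AChain.to_top {S T : Sylow p G} (h : AChain p f M D S T) : AChain p f ⊤ D S T := by
  induction h with
  | refl => exact AChain.refl _
  | step X x _ hX hT hU hx hc hD2 ih =>
    obtain ⟨P, _, F, hF, rfl⟩ := hX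
    have hle : M ⊓ Subgroup.normalizer (F : Set G) ≤ ⊤ ⊓ Subgroup.normalizer (F : Set G) :=
      inf_le_inf_right _ le_top
    exact AChain.step (⊤ ⊓ Subgroup.normalizer (F : Set G)) x ih ⟨P, le_top, F, hF, rfl⟩
      (hT.trans hle) (hU.trans hle) (hle hx) hc hD2

theorem conj_comp (g x : G) :
    (MulAut.conj (g * x * g⁻¹)⁻¹).toMonoidHom.comp (MulAut.conj g).toMonoidHom =
      (MulAut.conj g).toMonoidHom.comp (MulAut.conj x⁻¹).toMonoidHom := by
  ext y
  simp only [MonoidHom.coe_comp, MulEquiv.coe_toMonoidHom, Function.comp_apply, MulAut.conj_apply]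
  group

theorem AChain.conj (hf : IsNormalizerFunctor p f) (g : G) {S T : Sylow p G}
    (h : AChain p f ⊤ D S T) :
    AChain p f ⊤ (D.map (MulAut.conj g).toMonoidHom) (g • S) (g • T) := by
  induction h with
  | refl => exact AChain.refl _
  | @step T U X x _ hX hT hU hx hc hD2 ih =>
    obtain ⟨P, _, F, hF, rfl⟩ := hX
    have hX' : (⊤ ⊓ Subgroup.normalizer (F : Set G)).map (MulAut.conj g).toMonoidHom ∈ AFam p f ⊤ := by
      refine ⟨g • P, le_top, F.map (MulAut.conj g).toMonoidHom, ?_, ?_⟩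
      · have := (hf (P : Subgroup G) P.isPGroup').2 g
        show F.map (MulAut.conj g).toMonoidHom ∈ f ((P : Subgroup G).map (MulAut.conj g).toMonoidHom)
        rw [this]
        exact ⟨F, hF, rfl⟩
      · rw [top_inf_eq, top_inf_eq]
        exact Subgroup.map_equiv_normalizer_eq F (MulAut.conj g)
    refine AChain.step _ ((MulAut.conj g) x) ih hX' ?_ ?_ ?_ ?_ ?_
    · show (T : Subgroup G).map (MulAut.conj g).toMonoidHom ≤ _
      exact Subgroup.map_mono hT
    · show (U : Subgroup G).map (MulAut.conj g).toMonoidHom ≤ _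
      exact Subgroup.map_mono hU
    · exact Subgroup.mem_map_of_mem _ hx
    · show ((U : Subgroup G).map (MulAut.conj g).toMonoidHom).map
          (MulAut.conj ((MulAut.conj g) x)⁻¹).toMonoidHom = (T : Subgroup G).map (MulAut.conj g).toMonoidHom
      rw [Subgroup.map_map, MulAut.conj_apply, conj_comp, ← Subgroup.map_map]
      congr 1
    · show D.map (MulAut.conj g).toMonoidHom ≤ (U : Subgroup G).map (MulAut.conj g).toMonoidHom
      exact Subgroup.map_mono hD2

section lifting

variable [Finite G] [Fact p.Prime]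

theorem exists_lift (hM : ∃ S₀ : Sylow p G, (S₀ : Subgroup G) ≤ M) (S' : Sylow p ↥M) :
    ∃ S : Sylow p G, (S : Subgroup G) = (S' : Subgroup ↥M).map M.subtype := by
  obtain ⟨S₀, h0⟩ := hM
  obtain ⟨m, hm⟩ := MulAction.exists_smul_eq ↥M (S₀.subtype h0) S'
  rw [Sylow.smul_subtype] at hm
  refine ⟨m • S₀, ?_⟩
  rw [← hm, Sylow.coe_subtype, Subgroup.subgroupOf_map_subtype]
  exact (inf_eq_left.mpr (Sylow.smul_le h0 m)).symm

/-- the Sylow subgroup of `G` given by a Sylow subgroup of `M` (when `M` contains a Sylow subgroup of `G`) -/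
noncomputable def liftS (hM : ∃ S₀ : Sylow p G, (S₀ : Subgroup G) ≤ M) (S' : Sylow p ↥M) : Sylow p G :=
  Classical.choose (exists_lift hM S')

theorem liftS_coe (hM : ∃ S₀ : Sylow p G, (S₀ : Subgroup G) ≤ M) (S' : Sylow p ↥M) :
    (liftS hM S' : Subgroup G) = (S' : Subgroup ↥M).map M.subtype :=
  Classical.choose_spec (exists_lift hM S')

theorem liftS_le (hM : ∃ S₀ : Sylow p G, (S₀ : Subgroup G) ≤ M) (S' : Sylow p ↥M) :
    (liftS hM S' : Subgroup G) ≤ M := by
  rw [liftS_coe]; exact Subgroup.map_subtype_le _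

theorem liftS_subtype (hM : ∃ S₀ : Sylow p G, (S₀ : Subgroup G) ≤ M) (S : Sylow p G)
    (h : (S : Subgroup G) ≤ M) : liftS hM (S.subtype h) = S := by
  apply Sylow.ext
  rw [liftS_coe, Sylow.coe_subtype, Subgroup.subgroupOf_map_subtype]
  exact inf_eq_left.mpr h

theorem subtype_liftS (hM : ∃ S₀ : Sylow p G, (S₀ : Subgroup G) ≤ M) (S' : Sylow p ↥M) :
    (liftS hM S').subtype (liftS_le hM S') = S' := by
  apply Sylow.ext
  rw [Sylow.coe_subtype, liftS_coe]
  exact Subgroup.comap_map_eq_self_of_injective (Subgroup.subtype_injective M) _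

theorem afam_eq (hM : ∃ S₀ : Sylow p G, (S₀ : Subgroup G) ≤ M) :
    functorFamily p f M = AFam p f M := by
  ext X
  constructor
  · rintro ⟨P', F, hF, rfl⟩
    refine ⟨liftS hM P', liftS_le hM P', F, ?_, rfl⟩
    rw [liftS_coe]; exact hF
  · rintro ⟨P, hP, F, hF, rfl⟩
    refine ⟨P.subtype hP, F, ?_, rfl⟩
    rw [Sylow.coe_subtype, Subgroup.subgroupOf_map_subtype, inf_eq_left.mpr hP]
    exact hF

theorem le_of_sylowMembers (hf : IsNormalizerFunctor p f)
    (hM : ∃ S₀ : Sylow p G, (S₀ : Subgroup G) ≤ M) {X' : Subgroup ↥M} {T' : Sylow p ↥M}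
    (h : X' ∈ sylowMembers p ((fun X : Subgroup G => X.subgroupOf M) '' functorFamily p f M)
      (T' : Subgroup ↥M)) :
    ∃ Y ∈ AFam p f M, X' = Y.subgroupOf M ∧ (liftS hM T' : Subgroup G) ≤ Y := by
  obtain ⟨⟨Y, hY, hXY⟩, Q, hQ⟩ := h
  dsimp only at hXY
  subst hXY
  rw [afam_eq hM] at hY
  refine ⟨Y, hY, rfl, ?_⟩
  obtain ⟨P, hP, F, hF, hYeq⟩ := hY
  have hPY : (P : Subgroup G) ≤ Y := by
    rw [hYeq]
    refine le_inf hP ?_
    exact (Subgroup.le_normalizer).trans ((hf (P : Subgroup G) P.isPGroup').1 F hF).2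
  -- the Sylow subgroup `P'` of `M`
  set P' : Sylow p ↥M := P.subtype hP with hP'
  have hP'X : (P' : Subgroup ↥M) ≤ Y.subgroupOf M := by
    intro y hy
    rw [hP', Sylow.coe_subtype, Subgroup.mem_subgroupOf] at hy
    rw [Subgroup.mem_subgroupOf]
    exact hPY hy
  -- cardinalities
  have hc1 : Nat.card (T' : Subgroup ↥M) = Nat.card (P' : Subgroup ↥M) := by
    rw [Sylow.card_eq_multiplicity, Sylow.card_eq_multiplicity]
  have hpg : IsPGroup p ↥((P' : Subgroup ↥M).subgroupOf (Y.subgroupOf M)) :=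
    P'.isPGroup'.comap_subtype
  obtain ⟨Q₂, hQ₂⟩ := hpg.exists_le_sylow
  have hc2 : Nat.card ((P' : Subgroup ↥M).subgroupOf (Y.subgroupOf M)) = Nat.card (P' : Subgroup ↥M) :=
    Nat.card_congr (Subgroup.subgroupOfEquivOfLe hP'X).toEquiv
  have hc3 : Nat.card (Q₂ : Subgroup ↥(Y.subgroupOf M)) = Nat.card (Q : Subgroup ↥(Y.subgroupOf M)) := by
    rw [Sylow.card_eq_multiplicity, Sylow.card_eq_multiplicity]
  have hc4 : Nat.card ((Q : Subgroup ↥(Y.subgroupOf M)).map (Y.subgroupOf M).subtype) =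
      Nat.card (Q : Subgroup ↥(Y.subgroupOf M)) :=
    Subgroup.card_map_of_injective (Subgroup.subtype_injective _)
  have hc5 : Nat.card (T' : Subgroup ↥M) ≤
      Nat.card ((T' : Subgroup ↥M) ⊓ Y.subgroupOf M : Subgroup ↥M) := by
    rw [← hQ, hc4, ← hc3, hc1, ← hc2]
    exact Subgroup.card_le_of_le hQ₂
  have hTX : (T' : Subgroup ↥M) ≤ Y.subgroupOf M := by
    have := Subgroup.eq_of_le_of_card_ge (inf_le_left : (T' : Subgroup ↥M) ⊓ Y.subgroupOf M ≤ T') hc5
    rw [← this]; exact inf_le_right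
  rw [liftS_coe]
  calc (T' : Subgroup ↥M).map M.subtype ≤ (Y.subgroupOf M).map M.subtype := Subgroup.map_mono hTX
    _ = Y ⊓ M := Subgroup.subgroupOf_map_subtype _ _
    _ ≤ Y := inf_le_left

theorem subtype_conj_comp (x' : ↥M) :
    M.subtype.comp (MulAut.conj x'⁻¹).toMonoidHom =
      (MulAut.conj (x' : G)⁻¹).toMonoidHom.comp M.subtype := by
  ext y
  simp [MulAut.conj_apply]

theorem achain_of_ichain (hf : IsNormalizerFunctor p f)
    (hM : ∃ S₀ : Sylow p G, (S₀ : Subgroup G) ≤ M) {D' : Subgroup ↥M} {S' T' : Sylow p ↥M}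
    (h : IChain p ((fun X : Subgroup G => X.subgroupOf M) '' functorFamily p f M) D' S' T') :
    AChain p f M (D'.map M.subtype) (liftS hM S') (liftS hM T') := by
  induction h with
  | refl => exact AChain.refl _
  | @step T' U' X' x' _ h1 h2 h3 h4 h5 ih =>
    obtain ⟨Y, hY, hXY, hTY⟩ := le_of_sylowMembers hf hM h1
    obtain ⟨Y₂, _, hXY₂, hUY₂⟩ := le_of_sylowMembers hf hM h2
    have hYM : Y ≤ M := by
      obtain ⟨P, hP, F, hF, rfl⟩ := hY
      exact inf_le_left
    have hUY : (liftS hM U' : Subgroup G) ≤ Y := by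
      -- `U' ≤ X' = Y.subgroupOf M`
      have hU'X : (U' : Subgroup ↥M) ≤ X' := by
        rw [hXY₂]
        intro y hy
        rw [Subgroup.mem_subgroupOf]
        apply hUY₂
        rw [liftS_coe]
        exact Subgroup.mem_map_of_mem M.subtype hy
      rw [liftS_coe]
      calc (U' : Subgroup ↥M).map M.subtype ≤ X'.map M.subtype := Subgroup.map_mono hU'X
        _ = Y ⊓ M := by rw [hXY]; exact Subgroup.subgroupOf_map_subtype _ _
        _ ≤ Y := inf_le_left
    refine AChain.step Y (x' : G) ih hY hTY hUY ?_ ?_ ?_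
    · rw [hXY, Subgroup.mem_subgroupOf] at h3; exact h3
    · show ((liftS hM U' : Subgroup G)).map (MulAut.conj (x' : G)⁻¹).toMonoidHom = _
      rw [liftS_coe, liftS_coe, Subgroup.map_map, ← subtype_conj_comp, ← Subgroup.map_map]
      congr 1
    · rw [liftS_coe]
      exact Subgroup.map_mono (h5.trans inf_le_left)

theorem ichain_of_achain {D : Subgroup G} {S T : Sylow p G}
    (h : AChain p f ⊤ D S T) :
    IChain p ((fun X : Subgroup G => X.subgroupOf ⊤) '' functorFamily p f ⊤) (D.subgroupOf ⊤)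
      (S.subtype le_top) (T.subtype le_top) := by
  have hM : ∃ S₀ : Sylow p G, (S₀ : Subgroup G) ≤ (⊤ : Subgroup G) := ⟨S, le_top⟩
  induction h with
  | refl => exact IChain.refl _
  | @step T U X x _ hX hT hU hx hc hD ih =>
    have key : ∀ V : Sylow p G, (V : Subgroup G) ≤ X →
        X.subgroupOf ⊤ ∈ sylowMembers p ((fun X : Subgroup G => X.subgroupOf ⊤) '' functorFamily p f ⊤)
          ((V.subtype le_top : Sylow p ↥(⊤ : Subgroup G)) : Subgroup ↥(⊤ : Subgroup G)) := by
      intro V hV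
      refine ⟨⟨X, by rw [afam_eq hM]; exact hX, rfl⟩, ?_⟩
      have hle : ((V.subtype le_top : Sylow p ↥(⊤ : Subgroup G)) : Subgroup ↥(⊤ : Subgroup G)) ≤
          X.subgroupOf ⊤ := by
        intro y hy
        rw [Sylow.coe_subtype, Subgroup.mem_subgroupOf] at hy
        rw [Subgroup.mem_subgroupOf]
        exact hV hy
      refine ⟨(V.subtype le_top).subtype hle, ?_⟩
      rw [Sylow.coe_subtype (V.subtype le_top) hle]
      exact Subgroup.subgroupOf_map_subtype _ _
    refine IChain.step (X.subgroupOf ⊤) ⟨x, Subgroup.mem_top x⟩ ih (key T hT) (key U hU) ?_ ?_ ?_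
    · rw [Subgroup.mem_subgroupOf]; exact hx
    · apply Subgroup.map_injective (Subgroup.subtype_injective (⊤ : Subgroup G))
      show (((U.subtype le_top : Sylow p ↥(⊤ : Subgroup G)) : Subgroup ↥(⊤ : Subgroup G)).map
        (MulAut.conj (⟨x, Subgroup.mem_top x⟩ : ↥(⊤ : Subgroup G))⁻¹).toMonoidHom).map
          (⊤ : Subgroup G).subtype = _
      rw [Subgroup.map_map, subtype_conj_comp, ← Subgroup.map_map, Sylow.coe_subtype,
        Sylow.coe_subtype, Subgroup.subgroupOf_map_subtype, Subgroup.subgroupOf_map_subtype,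
        inf_top_eq, inf_top_eq]
      exact hc
    · intro y hy
      rw [Subgroup.mem_subgroupOf] at hy
      refine ⟨?_, ?_⟩
      · show y ∈ ((U.subtype le_top : Sylow p ↥(⊤ : Subgroup G)) : Subgroup ↥(⊤ : Subgroup G))
        rw [Sylow.coe_subtype, Subgroup.mem_subgroupOf]
        exact hD hy
      · show y ∈ X.subgroupOf ⊤
        rw [Subgroup.mem_subgroupOf]
        exact hU (hD hy)

theorem mem_smul_sylow (a : G) (S : Sylow p G) (y : G) :
    y ∈ ((a • S : Sylow p G) : Subgroup G) ↔ a⁻¹ * y * a ∈ (S : Subgroup G) := by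
  rw [Sylow.coe_subgroup_smul, Subgroup.mem_pointwise_smul_iff_inv_smul_mem]
  simp [MulAut.smul_def, MulAut.conj_apply]

/-- a regular subgroup containing a Sylow subgroup of `G`: ambient chains between the Sylow subgroups
of `G` inside it. -/
theorem achain_of_regular (hf : IsNormalizerFunctor p f)
    (hM : ∃ S₀ : Sylow p G, (S₀ : Subgroup G) ≤ M) (hr : IsFunctorRegular p f M)
    (S T : Sylow p G) (hS : (S : Subgroup G) ≤ M) (hT : (T : Subgroup G) ≤ M)
    (D : Subgroup G) (hDS : D ≤ (S : Subgroup G)) (hDT : D ≤ (T : Subgroup G)) (hD : D ≠ ⊥) :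
    AChain p f M D S T := by
  by_cases hST : S = T
  · subst hST; exact AChain.refl _
  have hne : S.subtype hS ≠ T.subtype hT := fun h => hST (Sylow.subtype_injective h)
  have hmeet : ((S.subtype hS : Sylow p ↥M) : Subgroup ↥M) ⊓ ((T.subtype hT : Sylow p ↥M) : Subgroup ↥M) ≠ ⊥ := by
    intro hbot
    apply hD
    rw [Subgroup.eq_bot_iff_forall]
    intro d hd
    have hmem : (⟨d, hS (hDS hd)⟩ : ↥M) ∈
        ((S.subtype hS : Sylow p ↥M) : Subgroup ↥M) ⊓ ((T.subtype hT : Sylow p ↥M) : Subgroup ↥M) := by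
      refine ⟨?_, ?_⟩
      · show _ ∈ ((S.subtype hS : Sylow p ↥M) : Subgroup ↥M)
        rw [Sylow.coe_subtype, Subgroup.mem_subgroupOf]; exact hDS hd
      · show _ ∈ ((T.subtype hT : Sylow p ↥M) : Subgroup ↥M)
        rw [Sylow.coe_subtype, Subgroup.mem_subgroupOf]; exact hDT hd
    rw [hbot, Subgroup.mem_bot] at hmem
    exact congrArg Subtype.val hmem
  have h1 := (controls_iff p _).1 hr (S.subtype hS) (T.subtype hT) hne hmeet
  have h2 := achain_of_ichain hf hM h1
  rw [liftS_subtype, liftS_subtype] at h2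
  refine h2.mono ?_
  intro d hd
  refine ⟨⟨d, hS (hDS hd)⟩, ⟨?_, ?_⟩, rfl⟩
  · show _ ∈ ((S.subtype hS : Sylow p ↥M) : Subgroup ↥M)
    rw [Sylow.coe_subtype, Subgroup.mem_subgroupOf]; exact hDS hd
  · show _ ∈ ((T.subtype hT : Sylow p ↥M) : Subgroup ↥M)
    rw [Sylow.coe_subtype, Subgroup.mem_subgroupOf]; exact hDT hd

end lifting

end ambient

end Cfsg.Agent.Lib.Helper96.SylChain
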