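import Mathlib
import Cfsg.Prelude.Def_SylowChains
import Cfsg.Agent.Lib.Helper96.SylChain

set_option autoImplicit false
open Cfsg

namespace Cfsg.Agent.Lib.Helper96.SylChain

section generic2

variable {H : Type*} [Group H] {p : ℕ} {𝓕 : Set (Subgroup H)} {D : Subgroup H}

theorem IChain.trans {S T U : Sylow p H} (h1 : IChain p 𝓕 D S T) (h2 : IChain p 𝓕 D T U) :
    IChain p 𝓕 D S U := by
  induction h2 with
  | refl => exact h1
  | step X x _ hX hT hx hc hD ih => exact IChain.step X x ih hX hT hx hc hD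

theorem IChain.mono {D' : Subgroup H} (hD : D' ≤ D) {S T : Sylow p H} (h : IChain p 𝓕 D S T) :
    IChain p 𝓕 D' S T := by
  induction h with
  | refl => exact IChain.refl _
  | step X x _ hX hT hx hc hD2 ih => exact IChain.step X x ih hX hT hx hc (hD.trans hD2)

theorem IChain.le_right {S T : Sylow p H} (h : IChain p 𝓕 D S T) (hS : D ≤ (S : Subgroup H)) :
    D ≤ (T : Subgroup H) := by
  cases h with
  | refl => exact hS
  | step X x _ hX hT hx hc hD2 => exact hD2.trans inf_le_left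

theorem conjRight_inv {x : H} {U T : Subgroup H} (h : subgroupConjRight x U = T) :
    subgroupConjRight x⁻¹ T = U := by
  rw [← h]
  show (U.map (MulAut.conj x⁻¹).toMonoidHom).map (MulAut.conj x⁻¹⁻¹).toMonoidHom = U
  rw [Subgroup.map_map]
  have : (MulAut.conj x⁻¹⁻¹).toMonoidHom.comp (MulAut.conj x⁻¹).toMonoidHom = MonoidHom.id H := by
    ext y; simp [MulAut.conj_apply, mul_assoc]
  rw [this, Subgroup.map_id]

theorem IChain.symm {S T : Sylow p H} (h : IChain p 𝓕 D S T) (hS : D ≤ (S : Subgroup H)) :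
    IChain p 𝓕 D T S := by
  induction h with
  | refl => exact IChain.refl _
  | @step T U X x hprev hX hU hx hc hD2 ih =>
    have hT : D ≤ (T : Subgroup H) := hprev.le_right hS
    have hDX : D ≤ X := hD2.trans inf_le_right
    have s1 : IChain p 𝓕 D U T :=
      IChain.step X x⁻¹ (IChain.refl U) hU hX (X.inv_mem hx) (conjRight_inv hc) (le_inf hT hDX)
    exact s1.trans ih

end generic2

section sylof

variable {G : Type*} [Group G] {p : ℕ} {M : Subgroup G}

/-- the Sylow `p`-subgroups of `M`, as subgroups of `G` -/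
def SylOf (p : ℕ) (M : Subgroup G) : Set (Subgroup G) :=
  {Q | ∃ Q' : Sylow p ↥M, (Q' : Subgroup ↥M).map M.subtype = Q}

theorem sylOf_le {Q : Subgroup G} (h : Q ∈ SylOf p M) : Q ≤ M := by
  obtain ⟨Q', rfl⟩ := h; exact Subgroup.map_subtype_le _

theorem sylOf_isPGroup {Q : Subgroup G} (h : Q ∈ SylOf p M) : IsPGroup p ↥Q := by
  obtain ⟨Q', rfl⟩ := h; exact Q'.isPGroup'.map _

theorem subtype_conj_comp' (m : ↥M) :
    M.subtype.comp (MulAut.conj m).toMonoidHom =
      (MulAut.conj (m : G)).toMonoidHom.comp M.subtype := by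
  ext y
  simp

variable [Finite G] [Fact p.Prime]

theorem sylOf_card {Q : Subgroup G} (h : Q ∈ SylOf p M) :
    Nat.card Q = p ^ (Nat.card M).factorization p := by
  obtain ⟨Q', rfl⟩ := h
  rw [Subgroup.card_map_of_injective (Subgroup.subtype_injective M), Sylow.card_eq_multiplicity]

theorem exists_sylOf_ge {P : Subgroup G} (hPM : P ≤ M) (hP : IsPGroup p ↥P) :
    ∃ Q ∈ SylOf p M, P ≤ Q := by
  have hp : IsPGroup p ↥(P.subgroupOf M) := hP.comap_subtype
  obtain ⟨Q', hQ'⟩ := hp.exists_le_sylow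
  refine ⟨(Q' : Subgroup ↥M).map M.subtype, ⟨Q', rfl⟩, ?_⟩
  intro y hy
  exact ⟨⟨y, hPM hy⟩, hQ' (by rw [Subgroup.mem_subgroupOf]; exact hy), rfl⟩

theorem sylOf_eq_of_le {Q P : Subgroup G} (hQ : Q ∈ SylOf p M) (hQP : Q ≤ P) (hPM : P ≤ M)
    (hP : IsPGroup p ↥P) : P = Q := by
  obtain ⟨Q₂, hQ₂, hPQ₂⟩ := exists_sylOf_ge hPM hP
  have hc : Nat.card Q₂ ≤ Nat.card Q := by rw [sylOf_card hQ, sylOf_card hQ₂]
  have : Q = Q₂ := Subgroup.eq_of_le_of_card_ge (hQP.trans hPQ₂) hc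
  exact le_antisymm (this ▸ hPQ₂) hQP

theorem sylow_inf_eq {R : Sylow p G} {Q : Subgroup G} (hQ : Q ∈ SylOf p M)
    (hQR : Q ≤ (R : Subgroup G)) : (R : Subgroup G) ⊓ M = Q :=
  sylOf_eq_of_le hQ (le_inf hQR (sylOf_le hQ)) inf_le_right (R.isPGroup'.to_le inf_le_left)

theorem conj_mem_sylOf {Q : Subgroup G} (hQ : Q ∈ SylOf p M) {m : G} (hm : m ∈ M) :
    Q.map (MulAut.conj m).toMonoidHom ∈ SylOf p M := by
  obtain ⟨Q', rfl⟩ := hQ
  refine ⟨(⟨m, hm⟩ : ↥M) • Q', ?_⟩
  show ((Q' : Subgroup ↥M).map (MulAut.conj (⟨m, hm⟩ : ↥M)).toMonoidHom).map M.subtype = _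
  rw [Subgroup.map_map, subtype_conj_comp', ← Subgroup.map_map]

theorem sylOf_conj {Q₁ Q₂ : Subgroup G} (h1 : Q₁ ∈ SylOf p M) (h2 : Q₂ ∈ SylOf p M) :
    ∃ m ∈ M, Q₂ = Q₁.map (MulAut.conj m).toMonoidHom := by
  obtain ⟨Q₁', rfl⟩ := h1
  obtain ⟨Q₂', rfl⟩ := h2
  obtain ⟨m, hm⟩ := MulAction.exists_smul_eq ↥M Q₁' Q₂'
  refine ⟨(m : G), m.2, ?_⟩
  rw [← hm]
  show ((Q₁' : Subgroup ↥M).map (MulAut.conj m).toMonoidHom).map M.subtype = _
  rw [Subgroup.map_map, subtype_conj_comp', ← Subgroup.map_map]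

theorem sylow_mem_sylOf (R : Sylow p G) (h : (R : Subgroup G) ≤ M) : (R : Subgroup G) ∈ SylOf p M := by
  refine ⟨R.subtype h, ?_⟩
  rw [Sylow.coe_subtype, Subgroup.subgroupOf_map_subtype]
  exact inf_eq_left.mpr h

end sylof

section bchain

variable {G : Type*} [Group G]

/-- ambient chains of Sylow subgroups of `M` for the functor family of `M` -/
inductive BChain (p : ℕ) (f : Subgroup G → Set (Subgroup G)) (M D : Subgroup G) :
    Subgroup G → Subgroup G → Prop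
  | refl (Q : Subgroup G) : BChain p f M D Q Q
  | step {Q T U : Subgroup G} (F Q' : Subgroup G) (x : G) :
      BChain p f M D Q T → Q' ∈ SylOf p M → F ∈ f Q' →
      T ≤ Subgroup.normalizer (F : Set G) → U ≤ Subgroup.normalizer (F : Set G) →
      U ∈ SylOf p M → x ∈ M → x ∈ Subgroup.normalizer (F : Set G) →
      subgroupConjRight x U = T → D ≤ U → BChain p f M D Q U

variable {p : ℕ} {f : Subgroup G → Set (Subgroup G)} {M : Subgroup G}

theorem BChain.mono {D D' : Subgroup G} (hD : D' ≤ D) {S T : Subgroup G} (h : BChain p f M D S T) :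
    BChain p f M D' S T := by
  induction h with
  | refl => exact BChain.refl _
  | step F Q' x _ h1 h2 h3 h4 h5 h6 h7 h8 h9 ih =>
    exact BChain.step F Q' x ih h1 h2 h3 h4 h5 h6 h7 h8 (hD.trans h9)

variable [Finite G] [Fact p.Prime]

theorem le_of_sylowMembers' (hf : IsNormalizerFunctor p f) {X' : Subgroup ↥M} {T' : Sylow p ↥M}
    (h : X' ∈ sylowMembers p ((fun X : Subgroup G => X.subgroupOf M) '' functorFamily p f M)
      (T' : Subgroup ↥M)) :
    ∃ Q' ∈ SylOf p M, ∃ F ∈ f Q', X' = (M ⊓ Subgroup.normalizer (F : Set G)).subgroupOf M ∧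
      (T' : Subgroup ↥M).map M.subtype ≤ Subgroup.normalizer (F : Set G) := by
  obtain ⟨⟨Y, hY, hXY⟩, Q, hQ⟩ := h
  dsimp only at hXY
  subst hXY
  obtain ⟨P', F, hF, hYeq⟩ := hY
  refine ⟨(P' : Subgroup ↥M).map M.subtype, ⟨P', rfl⟩, F, hF, by rw [hYeq], ?_⟩
  have hP'pg : IsPGroup p ↥((P' : Subgroup ↥M).map M.subtype) := P'.isPGroup'.map _
  have hPY : (P' : Subgroup ↥M).map M.subtype ≤ Y := by
    rw [hYeq]
    refine le_inf (Subgroup.map_subtype_le _) ?_
    exact (Subgroup.le_normalizer).trans ((hf _ hP'pg).1 F hF).2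
  have hP'X : (P' : Subgroup ↥M) ≤ Y.subgroupOf M := by
    intro y hy
    rw [Subgroup.mem_subgroupOf]
    exact hPY (Subgroup.mem_map_of_mem M.subtype hy)
  have hc1 : Nat.card (T' : Subgroup ↥M) = Nat.card (P' : Subgroup ↥M) := by
    rw [Sylow.card_eq_multiplicity, Sylow.card_eq_multiplicity]
  have hpg : IsPGroup p ↥((P' : Subgroup ↥M).subgroupOf (Y.subgroupOf M)) :=
    P'.isPGroup'.comap_subtype
  obtain ⟨Q₂, hQ₂⟩ := hpg.exists_le_sylow
  have hc2 : Nat.card ((P' : Subgroup ↥M).subgroupOf (Y.subgroupOf M)) = Nat.card (P' : Subgroup ↥M) :=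
    Nat.card_congr (Subgroup.subgroupOfEquivOfLe hP'X).toEquiv
  have hc3 : Nat.card (Q₂ : Subgroup ↥(Y.subgroupOf M)) = Nat.card (Q : Subgroup ↥(Y.subgroupOf M)) := by
    rw [Sylow.card_eq_multiplicity, Sylow.card_eq_multiplicity]
  have hc4 : Nat.card ((Q : Subgroup ↥(Y.subgroupOf M)).map (Y.subgroupOf M).subtype) =
      Nat.card (Q : Subgroup ↥(Y.subgroupOf M)) :=
    Subgroup.card_map_of_injective (Subgroup.subtype_injective _)
  have hc5 : Nat.card (T' : Subgroup ↥M) ≤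
      Nat.card ((T' : Subgroup ↥M) ⊓ Y.subgroupOf M : Subgroup ↥M) := by
    rw [← hQ, hc4, ← hc3, hc1, ← hc2]
    exact Subgroup.card_le_of_le hQ₂
  have hTX : (T' : Subgroup ↥M) ≤ Y.subgroupOf M := by
    have := Subgroup.eq_of_le_of_card_ge (inf_le_left : (T' : Subgroup ↥M) ⊓ Y.subgroupOf M ≤ T') hc5
    rw [← this]; exact inf_le_right
  calc (T' : Subgroup ↥M).map M.subtype ≤ (Y.subgroupOf M).map M.subtype := Subgroup.map_mono hTX
    _ = Y ⊓ M := Subgroup.subgroupOf_map_subtype _ _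
    _ ≤ Y := inf_le_left
    _ ≤ Subgroup.normalizer (F : Set G) := by rw [hYeq]; exact inf_le_right

theorem bchain_of_ichain (hf : IsNormalizerFunctor p f) {D' : Subgroup ↥M} {S' T' : Sylow p ↥M}
    (h : IChain p ((fun X : Subgroup G => X.subgroupOf M) '' functorFamily p f M) D' S' T') :
    BChain p f M (D'.map M.subtype) ((S' : Subgroup ↥M).map M.subtype)
      ((T' : Subgroup ↥M).map M.subtype) := by
  induction h with
  | refl => exact BChain.refl _
  | @step T' U' X' x' _ h1 h2 h3 h4 h5 ih =>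
    obtain ⟨Q', hQ', F, hF, hXF, hTF⟩ := le_of_sylowMembers' hf h1
    -- `U' ≤ X'`, from the second membership
    obtain ⟨Q₂', _, F₂, _, hXF₂, hUF₂⟩ := le_of_sylowMembers' hf h2
    have hU'X : (U' : Subgroup ↥M) ≤ X' := by
      rw [hXF₂]
      intro y hy
      rw [Subgroup.mem_subgroupOf]
      exact ⟨y.2, hUF₂ (Subgroup.mem_map_of_mem M.subtype hy)⟩
    have hUF : (U' : Subgroup ↥M).map M.subtype ≤ Subgroup.normalizer (F : Set G) := by
      calc (U' : Subgroup ↥M).map M.subtype ≤ X'.map M.subtype := Subgroup.map_mono hU'X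
        _ = (M ⊓ Subgroup.normalizer (F : Set G)) ⊓ M := by
            rw [hXF]; exact Subgroup.subgroupOf_map_subtype _ _
        _ ≤ Subgroup.normalizer (F : Set G) := inf_le_left.trans inf_le_right
    have hxF : (x' : G) ∈ Subgroup.normalizer (F : Set G) := by
      rw [hXF, Subgroup.mem_subgroupOf] at h3; exact h3.2
    refine BChain.step F Q' (x' : G) ih hQ' hF hTF hUF ⟨U', rfl⟩ x'.2 hxF ?_ ?_
    · show ((U' : Subgroup ↥M).map M.subtype).map (MulAut.conj (x' : G)⁻¹).toMonoidHom = _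
      rw [Subgroup.map_map, ← subtype_conj_comp, ← Subgroup.map_map]
      congr 1
    · exact Subgroup.map_mono (h5.trans inf_le_left)

/-- chains inside a regular subgroup, in ambient form -/
theorem bchain_of_regular (hf : IsNormalizerFunctor p f) (hr : IsFunctorRegular p f M)
    {Q₁ Q₂ : Subgroup G} (h1 : Q₁ ∈ SylOf p M) (h2 : Q₂ ∈ SylOf p M) (D : Subgroup G)
    (hD1 : D ≤ Q₁) (hD2 : D ≤ Q₂) (hD : D ≠ ⊥) : BChain p f M D Q₁ Q₂ := by
  obtain ⟨Q₁', rfl⟩ := h1
  obtain ⟨Q₂', rfl⟩ := h2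
  by_cases hne : Q₁' = Q₂'
  · subst hne; exact BChain.refl _
  have hDM : D ≤ M := hD1.trans (Subgroup.map_subtype_le _)
  have hmem : ∀ d (hd : d ∈ D), (⟨d, hDM hd⟩ : ↥M) ∈ (Q₁' : Subgroup ↥M) ⊓ (Q₂' : Subgroup ↥M) := by
    intro d hd
    refine ⟨?_, ?_⟩
    · obtain ⟨z, hz, hzd⟩ := hD1 hd
      have : z = ⟨d, hDM hd⟩ := Subtype.ext hzd
      exact this ▸ hz
    · obtain ⟨z, hz, hzd⟩ := hD2 hd
      have : z = ⟨d, hDM hd⟩ := Subtype.ext hzd
      exact this ▸ hz
  have hmeet : (Q₁' : Subgroup ↥M) ⊓ (Q₂' : Subgroup ↥M) ≠ ⊥ := by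
    intro hbot
    apply hD
    rw [Subgroup.eq_bot_iff_forall]
    intro d hd
    have := hmem d hd
    rw [hbot, Subgroup.mem_bot] at this
    exact congrArg Subtype.val this
  have c := (controls_iff p _).1 hr Q₁' Q₂' hne hmeet
  refine (bchain_of_ichain hf c).mono ?_
  intro d hd
  exact ⟨⟨d, hDM hd⟩, hmem d hd, rfl⟩

end bchain

end Cfsg.Agent.Lib.Helper96.SylChain
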