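import Mathlib
import Cfsg.Prelude.Def_SylowChains
import Cfsg.Agent.Lib.Helper96.SylChain2

set_option autoImplicit false
open Cfsg

namespace Cfsg.Agent.Lib.Helper96.SylChain

section main

variable {G : Type*} [Group G] [Finite G] {p : ℕ} [Fact p.Prime]

theorem normalizer_growth {R D : Subgroup G} (hR : IsPGroup p ↥R) (hDR : D ≤ R) (hne : D ≠ R) :
    Nat.card D < Nat.card ↥(R ⊓ Subgroup.normalizer (D : Set G)) := by
  have : Group.IsNilpotent ↥R := hR.isNilpotent
  have hlt : D.subgroupOf R < ⊤ := by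
    rw [lt_top_iff_ne_top, Ne, Subgroup.subgroupOf_eq_top]
    intro h; exact hne (le_antisymm hDR h)
  have h2 := normalizerCondition_of_isNilpotent (D.subgroupOf R) hlt
  obtain ⟨y, hyN, hyD⟩ := SetLike.exists_of_lt h2
  have hyD' : (y : G) ∉ D := by
    intro h; exact hyD (by rw [Subgroup.mem_subgroupOf]; exact h)
  have hyN' : (y : G) ∈ Subgroup.normalizer (D : Set G) := by
    rw [Subgroup.mem_normalizer_iff] at hyN ⊢
    intro h
    constructor
    · intro hh
      have := (hyN ⟨h, hDR hh⟩).1 (by rw [Subgroup.mem_subgroupOf]; exact hh)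
      rw [Subgroup.mem_subgroupOf] at this
      exact this
    · intro hh
      have hhR : h ∈ R := by
        have h1 : (y : G) * h * (y : G)⁻¹ ∈ R := hDR hh
        have h2 : (y : G)⁻¹ * ((y : G) * h * (y : G)⁻¹) * (y : G) ∈ R :=
          R.mul_mem (R.mul_mem (R.inv_mem y.2) h1) y.2
        simpa [mul_assoc] using h2
      have := (hyN ⟨h, hhR⟩).2 (by rw [Subgroup.mem_subgroupOf]; exact hh)
      rw [Subgroup.mem_subgroupOf] at this
      exact this
  have hle : D ≤ R ⊓ Subgroup.normalizer (D : Set G) := le_inf hDR Subgroup.le_normalizer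
  by_contra hcon
  have hcon := not_lt.1 hcon
  have := Subgroup.eq_of_le_of_card_ge hle hcon
  apply hyD'
  rw [this]
  exact ⟨y.2, hyN'⟩

theorem exists_maximalPLocal {N : Subgroup G} (hN : IsPLocal p N) :
    ∃ M, IsMaximalPLocal p M ∧ N ≤ M := by
  have hfin : ({L : Subgroup G | IsPLocal p L ∧ N ≤ L}).Finite := Set.toFinite _
  obtain ⟨M, hM⟩ := hfin.exists_maximal ⟨N, hN, le_rfl⟩
  refine ⟨M, ⟨hM.1.1, ?_⟩, hM.1.2⟩
  intro N' hN' hMN'
  exact le_antisymm (hM.2 ⟨hN', hM.1.2.trans hMN'⟩ hMN') hMN'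

/-- the family of the statement -/
def Fam (p : ℕ) (f : Subgroup G → Set (Subgroup G)) : Set (Subgroup G) :=
  functorFamily p f ⊤ ∪ {M | IsMaximalPLocal p M ∧ ¬ IsFunctorRegular p f M}

variable {f : Subgroup G → Set (Subgroup G)}

theorem smul_conjRight (x : G) (R : Sylow p G) :
    subgroupConjRight x ((x • R : Sylow p G) : Subgroup G) = (R : Subgroup G) := by
  show ((R : Subgroup G).map (MulAut.conj x).toMonoidHom).map (MulAut.conj x⁻¹).toMonoidHom = _
  rw [Subgroup.map_map]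
  have : (MulAut.conj x⁻¹).toMonoidHom.comp (MulAut.conj x).toMonoidHom = MonoidHom.id G := by
    ext y; simp [MulAut.conj_apply, mul_assoc]
  rw [this, Subgroup.map_id]

theorem mem_of_conjRight {x : G} {U T : Subgroup G} (h : subgroupConjRight x U = T) {y : G}
    (hy : y ∈ U) : x⁻¹ * y * x ∈ T := by
  rw [← h]
  refine ⟨y, hy, ?_⟩
  simp [MulAut.conj_apply]

theorem step_F {R₁ : Sylow p G} {F Q' : Subgroup G} {x : G}
    (hQ' : Nat.card Q' = p ^ (Nat.card G).factorization p) (hF : F ∈ f Q')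
    (hR : (R₁ : Subgroup G) ≤ Subgroup.normalizer (F : Set G))
    (hx : x ∈ Subgroup.normalizer (F : Set G)) (D : Subgroup G)
    (hD : D ≤ ((x • R₁ : Sylow p G) : Subgroup G)) :
    IChain p (Fam p f) D R₁ (x • R₁) := by
  set X : Subgroup G := ⊤ ⊓ Subgroup.normalizer (F : Set G) with hX
  have hXF : X ∈ Fam p f := by
    left
    rw [afam_eq ⟨R₁, le_top⟩]
    exact ⟨Sylow.ofCard Q' hQ', le_top, F, hF, rfl⟩
  have hR₁X : (R₁ : Subgroup G) ≤ X := le_inf le_top hR
  have hR₂X : ((x • R₁ : Sylow p G) : Subgroup G) ≤ X := by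
    refine le_inf le_top ?_
    intro y hy
    rw [mem_smul_sylow] at hy
    have h1 := hR hy
    have h2 : x * (x⁻¹ * y * x) * x⁻¹ ∈ Subgroup.normalizer (F : Set G) :=
      Subgroup.mul_mem _ (Subgroup.mul_mem _ hx h1) (Subgroup.inv_mem _ hx)
    simpa [mul_assoc] using h2
  have key : ∀ V : Sylow p G, (V : Subgroup G) ≤ X → X ∈ sylowMembers p (Fam p f) (V : Subgroup G) := by
    intro V hV
    refine ⟨hXF, V.subtype hV, ?_⟩
    rw [Sylow.coe_subtype]
    exact Subgroup.subgroupOf_map_subtype _ _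
  exact IChain.step X x (IChain.refl R₁) (key R₁ hR₁X) (key _ hR₂X)
    (Subgroup.mem_inf.2 ⟨Subgroup.mem_top x, hx⟩)
    (smul_conjRight x R₁) (le_inf hD (hD.trans hR₂X))

theorem smul_inf_eq {M : Subgroup G} {x : G} (hx : x ∈ M) (R : Sylow p G) :
    ((x • R : Sylow p G) : Subgroup G) ⊓ M = ((R : Subgroup G) ⊓ M).map (MulAut.conj x).toMonoidHom := by
  ext y
  rw [Subgroup.mem_inf, mem_smul_sylow]
  constructor
  · rintro ⟨h1, h2⟩
    refine ⟨x⁻¹ * y * x, ⟨h1, M.mul_mem (M.mul_mem (M.inv_mem hx) h2) hx⟩, ?_⟩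
    simp [MulAut.conj_apply, mul_assoc]
  · rintro ⟨z, ⟨hz1, hz2⟩, rfl⟩
    have e : x⁻¹ * (MulAut.conj x).toMonoidHom z * x = z := by simp [MulAut.conj_apply, mul_assoc]
    refine ⟨by rw [e]; exact hz1, ?_⟩
    show x * z * x⁻¹ ∈ M
    exact M.mul_mem (M.mul_mem hx hz2) (M.inv_mem hx)

theorem step_M {M : Subgroup G} (hM : IsMaximalPLocal p M) (hs : ¬ IsFunctorRegular p f M)
    {R : Sylow p G} (hRM : (R : Subgroup G) ⊓ M ∈ SylOf p M) {x : G} (hx : x ∈ M) (D : Subgroup G)
    (hD : D ≤ ((x • R : Sylow p G) : Subgroup G)) (hDM : D ≤ M) :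
    IChain p (Fam p f) D R (x • R) := by
  have hMF : M ∈ Fam p f := Or.inr ⟨hM, hs⟩
  have h2 : ((x • R : Sylow p G) : Subgroup G) ⊓ M ∈ SylOf p M := by
    rw [smul_inf_eq hx]; exact conj_mem_sylOf hRM hx
  exact IChain.step M x (IChain.refl R) ⟨hMF, hRM⟩ ⟨hMF, h2⟩ hx (smul_conjRight x R) (le_inf hD hDM)

theorem lift_bchain {M D : Subgroup G}
    (stepH : ∀ (R₁ : Sylow p G) (F Q' T U : Subgroup G) (x₁ : G), Q' ∈ SylOf p M → F ∈ f Q' →
      T ∈ SylOf p M → T ≤ (R₁ : Subgroup G) → T ≤ Subgroup.normalizer (F : Set G) →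
      U ≤ Subgroup.normalizer (F : Set G) → x₁ ∈ M → x₁ ∈ Subgroup.normalizer (F : Set G) →
      subgroupConjRight x₁ U = T → D ≤ T → D ≤ U → IChain p (Fam p f) D R₁ (x₁ • R₁))
    {Q T : Subgroup G} (h : BChain p f M D Q T) (hQ : Q ∈ SylOf p M) (hDQ : D ≤ Q)
    (R : Sylow p G) (hQR : Q ≤ (R : Subgroup G)) :
    T ∈ SylOf p M ∧ D ≤ T ∧ ∃ R' : Sylow p G, T ≤ (R' : Subgroup G) ∧ IChain p (Fam p f) D R R' := by
  induction h with
  | refl => exact ⟨hQ, hDQ, R, hQR, IChain.refl _⟩
  | @step T U F Q' x _ h1 h2 h3 h4 h5 h6 h7 h8 h9 ih =>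
    obtain ⟨hT, hDT, R₁, hTR₁, c⟩ := ih
    refine ⟨h5, h9, x • R₁, ?_, c.trans (stepH R₁ F Q' T U x h1 h2 hT hTR₁ h3 h4 h6 h7 h8 hDT h9)⟩
    intro y hy
    rw [mem_smul_sylow]
    exact hTR₁ (mem_of_conjRight h8 hy)

theorem factorization_le_of_le (M : Subgroup G) :
    (Nat.card M).factorization p ≤ (Nat.card G).factorization p :=
  (Nat.factorization_le_iff_dvd Nat.card_pos.ne' Nat.card_pos.ne').2 (Subgroup.card_subgroup_dvd_card M) p

theorem local_step (hf : IsNormalizerFunctor p f)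
    (hf1 : ∀ P : Subgroup G, IsPGroup p ↥P → P ≠ ⊥ → ∀ F ∈ f P, F ≠ ⊥)
    (d : ℕ)
    (IHmain : ∀ S T : Sylow p G, ∀ D : Subgroup G, D ≤ (S : Subgroup G) ⊓ T →
      d < Nat.card ↥((S : Subgroup G) ⊓ T) → IChain p (Fam p f) D S T) :
    ∀ (k : ℕ) (M : Subgroup G), IsMaximalPLocal p M →
      (Nat.card G).factorization p - (Nat.card M).factorization p ≤ k →
      ∀ (R : Sylow p G) (x : G) (D : Subgroup G), (R : Subgroup G) ⊓ M ∈ SylOf p M → x ∈ M →
        D ≠ ⊥ → d < p ^ (Nat.card M).factorization p →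
        D ≤ (R : Subgroup G) → D ≤ ((x • R : Sylow p G) : Subgroup G) → D ≤ M →
        IChain p (Fam p f) D R (x • R) := by
  intro k
  induction k using Nat.strong_induction_on with
  | _ k ih =>
  intro M hMmax hk R x D hRM hx hD hdM hDR hDxR hDM
  have hp : p.Prime := Fact.out
  by_cases hreg : IsFunctorRegular p f M
  swap
  · exact step_M hMmax hreg hRM hx D hDxR hDM
  -- regular case
  set Q : Subgroup G := (R : Subgroup G) ⊓ M with hQdef
  have hQ₂ : ((x • R : Sylow p G) : Subgroup G) ⊓ M ∈ SylOf p M := by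
    rw [smul_inf_eq hx]; exact conj_mem_sylOf hRM hx
  have hDQ : D ≤ Q := le_inf hDR hDM
  have hDQ₂ : D ≤ ((x • R : Sylow p G) : Subgroup G) ⊓ M := le_inf hDxR hDM
  have bc := bchain_of_regular hf hreg hRM hQ₂ D hDQ hDQ₂ hD
  -- the step capability
  have stepH : ∀ (R₁ : Sylow p G) (F Q' T U : Subgroup G) (x₁ : G), Q' ∈ SylOf p M → F ∈ f Q' →
      T ∈ SylOf p M → T ≤ (R₁ : Subgroup G) → T ≤ Subgroup.normalizer (F : Set G) →
      U ≤ Subgroup.normalizer (F : Set G) → x₁ ∈ M → x₁ ∈ Subgroup.normalizer (F : Set G) →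
      subgroupConjRight x₁ U = T → D ≤ T → D ≤ U → IChain p (Fam p f) D R₁ (x₁ • R₁) := by
    intro R₁ F Q' T U x₁ hQ' hF hT hTR₁ hTF hUF hx₁M hx₁F hconj hDT hDU
    have hcardT : Nat.card T = p ^ (Nat.card M).factorization p := sylOf_card hT
    have hcardQ' : Nat.card Q' = p ^ (Nat.card M).factorization p := sylOf_card hQ'
    have hUsub : ∀ y ∈ U, x₁⁻¹ * y * x₁ ∈ T := fun y hy => mem_of_conjRight hconj hy
    have hDxR₁ : D ≤ ((x₁ • R₁ : Sylow p G) : Subgroup G) := by
      intro y hy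
      rw [mem_smul_sylow]
      exact hTR₁ (hUsub y (hDU hy))
    by_cases hfull : (Nat.card M).factorization p = (Nat.card G).factorization p
    · -- (a)
      have hTeq : T = (R₁ : Subgroup G) := by
        apply Subgroup.eq_of_le_of_card_ge hTR₁
        rw [hcardT, hfull, Sylow.card_eq_multiplicity]
      have hR₁F : (R₁ : Subgroup G) ≤ Subgroup.normalizer (F : Set G) := hTeq ▸ hTF
      exact step_F (hfull ▸ hcardQ') hF hR₁F hx₁F D hDxR₁
    · -- (b)
      have hlt : (Nat.card M).factorization p < (Nat.card G).factorization p :=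
        lt_of_le_of_ne (factorization_le_of_le M) hfull
      have hQ'pg : IsPGroup p ↥Q' := sylOf_isPGroup hQ'
      have hTne : T ≠ ⊥ := by
        intro h; apply hD; rw [h] at hDT; exact le_bot_iff.mp hDT
      have hQ'ne : Q' ≠ ⊥ := by
        intro h
        apply hTne
        have h1 : Nat.card T = 1 := by rw [hcardT, ← hcardQ', h]; simp
        exact Subgroup.card_eq_one.mp h1
      have hFne : F ≠ ⊥ := hf1 Q' hQ'pg hQ'ne F hF
      have hFQ' := (hf Q' hQ'pg).1 F hF
      have hFpg : IsPGroup p ↥F := hQ'pg.to_le hFQ'.1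
      obtain ⟨M', hM'max, hLM'⟩ := exists_maximalPLocal (p := p)
        (N := Subgroup.normalizer (F : Set G)) ⟨F, hFpg, hFne, rfl⟩
      -- larger `p`-part
      have hmp : (Nat.card M).factorization p < (Nat.card M').factorization p := by
        obtain ⟨R'', hR''⟩ := hQ'pg.exists_le_sylow
        have hne : Q' ≠ (R'' : Subgroup G) := by
          intro h
          have h1 : Nat.card Q' = Nat.card (R'' : Subgroup G) := by rw [← h]
          rw [hcardQ', Sylow.card_eq_multiplicity] at h1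
          exact hfull (Nat.pow_right_injective hp.two_le h1)
        have hg := normalizer_growth R''.isPGroup' hR'' hne
        have hsub : (R'' : Subgroup G) ⊓ Subgroup.normalizer (Q' : Set G) ≤ M' :=
          (inf_le_right.trans hFQ'.2).trans hLM'
        obtain ⟨P₀, hP₀, hle⟩ := exists_sylOf_ge hsub (R''.isPGroup'.to_le inf_le_left)
        have h3 := Subgroup.card_le_of_le hle
        rw [sylOf_card hP₀] at h3
        rw [hcardQ'] at hg
        exact (Nat.pow_lt_pow_iff_right hp.one_lt).1 (lt_of_lt_of_le hg h3)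
      have hTM' : T ≤ M' := hTF.trans hLM'
      obtain ⟨P', hP', hleP'⟩ := exists_sylOf_ge (M := M') (P := (R₁ : Subgroup G) ⊓ M')
        inf_le_right (R₁.isPGroup'.to_le inf_le_left)
      obtain ⟨R', hR'⟩ := (sylOf_isPGroup hP').exists_le_sylow
      have hR'M' : (R' : Subgroup G) ⊓ M' = P' := sylow_inf_eq hP' hR'
      have hTR' : T ≤ (R' : Subgroup G) := (le_inf hTR₁ hTM').trans (hleP'.trans hR')
      have hdT : d < Nat.card T := by rw [hcardT]; exact hdM
      have c1 : IChain p (Fam p f) D R₁ R' := by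
        refine IHmain R₁ R' D (le_inf (hDT.trans hTR₁) (hDT.trans hTR')) ?_
        exact lt_of_lt_of_le hdT (Subgroup.card_le_of_le (le_inf hTR₁ hTR'))
      have hx₁M' : x₁ ∈ M' := hLM' hx₁F
      have hDxR' : D ≤ ((x₁ • R' : Sylow p G) : Subgroup G) := by
        intro y hy
        rw [mem_smul_sylow]
        exact hTR' (hUsub y (hDU hy))
      have hle' := factorization_le_of_le (p := p) M'
      have c2 : IChain p (Fam p f) D R' (x₁ • R') := by
        refine ih ((Nat.card G).factorization p - (Nat.card M').factorization p) (by omega) M'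
          hM'max le_rfl R' x₁ D (hR'M' ▸ hP') hx₁M' hD ?_ (hDT.trans hTR') hDxR' (hDT.trans hTM')
        exact lt_trans hdM (Nat.pow_lt_pow_right hp.one_lt hmp)
      -- `U` lies in both conjugates
      have hU1 : U ≤ ((x₁ • R' : Sylow p G) : Subgroup G) := by
        intro y hy; rw [mem_smul_sylow]; exact hTR' (hUsub y hy)
      have hU2 : U ≤ ((x₁ • R₁ : Sylow p G) : Subgroup G) := by
        intro y hy; rw [mem_smul_sylow]; exact hTR₁ (hUsub y hy)
      have hcardU : Nat.card U = Nat.card T := by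
        rw [← hconj]
        exact (Subgroup.card_map_of_injective (MulAut.conj x₁⁻¹).injective).symm
      have c3 : IChain p (Fam p f) D (x₁ • R') (x₁ • R₁) := by
        refine IHmain _ _ D (le_inf (hDU.trans hU1) (hDU.trans hU2)) ?_
        exact lt_of_lt_of_le (hcardU ▸ hdT) (Subgroup.card_le_of_le (le_inf hU1 hU2))
      exact c1.trans (c2.trans c3)
  obtain ⟨hTS, _, R', hR', c⟩ := lift_bchain stepH bc hRM hDQ R inf_le_left
  have hcard₂ := sylOf_card hTS
  have c' : IChain p (Fam p f) D R' (x • R) := by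
    refine IHmain R' (x • R) D (le_inf (hDQ₂.trans hR') hDxR) ?_
    refine lt_of_lt_of_le (hcard₂ ▸ hdM) (Subgroup.card_le_of_le (le_inf hR' inf_le_left))
  exact c.trans c'

theorem sylow_eq_of_le {S T : Sylow p G} (h : (S : Subgroup G) ≤ T) : S = T := by
  apply Sylow.ext
  apply Subgroup.eq_of_le_of_card_ge h
  rw [Sylow.card_eq_multiplicity, Sylow.card_eq_multiplicity]

theorem controls_main (hf : IsNormalizerFunctor p f)
    (hf1 : ∀ P : Subgroup G, IsPGroup p ↥P → P ≠ ⊥ → ∀ F ∈ f P, F ≠ ⊥) :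
    ControlsSylowIntersections p (Fam p f) := by
  rw [controls_iff]
  suffices h : ∀ n, ∀ S T : Sylow p G, S ≠ T → (S : Subgroup G) ⊓ T ≠ ⊥ →
      Nat.card G - Nat.card ↥((S : Subgroup G) ⊓ T) = n →
      IChain p (Fam p f) ((S : Subgroup G) ⊓ T) S T from fun S T h1 h2 => h _ S T h1 h2 rfl
  intro n
  induction n using Nat.strong_induction_on with
  | _ n ih =>
  intro S T hne hmeet hn
  have hp : p.Prime := Fact.out
  set D : Subgroup G := (S : Subgroup G) ⊓ T with hD
  set d := Nat.card D with hd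
  have hd1 : 1 ≤ d := Nat.card_pos
  have hdG : d ≤ Nat.card G := Subgroup.card_le_card_group D
  have IHmain : ∀ S' T' : Sylow p G, ∀ D' : Subgroup G, D' ≤ (S' : Subgroup G) ⊓ T' →
      d < Nat.card ↥((S' : Subgroup G) ⊓ T') → IChain p (Fam p f) D' S' T' := by
    intro S' T' D' hD' hlt
    by_cases hST : S' = T'
    · subst hST; exact IChain.refl _
    have hne' : (S' : Subgroup G) ⊓ T' ≠ ⊥ := by
      intro h
      rw [h] at hlt
      simp at hlt
      omega
    have hle : Nat.card ↥((S' : Subgroup G) ⊓ T') ≤ Nat.card G := Subgroup.card_le_card_group _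
    exact (ih _ (by omega) S' T' hST hne' rfl).mono hD'
  -- the local subgroup
  have hDpg : IsPGroup p ↥D := S.isPGroup'.to_le inf_le_left
  obtain ⟨M, hMmax, hNM⟩ := exists_maximalPLocal (p := p)
    (N := Subgroup.normalizer (D : Set G)) ⟨D, hDpg, hmeet, rfl⟩
  have hDM : D ≤ M := Subgroup.le_normalizer.trans hNM
  have hDS : D ≠ (S : Subgroup G) := by
    intro h
    apply hne
    apply sylow_eq_of_le
    rw [← h]; exact inf_le_right
  have hDT : D ≠ (T : Subgroup G) := by
    intro h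
    apply hne
    symm
    apply sylow_eq_of_le
    rw [← h]; exact inf_le_left
  have gS := normalizer_growth S.isPGroup' (inf_le_left : D ≤ S) hDS
  have gT := normalizer_growth T.isPGroup' (inf_le_right : D ≤ T) hDT
  -- Sylow subgroups of `M`
  obtain ⟨QS, hQS, hleS⟩ := exists_sylOf_ge (M := M)
    (P := (S : Subgroup G) ⊓ Subgroup.normalizer (D : Set G)) (inf_le_right.trans hNM)
    (S.isPGroup'.to_le inf_le_left)
  obtain ⟨QT, hQT, hleT⟩ := exists_sylOf_ge (M := M)
    (P := (T : Subgroup G) ⊓ Subgroup.normalizer (D : Set G)) (inf_le_right.trans hNM)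
    (T.isPGroup'.to_le inf_le_left)
  obtain ⟨RS, hRS⟩ := (sylOf_isPGroup hQS).exists_le_sylow
  obtain ⟨RT, hRT⟩ := (sylOf_isPGroup hQT).exists_le_sylow
  have hRSM : (RS : Subgroup G) ⊓ M = QS := sylow_inf_eq hQS hRS
  obtain ⟨m, hmM, hQTeq⟩ := sylOf_conj hQS hQT
  have hDN : D ≤ (S : Subgroup G) ⊓ Subgroup.normalizer (D : Set G) := le_inf inf_le_left Subgroup.le_normalizer
  have hDN' : D ≤ (T : Subgroup G) ⊓ Subgroup.normalizer (D : Set G) := le_inf inf_le_right Subgroup.le_normalizer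
  have hDQS : D ≤ QS := hDN.trans hleS
  have hDQT : D ≤ QT := hDN'.trans hleT
  have hdQS : d < Nat.card QS := lt_of_lt_of_le gS (Subgroup.card_le_of_le hleS)
  have hdQT : d < Nat.card QT := lt_of_lt_of_le gT (Subgroup.card_le_of_le hleT)
  have hdM : d < p ^ (Nat.card M).factorization p := by rw [← sylOf_card hQS]; exact hdQS
  -- chain 1
  have c1 : IChain p (Fam p f) D S RS := by
    refine IHmain S RS D (le_inf inf_le_left (hDQS.trans hRS)) ?_
    refine lt_of_lt_of_le gS (Subgroup.card_le_of_le ?_)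
    exact le_inf inf_le_left (hleS.trans hRS)
  -- chain 2
  have hQTm : QT ≤ ((m • RS : Sylow p G) : Subgroup G) := by
    rw [hQTeq]
    rintro _ ⟨z, hz, rfl⟩
    rw [mem_smul_sylow]
    have e : m⁻¹ * (MulAut.conj m).toMonoidHom z * m = z := by simp [MulAut.conj_apply, mul_assoc]
    rw [e]; exact hRS hz
  have c2 : IChain p (Fam p f) D RS (m • RS) :=
    local_step hf hf1 d IHmain _ M hMmax le_rfl RS m D (hRSM ▸ hQS) hmM hmeet hdM
      (hDQS.trans hRS) (hDQT.trans hQTm) hDM
  -- chain 3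
  have c3 : IChain p (Fam p f) D (m • RS) RT := by
    refine IHmain (m • RS) RT D (le_inf (hDQT.trans hQTm) (hDQT.trans hRT)) ?_
    exact lt_of_lt_of_le hdQT (Subgroup.card_le_of_le (le_inf hQTm hRT))
  -- chain 4
  have c4' : IChain p (Fam p f) D T RT := by
    refine IHmain T RT D (le_inf inf_le_right (hDQT.trans hRT)) ?_
    refine lt_of_lt_of_le gT (Subgroup.card_le_of_le ?_)
    exact le_inf inf_le_left (hleT.trans hRT)
  have c4 : IChain p (Fam p f) D RT T := c4'.symm inf_le_right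
  exact c1.trans (c2.trans (c3.trans c4))

end main

end Cfsg.Agent.Lib.Helper96.SylChain
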